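import Cfsg.Agent.Lib.MinIndexOrth.Main

/-!
The inequalities for fields with at least four elements.
-/

set_option autoImplicit false

namespace CfsgLib.MinIndexOrth

variable {Fq k T : ℕ}

theorem num_four (hq : 4 ≤ Fq) (hk : 5 ≤ k) (hT : T * (Fq - 1) ≤ Fq ^ (k + 1) + Fq ^ (k / 2 + 1)) :
    Num Fq k T ∧ T * (2 * (Fq - 1)) ≤ Fq ^ 2 * (L1 Fq k * L2 Fq k) := by
  obtain ⟨a, ha⟩ : ∃ a, a = Fq ^ (k - 3) := ⟨_, rfl⟩
  have hpow : ∀ i j, i ≤ j → Fq ^ i ≤ Fq ^ j := fun i j h => Nat.pow_le_pow_right (by omega) h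
  have e1 : Fq ^ (k - 1) = Fq ^ 2 * a := by rw [ha, ← pow_add]; congr 1; omega
  have e2 : Fq ^ (k - 2) = Fq * a := by rw [ha, ← pow_succ']; congr 1; omega
  have e3 : Fq ^ k = Fq ^ 3 * a := by rw [ha, ← pow_add]; congr 1; omega
  have hh : Fq ^ (k / 2) ≤ a := ha ▸ hpow _ _ (by omega)
  have haq : Fq ^ 2 ≤ a := ha ▸ hpow _ _ (by omega)
  have hq2 : 16 ≤ Fq ^ 2 := le_trans (by norm_num) (Nat.pow_le_pow_left hq 2)
  have hL1 : 7 * (Fq ^ 2 * a) ≤ 8 * L1 Fq k := by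
    have : 16 * a ≤ Fq ^ 2 * a := Nat.mul_le_mul_right _ hq2
    rw [L1, e1]; omega
  have hL2 : 11 * (Fq * a) ≤ 16 * L2 Fq k := by
    have h1 : 4 * a ≤ Fq * a := Nat.mul_le_mul_right _ hq
    have h2 : 4 * Fq ≤ a := le_trans (by rw [sq]; exact Nat.mul_le_mul_right _ hq) haq
    rw [L2, e2]; omega
  have hL : 77 * (Fq ^ 3 * (a * a)) ≤ 128 * (L1 Fq k * L2 Fq k) := by
    calc 77 * (Fq ^ 3 * (a * a)) = 7 * (Fq ^ 2 * a) * (11 * (Fq * a)) := by ring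
      _ ≤ 8 * L1 Fq k * (16 * L2 Fq k) := Nat.mul_le_mul hL1 hL2
      _ = _ := by ring
  have hT' : 48 * T ≤ 65 * Fq ^ k := by
    have h1 : 16 * Fq ^ (k / 2 + 1) ≤ Fq ^ (k + 1) := by
      calc 16 * Fq ^ (k / 2 + 1) ≤ Fq ^ 2 * Fq ^ (k / 2 + 1) := Nat.mul_le_mul_right _ hq2
        _ = Fq ^ (k / 2 + 3) := by ring
        _ ≤ _ := hpow _ _ (by omega)
    have h2 : 4 * 16 * Fq ^ (k / 2 + 1) ≤ Fq ^ (k + 1) := by
      calc 4 * 16 * Fq ^ (k / 2 + 1) ≤ Fq * Fq ^ 2 * Fq ^ (k / 2 + 1) :=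
            Nat.mul_le_mul_right _ (Nat.mul_le_mul hq hq2)
        _ = Fq ^ (k / 2 + 4) := by ring
        _ ≤ _ := hpow _ _ (by omega)
    obtain ⟨r, rfl⟩ : ∃ r, Fq = r + 1 := ⟨Fq - 1, by omega⟩
    rw [Nat.add_sub_cancel] at hT
    have h4 : 3 * (r + 1) ≤ 4 * r := by omega
    refine Nat.le_of_mul_le_mul_right ?_ (show 0 < r by omega)
    refine Nat.le_of_mul_le_mul_left ?_ (show 0 < 4 by norm_num)
    calc 4 * (48 * T * r) = 3 * (64 * (T * r)) := by ring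
      _ ≤ 3 * (64 * ((r + 1) ^ (k + 1) + (r + 1) ^ (k / 2 + 1))) :=
        Nat.mul_le_mul_left _ (Nat.mul_le_mul_left _ hT)
      _ ≤ 3 * (65 * (r + 1) ^ (k + 1)) := Nat.mul_le_mul_left _ (by omega)
      _ = 65 * (3 * (r + 1)) * (r + 1) ^ k := by ring
      _ ≤ 65 * (4 * r) * (r + 1) ^ k := Nat.mul_le_mul_right _ (Nat.mul_le_mul_left _ h4)
      _ = 4 * (65 * (r + 1) ^ k * r) := by ring
  rw [e3] at hT'
  have hpos : 0 < Fq ^ 3 * a := Nat.mul_pos (pow_pos (by omega) _) (by omega)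
  -- the orbit of a pair
  have hC : (k = 5 → 29 * (Fq ^ 3 * (a * a)) ≤ 64 * C2 Fq k) ∧
      (k ≠ 5 → 77 * (Fq ^ 3 * (a * a)) ≤ 128 * C2 Fq k) := by
    refine ⟨fun h5 => ?_, fun h5 => by rw [C2, if_neg h5]; exact hL⟩
    subst h5
    rw [C2, if_pos rfl]
    have hmin : 29 * (Fq ^ 3 * (a * a)) ≤ 64 * ((Fq ^ 4 - 1) * (Fq ^ 3 - Fq) / 2) := by
      have f1 : 255 * Fq ^ 4 ≤ 256 * (Fq ^ 4 - 1) := by
        have : 256 ≤ Fq ^ 4 := le_trans (by norm_num) (Nat.pow_le_pow_left hq 4)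
        omega
      have f2 : 15 * Fq ^ 3 ≤ 16 * (Fq ^ 3 - Fq) := by
        have : 16 * Fq ≤ Fq ^ 3 := by
          calc 16 * Fq ≤ Fq ^ 2 * Fq := Nat.mul_le_mul_right _ hq2
            _ = _ := by ring
        omega
      have f3 : 3825 * Fq ^ 7 ≤ 4096 * ((Fq ^ 4 - 1) * (Fq ^ 3 - Fq)) := by
        calc 3825 * Fq ^ 7 = 255 * Fq ^ 4 * (15 * Fq ^ 3) := by ring
          _ ≤ 256 * (Fq ^ 4 - 1) * (16 * (Fq ^ 3 - Fq)) := Nat.mul_le_mul f1 f2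
          _ = _ := by ring
      rw [show Fq ^ 3 * (a * a) = Fq ^ 7 by rw [ha]; ring]
      have : 4096 ≤ Fq ^ 7 := le_trans (by norm_num) (Nat.pow_le_pow_left hq 7)
      omega
    rcases min_choice (L1 Fq 5 * L2 Fq 5) ((Fq ^ 4 - 1) * (Fq ^ 3 - Fq) / 2) with h | h <;> rw [h]
    · omega
    · exact hmin
  refine ⟨⟨?_, ?_, ?_, ?_, ?_⟩, ?_⟩
  · rw [e3]; omega
  · -- the annihilator
    refine le_trans (Nat.mul_le_mul_left _ (Nat.mul_le_mul (Nat.sub_le _ _) (Nat.sub_le _ _))) ?_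
    rw [show T * (cutR Fq k * cutR Fq k) = cutR Fq k * (T * cutR Fq k) by ring]
    refine Nat.mul_le_mul_left _ (Nat.le_of_mul_le_mul_left ?_ (show 0 < 48 * 128 * 6 by norm_num))
    have hR : T * cutR Fq k * 48 ≤ cutR Fq k * (65 * (Fq ^ 3 * a)) := by
      calc T * cutR Fq k * 48 = cutR Fq k * (48 * T) := by ring
        _ ≤ _ := Nat.mul_le_mul_left _ hT'
    by_cases h5 : k = 5
    · have hr : 3 * cutR Fq k ≤ a := by
        rw [cutR, if_pos h5, ha, h5]; exact Nat.mul_div_le _ _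
      have := hC.1 h5
      calc 48 * 128 * 6 * (T * cutR Fq k) = 128 * 6 * (T * cutR Fq k * 48) := by ring
        _ ≤ 128 * 6 * (cutR Fq k * (65 * (Fq ^ 3 * a))) := Nat.mul_le_mul_left _ hR
        _ = 16640 * (Fq ^ 3 * a) * (3 * cutR Fq k) := by ring
        _ ≤ 16640 * (Fq ^ 3 * a) * a := Nat.mul_le_mul_left _ hr
        _ = 16640 * (Fq ^ 3 * (a * a)) := by ring
        _ ≤ 48 * 128 * 6 * C2 Fq k := by omega
    · have hr : cutR Fq k * Fq ≤ a * 1 := by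
        rw [mul_one, ha, cutR, if_neg h5]
        split_ifs with h6
        · rw [h6, ← pow_succ]
        · refine le_trans (Nat.mul_le_mul_right _ (Nat.div_le_self _ _)) ?_
          rw [← pow_succ]; exact hpow _ _ (by omega)
      have h := hC.2 h5
      calc 48 * 128 * 6 * (T * cutR Fq k) = 128 * 6 * (T * cutR Fq k * 48) := by ring
        _ ≤ 128 * 6 * (cutR Fq k * (65 * (Fq ^ 3 * a))) := Nat.mul_le_mul_left _ hR
        _ = 49920 * (Fq ^ 2 * a) * (cutR Fq k * Fq) := by ring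
        _ ≤ 49920 * (Fq ^ 2 * a) * (a * 1) := Nat.mul_le_mul_left _ hr
        _ ≤ 12480 * (Fq * (Fq ^ 2 * (a * a))) := by
          calc 49920 * (Fq ^ 2 * a) * (a * 1) = 12480 * (4 * (Fq ^ 2 * (a * a))) := by ring
            _ ≤ _ := Nat.mul_le_mul_left _ (Nat.mul_le_mul_right _ hq)
        _ = 12480 * (Fq ^ 3 * (a * a)) := by ring
        _ ≤ 48 * 128 * 6 * C2 Fq k := by omega
  · -- a line
    refine Nat.le_of_mul_le_mul_left ?_ (show 0 < 48 * 8 by norm_num)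
    calc 48 * 8 * (T * (Fq * Fq)) = 8 * Fq ^ 2 * (48 * T) := by ring
      _ ≤ 8 * Fq ^ 2 * (65 * (Fq ^ 3 * a)) := Nat.mul_le_mul_left _ hT'
      _ = Fq ^ 3 * a * (520 * Fq ^ 2) := by ring
      _ ≤ Fq ^ 3 * a * (48 * (8 * L1 Fq k)) := by
        refine Nat.mul_le_mul_left _ ?_
        have : 16 * Fq ^ 2 ≤ Fq ^ 2 * a := by
          rw [mul_comm]; exact Nat.mul_le_mul_left _ (hq2.trans haq)
        omega
      _ = _ := by rw [e3]; ring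
  · -- few parameters
    refine le_trans (Nat.mul_le_mul_left _ (Nat.mul_le_mul_left _
      (Nat.mul_le_mul (Nat.sub_le _ _) (Nat.sub_le _ _)))) ?_
    rw [e3]
    refine Nat.le_of_mul_le_mul_left ?_ (show 0 < 48 * 128 by norm_num)
    refine le_trans (b := 128 * (65 * (Fq ^ 3 * a)) * cutX Fq k ^ 3) ?_ ?_
    · calc 48 * 128 * (T * (cutX Fq k * (cutX Fq k * cutX Fq k)))
          = 128 * (48 * T) * cutX Fq k ^ 3 := by ring
        _ ≤ _ := Nat.mul_le_mul_right _ (Nat.mul_le_mul_left _ hT')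
    suffices 128 * 65 * cutX Fq k ^ 3 ≤ 48 * 128 * C2 Fq k by
      calc 128 * (65 * (Fq ^ 3 * a)) * cutX Fq k ^ 3 = Fq ^ 3 * a * (128 * 65 * cutX Fq k ^ 3) := by ring
        _ ≤ Fq ^ 3 * a * (48 * 128 * C2 Fq k) := Nat.mul_le_mul_left _ this
        _ = _ := by ring
    by_cases h5 : k = 5
    · have h := hC.1 h5
      subst h5
      rw [cutX, if_neg (by omega), show (5 : ℕ) / 2 = 2 by norm_num]
      rw [ha, show (5 : ℕ) - 3 = 2 by norm_num] at h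
      have : 4 * (Fq ^ 2) ^ 3 ≤ Fq ^ 3 * (Fq ^ 2 * Fq ^ 2) := by
        calc 4 * (Fq ^ 2) ^ 3 ≤ Fq * (Fq ^ 2) ^ 3 := Nat.mul_le_mul_right _ hq
          _ = _ := by ring
      omega
    · have h := hC.2 h5
      by_cases h6 : k = 6
      · subst h6
        have hx : 2 * cutX Fq 6 ≤ Fq ^ 3 := by
          rw [cutX, if_pos (Or.inl rfl)]; exact Nat.mul_div_le _ _
        have hx3 : 8 * cutX Fq 6 ^ 3 ≤ Fq ^ 3 * (a * a) := by
          calc 8 * cutX Fq 6 ^ 3 = (2 * cutX Fq 6) ^ 3 := by ring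
            _ ≤ (Fq ^ 3) ^ 3 := Nat.pow_le_pow_left hx 3
            _ = _ := by rw [ha]; ring
        omega
      · have hx3 : 4 * cutX Fq k ^ 3 ≤ Fq ^ 3 * (a * a) := by
          rw [cutX, if_neg (by omega), ha]
          calc 4 * (Fq ^ (k / 2)) ^ 3 ≤ Fq * (Fq ^ (k / 2)) ^ 3 := Nat.mul_le_mul_right _ hq
            _ = Fq ^ (1 + k / 2 * 3) := by rw [← pow_mul, pow_add, pow_one]
            _ ≤ Fq ^ (3 + (k - 3) + (k - 3)) := hpow _ _ (by omega)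
            _ = _ := by rw [pow_add, pow_add, mul_assoc]
        omega
  · -- room
    have hqa : 4 * a ≤ Fq * a := Nat.mul_le_mul_right _ hq
    unfold cutA
    split_ifs with h5 h6
    · rw [show Fq ^ 3 = Fq * a by rw [ha, h5]; ring]
      omega
    · rw [show Fq ^ 4 = Fq * a by rw [ha, h6]; ring]
      omega
    · have : Fq ^ 4 ≤ a := ha ▸ hpow _ _ (by omega)
      omega
  · -- the plane
    refine Nat.le_of_mul_le_mul_left ?_ (show 0 < 48 * 128 by norm_num)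
    calc 48 * 128 * (T * (2 * (Fq - 1))) ≤ 256 * (48 * T) * Fq := by
          calc 48 * 128 * (T * (2 * (Fq - 1))) ≤ 48 * 128 * (T * (2 * Fq)) :=
                Nat.mul_le_mul_left _ (Nat.mul_le_mul_left _ (by omega))
            _ = _ := by ring
      _ ≤ 256 * (65 * (Fq ^ 3 * a)) * Fq := Nat.mul_le_mul_right _ (Nat.mul_le_mul_left _ hT')
      _ = Fq ^ 2 * (16640 * (Fq ^ 2 * a)) := by ring
      _ ≤ Fq ^ 2 * (48 * (77 * (Fq ^ 3 * (a * a)))) := by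
        refine Nat.mul_le_mul_left _ ?_
        have : 64 * (Fq ^ 2 * a) ≤ Fq ^ 3 * (a * a) := by
          calc 64 * (Fq ^ 2 * a) = 4 * 16 * (Fq ^ 2 * a) := by ring
            _ ≤ Fq * a * (Fq ^ 2 * a) := Nat.mul_le_mul_right _ (Nat.mul_le_mul hq (hq2.trans haq))
            _ = _ := by ring
        omega
      _ ≤ Fq ^ 2 * (48 * (128 * (L1 Fq k * L2 Fq k))) :=
        Nat.mul_le_mul_left _ (Nat.mul_le_mul_left _ hL)
      _ = _ := by ring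

theorem num6_four (F : Type*) [Field F] (hq : 4 ≤ Fq)
    (hT : T * (Fq - 1) ≤ (Fq ^ 4 - 1) * (Fq ^ 3 + 1)) : Num6 F Fq T := by
  have h4 : 1 ≤ Fq ^ 4 := Nat.one_le_pow _ _ (by omega)
  have h5 : Fq ^ 3 + 1 ≤ Fq ^ 5 := Nat.pow_lt_pow_right (by omega) (by norm_num)
  have h6 : Fq ^ 3 + Fq ≤ Fq ^ 4 := by
    have h : Fq ≤ Fq ^ 3 := Nat.le_self_pow (by norm_num) _
    calc Fq ^ 3 + Fq ≤ 4 * Fq ^ 3 := by omega
      _ ≤ Fq * Fq ^ 3 := Nat.mul_le_mul_right _ hq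
      _ = _ := by ring
  have hL1 : (L1 Fq 6 : ℤ) = (Fq : ℤ) ^ 5 - (Fq : ℤ) ^ 3 - 1 := by
    rw [L1, show (6 : ℕ) - 1 = 5 by norm_num, show (6 : ℕ) / 2 = 3 by norm_num, Nat.sub_sub,
      Nat.cast_sub h5]
    push_cast; ring
  have hL2 : (L2 Fq 6 : ℤ) = (Fq : ℤ) ^ 4 - (Fq : ℤ) ^ 3 - Fq := by
    rw [L2, show (6 : ℕ) - 2 = 4 by norm_num, show (6 : ℕ) / 2 = 3 by norm_num, Nat.sub_sub,
      Nat.cast_sub h6]
    push_cast; ring
  have hq' : (4 : ℤ) ≤ Fq := by exact_mod_cast hq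
  have hT' : (T : ℤ) * (Fq - 1) ≤ ((Fq : ℤ) ^ 4 - 1) * ((Fq : ℤ) ^ 3 + 1) := by
    have : ((T * (Fq - 1) : ℕ) : ℤ) ≤ (((Fq ^ 4 - 1) * (Fq ^ 3 + 1) : ℕ) : ℤ) := by exact_mod_cast hT
    rwa [Nat.cast_mul, Nat.cast_sub (by omega), Nat.cast_mul, Nat.cast_sub h4, Nat.cast_add,
      Nat.cast_pow, Nat.cast_pow, Nat.cast_one] at this
  have p4 : 4 * (Fq : ℤ) ^ 4 ≤ (Fq : ℤ) ^ 5 := by nlinarith [pow_nonneg (show (0 : ℤ) ≤ Fq by omega) 4]
  have p5 : 4 * (Fq : ℤ) ^ 5 ≤ (Fq : ℤ) ^ 6 := by nlinarith [pow_nonneg (show (0 : ℤ) ≤ Fq by omega) 5]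
  have p6 : 4 * (Fq : ℤ) ^ 6 ≤ (Fq : ℤ) ^ 7 := by nlinarith [pow_nonneg (show (0 : ℤ) ≤ Fq by omega) 6]
  have p7 : 4 * (Fq : ℤ) ^ 7 ≤ (Fq : ℤ) ^ 8 := by nlinarith [pow_nonneg (show (0 : ℤ) ≤ Fq by omega) 7]
  have p8 : 4 * (Fq : ℤ) ^ 8 ≤ (Fq : ℤ) ^ 9 := by nlinarith [pow_nonneg (show (0 : ℤ) ≤ Fq by omega) 8]
  refine ⟨Or.inl ?_, ?_, Or.inr ⟨hq, ?_⟩⟩
  · zify [Nat.one_le_pow 3 Fq (by omega)]
    rw [hL1, hL2]
    have h := mul_le_mul_of_nonneg_right hT' (show (0 : ℤ) ≤ (Fq : ℤ) ^ 2 + Fq + 1 by positivity)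
    nlinarith [pow_nonneg (show (0 : ℤ) ≤ Fq by omega) 4, pow_nonneg (show (0 : ℤ) ≤ Fq by omega) 3,
      pow_nonneg (show (0 : ℤ) ≤ Fq by omega) 2, pow_nonneg (show (0 : ℤ) ≤ Fq by omega) 7]
  · zify [Nat.one_le_pow 2 Fq (by omega)]
    rw [hL1, hL2]
    have h := mul_le_mul_of_nonneg_right hT' (show (0 : ℤ) ≤ (Fq : ℤ) + 1 by positivity)
    nlinarith [pow_nonneg (show (0 : ℤ) ≤ Fq by omega) 4, pow_nonneg (show (0 : ℤ) ≤ Fq by omega) 3,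
      pow_nonneg (show (0 : ℤ) ≤ Fq by omega) 2, pow_nonneg (show (0 : ℤ) ≤ Fq by omega) 7]
  · zify
    rw [o3]
    push_cast
    refine le_of_mul_le_mul_right ?_ (show (0 : ℤ) < Fq - 1 by omega)
    linear_combination hT'

end CfsgLib.MinIndexOrth
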