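import Cfsg.Agent.Lib.MinIndexOrth.Main

/-!
The inequalities for three elements.
-/

set_option autoImplicit false

namespace CfsgLib.MinIndexOrth

theorem num_three {k T : ℕ} (hk : 5 ≤ k) (hT : 2 * T ≤ 3 ^ (k + 1)) :
    Num 3 k T ∧ T * (2 * (3 - 1)) ≤ 3 ^ 2 * (L1 3 k * L2 3 k) := by
  rcases (show k = 5 ∨ k = 6 ∨ 7 ≤ k by omega) with rfl | rfl | h7
  · have hT' : T ≤ 364 := by norm_num at hT; omega
    refine ⟨⟨?_, ?_, ?_, ?_, ?_⟩, ?_⟩ <;>
      norm_num [cutR, cutA, cutX, C2, L1, L2] <;> omega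
  · have hT' : T ≤ 1093 := by norm_num at hT; omega
    refine ⟨⟨?_, ?_, ?_, ?_, ?_⟩, ?_⟩ <;>
      norm_num [cutR, cutA, cutX, C2, L1, L2] <;> omega
  obtain ⟨a, ha⟩ : ∃ a, a = 3 ^ (k - 3) := ⟨_, rfl⟩
  have e1 : 3 ^ (k - 1) = 9 * a := by
    rw [ha, show (9 : ℕ) = 3 ^ 2 by norm_num, ← pow_add]; congr 1; omega
  have e2 : 3 ^ (k - 2) = 3 * a := by rw [ha, ← pow_succ']; congr 1; omega
  have e3 : 3 ^ k = 27 * a := by
    rw [ha, show (27 : ℕ) = 3 ^ 3 by norm_num, ← pow_add]; congr 1; omega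
  have hh : 3 * 3 ^ (k / 2) ≤ a := by
    rw [ha, ← pow_succ']; exact Nat.pow_le_pow_right (by norm_num) (by omega)
  have ha81 : 81 ≤ a := by
    rw [ha, show (81 : ℕ) = 3 ^ 4 by norm_num]; exact Nat.pow_le_pow_right (by norm_num) (by omega)
  have hL1 : 25 * a ≤ 3 * L1 3 k := by rw [L1, e1]; omega
  have hL2 : 13 * a ≤ 5 * L2 3 k := by rw [L2, e2]; omega
  have hC : 325 * (a * a) ≤ 15 * C2 3 k := by
    rw [C2, if_neg (by omega)]
    calc 325 * (a * a) = 25 * a * (13 * a) := by ring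
      _ ≤ 3 * L1 3 k * (5 * L2 3 k) := Nat.mul_le_mul hL1 hL2
      _ = _ := by ring
  rw [pow_succ, e3] at hT
  refine ⟨⟨?_, ?_, ?_, ?_, ?_⟩, ?_⟩
  · rw [e3]; omega
  · refine le_trans (Nat.mul_le_mul_left _ (Nat.mul_le_mul (Nat.sub_le _ _) (Nat.sub_le _ _))) ?_
    rw [show T * (cutR 3 k * cutR 3 k) = cutR 3 k * (T * cutR 3 k) by ring]
    refine Nat.mul_le_mul_left _ ?_
    have hR : 6 * cutR 3 k ≤ a := by
      rw [cutR, if_neg (by omega), if_neg (by omega), ha, show k - 3 = k - 4 + 1 by omega, pow_succ]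
      omega
    have : 12 * (T * cutR 3 k) ≤ 81 * (a * a) := by
      calc 12 * (T * cutR 3 k) = 2 * T * (6 * cutR 3 k) := by ring
        _ ≤ 27 * a * 3 * a := Nat.mul_le_mul hT hR
        _ = _ := by ring
    omega
  · rw [e3]
    calc T * (3 * 3) ≤ 27 * a * 27 := by omega
      _ ≤ _ := Nat.mul_le_mul_left _ (by omega)
  · refine le_trans (Nat.mul_le_mul_left _ (Nat.mul_le_mul_left _
      (Nat.mul_le_mul (Nat.sub_le _ _) (Nat.sub_le _ _)))) ?_
    rw [e3, cutX, if_neg (by omega)]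
    have hx : 3 ^ (k / 2) * (3 ^ (k / 2) * 3 ^ (k / 2)) ≤ 9 * (a * a) := by
      rw [ha, show (9 : ℕ) = 3 ^ 2 by norm_num, ← pow_add, ← pow_add, ← pow_add, ← pow_add]
      exact Nat.pow_le_pow_right (by norm_num) (by omega)
    calc T * (3 ^ (k / 2) * (3 ^ (k / 2) * 3 ^ (k / 2))) ≤ T * (9 * (a * a)) := Nat.mul_le_mul_left _ hx
      _ ≤ 27 * a * C2 3 k := by
        refine Nat.le_of_mul_le_mul_left ?_ (show 0 < 30 by norm_num)
        calc 30 * (T * (9 * (a * a))) = 2 * T * (135 * (a * a)) := by ring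
          _ ≤ 27 * a * 3 * (135 * (a * a)) := Nat.mul_le_mul_right _ hT
          _ = 27 * a * (405 * (a * a)) := by ring
          _ ≤ 27 * a * (30 * C2 3 k) := Nat.mul_le_mul_left _ (by omega)
          _ = _ := by ring
  · rw [if_neg (by omega)]
    rw [cutA, if_neg (by omega), if_neg (by omega)]
    omega
  · have h : a ≤ a * a := Nat.le_mul_of_pos_left _ (by omega)
    rw [C2, if_neg (by omega)] at hC
    omega

theorem num6_three (F : Type*) [Field F] (h2 : (2 : F) ≠ 0) {T : ℕ} (hT : T ≤ 1066) : Num6 F 3 T := by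
  refine ⟨Or.inr ⟨h2, ?_⟩, ?_, Or.inl ?_⟩ <;> norm_num [L1, L2, o3] <;> omega

end CfsgLib.MinIndexOrth
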