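import Cfsg.Agent.Lib.MinIndexOrth.Main

/-!
The inequalities for two elements.
-/

set_option autoImplicit false

namespace CfsgLib.MinIndexOrth

theorem num_two {k T : ℕ} (hk : k = 8 ∧ T ≤ 496 ∨ 10 ≤ k ∧ T ≤ 2 ^ (k + 1)) :
    Num 2 k T ∧ T * (2 * (2 - 1)) ≤ 2 ^ 2 * (L1 2 k * L2 2 k) := by
  rcases hk with ⟨rfl, hT⟩ | ⟨hk, hT⟩
  · refine ⟨⟨?_, ?_, ?_, ?_, ?_⟩, ?_⟩ <;>
      norm_num [cutR, cutA, cutX, C2, L1, L2] <;> omega
  obtain ⟨a, ha⟩ : ∃ a, a = 2 ^ (k - 3) := ⟨_, rfl⟩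
  have e1 : 2 ^ (k - 1) = 4 * a := by
    rw [ha, show (4 : ℕ) = 2 ^ 2 by norm_num, ← pow_add]; congr 1; omega
  have e2 : 2 ^ (k - 2) = 2 * a := by rw [ha, ← pow_succ']; congr 1; omega
  have e3 : 2 ^ k = 8 * a := by
    rw [ha, show (8 : ℕ) = 2 ^ 3 by norm_num, ← pow_add]; congr 1; omega
  have hh : 4 * 2 ^ (k / 2) ≤ a := by
    rw [ha, show (4 : ℕ) = 2 ^ 2 by norm_num, ← pow_add]
    exact Nat.pow_le_pow_right (by norm_num) (by omega)
  have ha128 : 128 ≤ a := by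
    rw [ha, show (128 : ℕ) = 2 ^ 7 by norm_num]; exact Nat.pow_le_pow_right (by norm_num) (by omega)
  have hL1 : 7 * a ≤ 2 * L1 2 k := by rw [L1, e1]; omega
  have hL2 : 8 * a ≤ 5 * L2 2 k := by rw [L2, e2]; omega
  have hC : 56 * (a * a) ≤ 10 * C2 2 k := by
    rw [C2, if_neg (by omega)]
    calc 56 * (a * a) = 7 * a * (8 * a) := by ring
      _ ≤ 2 * L1 2 k * (5 * L2 2 k) := Nat.mul_le_mul hL1 hL2
      _ = _ := by ring
  rw [pow_succ, e3] at hT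
  refine ⟨⟨?_, ?_, ?_, ?_, ?_⟩, ?_⟩
  · rw [e3]; omega
  · refine le_trans (Nat.mul_le_mul_left _ (Nat.mul_le_mul (Nat.sub_le _ _) (Nat.sub_le _ _))) ?_
    rw [show T * (cutR 2 k * cutR 2 k) = cutR 2 k * (T * cutR 2 k) by ring]
    refine Nat.mul_le_mul_left _ ?_
    have hR : 4 * cutR 2 k ≤ a := by
      rw [cutR, if_neg (by omega), if_neg (by omega), ha, show k - 3 = k - 4 + 1 by omega, pow_succ]
      omega
    have : 4 * (T * cutR 2 k) ≤ 16 * (a * a) := by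
      calc 4 * (T * cutR 2 k) = T * (4 * cutR 2 k) := by ring
        _ ≤ 16 * a * a := Nat.mul_le_mul (by omega) hR
        _ = _ := by ring
    omega
  · rw [e3]
    calc T * (2 * 2) ≤ 8 * a * 8 := by omega
      _ ≤ _ := Nat.mul_le_mul_left _ (by omega)
  · refine le_trans (Nat.mul_le_mul_left _ (Nat.mul_le_mul_left _
      (Nat.mul_le_mul (Nat.sub_le _ _) (Nat.sub_le _ _)))) ?_
    rw [e3, cutX, if_neg (by omega)]
    have hx : 4 * (2 ^ (k / 2) * (2 ^ (k / 2) * 2 ^ (k / 2))) ≤ 8 * (a * a) := by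
      rw [ha, show (4 : ℕ) = 2 ^ 2 by norm_num, show (8 : ℕ) = 2 ^ 3 by norm_num, ← pow_add, ← pow_add,
        ← pow_add, ← pow_add, ← pow_add]
      exact Nat.pow_le_pow_right (by norm_num) (by omega)
    refine Nat.le_of_mul_le_mul_left ?_ (show 0 < 4 by norm_num)
    calc 4 * (T * (2 ^ (k / 2) * (2 ^ (k / 2) * 2 ^ (k / 2))))
        = T * (4 * (2 ^ (k / 2) * (2 ^ (k / 2) * 2 ^ (k / 2)))) := by ring
      _ ≤ 16 * a * (8 * (a * a)) := Nat.mul_le_mul (by omega) hx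
      _ = 8 * a * (16 * (a * a)) := by ring
      _ ≤ 8 * a * (4 * C2 2 k) := Nat.mul_le_mul_left _ (by omega)
      _ = _ := by ring
  · rw [if_neg (by omega)]
    rw [cutA, if_neg (by omega), if_neg (by omega)]
    omega
  · have h : 128 * a ≤ a * a := Nat.mul_le_mul_right _ ha128
    rw [C2, if_neg (by omega)] at hC
    omega

end CfsgLib.MinIndexOrth
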