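import Cfsg.Agent.Lib.Classical.OrthSub
import Cfsg.Agent.Lib.OddOrtho.Count

/-!
Level sets of a quadratic form on a non-degenerate subspace: sizes up to an error term.
-/

set_option autoImplicit false
set_option linter.unusedSectionVars false

namespace CfsgLib.MinIndexOrth

open CfsgLib.Orth

variable {F : Type*} [Field F] [Finite F] {ι : Type} [Fintype ι] [DecidableEq ι]
variable {Q : QuadraticForm F (ι → F)}

local notation "B" => QuadraticMap.polar (DFunLike.coe Q)
local notation "q" => Nat.card F

/-- The number of vectors of a subspace with a given value. -/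
noncomputable def lev (Q : QuadraticForm F (ι → F)) (U : Submodule F (ι → F)) (c : F) : ℕ :=
  Nat.card {x : U // Q (x : ι → F) = c}

theorem two_le_card : 2 ≤ q := by
  cases nonempty_fintype F
  rw [Nat.card_eq_fintype_card]
  exact Fintype.one_lt_card

theorem card_subspace (U : Submodule F (ι → F)) : Nat.card U = q ^ Module.finrank F U :=
  Module.natCard_eq_pow_finrank

/-- Splitting off a hyperbolic pair. -/
theorem exists_split (hB : Nondeg Q) {U : Submodule F (ι → F)} (hU : NondegOn Q U) {s : ι → F}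
    (hs : s ∈ U) (hs0 : s ≠ 0) (hsq : Q s = 0) :
    ∃ U' : Submodule F (ι → F), U' ≤ U ∧ NondegOn Q U' ∧
      Module.finrank F U' + 2 = Module.finrank F U ∧ (∀ x ∈ U', B s x = 0) ∧
      ∀ c, (lev Q U c : ℤ) = (q : ℤ) ^ Module.finrank F U' * ((q : ℤ) - 1) + q * lev Q U' c := by
  classical
  cases nonempty_fintype F
  obtain ⟨f, hf, hfq, hsf⟩ := exists_partner_in hB hU (P := ⊥) bot_le
    ⟨hs, fun p hp => by rw [(Submodule.mem_bot F).1 hp]; exact b_zero_left s⟩
    (fun h => hs0 ((Submodule.mem_bot F).1 h)) hsq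
  obtain ⟨U', hU'⟩ : ∃ U', U' = relOrth Q U (Submodule.span F ({s, f} : Set (ι → F))) := ⟨_, rfl⟩
  have hmem : ∀ x, x ∈ U' ↔ x ∈ U ∧ B s x = 0 ∧ B f x = 0 := by
    intro x
    rw [hU', relOrth, Submodule.mem_inf, mem_orth_span]
    simp
  have hfs : B f s = 1 := by rw [b_comm, hsf]
  have hproj : ∀ x ∈ U, x - B f x • s - B s x • f ∈ U' := fun x hx => by
    refine (hmem _).2 ⟨U.sub_mem (U.sub_mem hx (U.smul_mem _ hs)) (U.smul_mem _ hf.1), ?_, ?_⟩
    · rw [b_sub_right, b_sub_right, b_smul_right, b_smul_right, b_self_zero hsq, hsf]; ring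
    · rw [b_sub_right, b_sub_right, b_smul_right, b_smul_right, b_self_zero hfq, hfs]; ring
  let e : U ≃ₗ[F] U' × F × F :=
    { toFun := fun x => (⟨_, hproj x x.2⟩, B f (x : ι → F), B s (x : ι → F))
      map_add' := fun x y => by
        refine Prod.ext (Subtype.ext ?_) (Prod.ext (b_add_right _ _ _) (b_add_right _ _ _))
        simp only [Submodule.coe_add, b_add_right, Prod.fst_add]
        module
      map_smul' := fun a x => by
        refine Prod.ext (Subtype.ext ?_) (Prod.ext (b_smul_right _ _ _) (b_smul_right _ _ _))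
        simp only [Submodule.coe_smul, b_smul_right, RingHom.id_apply, Prod.smul_fst]
        module
      invFun := fun w => ⟨(w.1 : ι → F) + w.2.1 • s + w.2.2 • f,
        U.add_mem (U.add_mem ((hmem _).1 w.1.2).1 (U.smul_mem _ hs)) (U.smul_mem _ hf.1)⟩
      left_inv := fun x => Subtype.ext (by dsimp only; abel)
      right_inv := fun w => by
        obtain ⟨-, h1, h2⟩ := (hmem _).1 w.1.2
        have e1 : B f ((w.1 : ι → F) + w.2.1 • s + w.2.2 • f) = w.2.1 := by
          rw [b_add_right, b_add_right, b_smul_right, b_smul_right, h2, hfs, b_self_zero hfq]; ring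
        have e2 : B s ((w.1 : ι → F) + w.2.1 • s + w.2.2 • f) = w.2.2 := by
          rw [b_add_right, b_add_right, b_smul_right, b_smul_right, h1, hsf, b_self_zero hsq]; ring
        refine Prod.ext (Subtype.ext ?_) (Prod.ext e1 e2)
        dsimp only
        rw [e1, e2]
        abel }
  have hdim : Module.finrank F U' + 2 = Module.finrank F U := by
    rw [e.finrank_eq, Module.finrank_prod, Module.finrank_prod, Module.finrank_self]
  have hQ : ∀ w : U' × F × F,
      Q ((e.symm w : U) : ι → F) = Q (w.1 : ι → F) + w.2.1 * w.2.2 := fun w => by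
    obtain ⟨-, h1, h2⟩ := (hmem _).1 w.1.2
    show Q ((w.1 : ι → F) + w.2.1 • s + w.2.2 • f) = _
    rw [q_add, q_add, q_smul, q_smul, hsq, hfq, b_add_left, b_smul_left, b_smul_right, b_smul_right,
      b_smul_right, b_comm (w.1 : ι → F) s, h1, b_comm (w.1 : ι → F) f, h2, hsf]
    ring
  refine ⟨U', fun x hx => ((hmem x).1 hx).1, fun x hx hxU => hU x ((hmem x).1 hx).1 fun y hy => ?_,
    hdim, fun x hx => ((hmem x).1 hx).2.1, fun c => ?_⟩
  · have h := hxU _ (hproj y hy)
    rw [b_sub_right, b_sub_right, b_smul_right, b_smul_right, b_comm x s, ((hmem x).1 hx).2.1,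
      b_comm x f, ((hmem x).1 hx).2.2] at h
    linear_combination h
  · have h : lev Q U c =
        Nat.card {w : U' × (F × F) // Q (w.1 : ι → F) + w.2.1 * w.2.2 = c} :=
      Nat.card_congr (Equiv.subtypeEquiv e.toEquiv fun x => by
        rw [LinearEquiv.coe_toEquiv, ← hQ, LinearEquiv.symm_apply_apply])
    rw [h, CfsgLib.OddOrtho.card_add_mul (fun u : U' => Q (u : ι → F)) c, lev,
      ← Nat.card_eq_fintype_card (α := F), ← Nat.card_eq_fintype_card (α := U'), card_subspace]
    push_cast
    ring

theorem lev_le (U : Submodule F (ι → F)) (c : F) : lev Q U c ≤ q ^ Module.finrank F U := by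
  rw [← card_subspace U]
  exact Nat.card_le_card_of_injective _ Subtype.val_injective

theorem lev_bot (U : Submodule F (ι → F)) (h : Module.finrank F U = 0) (c : F) : lev Q U c ≤ 1 := by
  have := lev_le (Q := Q) U c
  rwa [h, pow_zero] at this

/-- At most two vectors of a line, and at most `2q` of a plane, have a given value. -/
theorem lev_small (hB : Nondeg Q) {U : Submodule F (ι → F)} (hU : NondegOn Q U)
    (hd : Module.finrank F U ≤ 2) (hani : ∀ x ∈ U, Q x = 0 → x = 0) (c : F) :
    q * lev Q U c ≤ q ^ Module.finrank F U + q ^ (Module.finrank F U / 2 + 1) ∧ (c = 0 → lev Q U c = 1) := by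
  classical
  refine ⟨?_, ?_⟩
  swap
  · rintro rfl
    exact Nat.card_eq_one_iff_unique.mpr ⟨⟨fun x y => Subtype.ext (Subtype.ext
      ((hani _ x.1.2 x.2).trans (hani _ y.1.2 y.2).symm))⟩, ⟨⟨0, by simp⟩⟩⟩
  rcases Nat.eq_zero_or_pos (Module.finrank F U) with h | h
  · rw [h, pow_zero, Nat.zero_div, zero_add, pow_one]
    exact (Nat.mul_le_mul_left _ (lev_bot U h c)).trans (by omega)
  -- a complement of a line meets the level set at most twice on each parallel line
  obtain ⟨a, ha, ha0⟩ := U.exists_mem_ne_zero_of_ne_bot fun e => by rw [e, finrank_bot] at h; omega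
  have hqa : Q a ≠ 0 := fun e => ha0 (hani a ha e)
  obtain ⟨T, hT⟩ := (Submodule.span F {(⟨a, ha⟩ : U)}).exists_isCompl
  have hTd : Module.finrank F T + 1 = Module.finrank F U := by
    rw [← Submodule.finrank_add_eq_of_isCompl hT,
      finrank_span_singleton (K := F) (fun e => ha0 (congrArg Subtype.val e)), add_comm]
  have key : lev Q U c ≤ 2 * Nat.card T := by
    cases nonempty_fintype F
    have hlev : lev Q U c ≤ Nat.card ((t : T) × {x : F // Q (((t : U) : ι → F) + x • a) = c}) := by
      refine Nat.card_le_card_of_surjective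
        (fun p => ⟨(p.1 : U) + p.2.1 • ⟨a, ha⟩, p.2.2⟩) fun x => ?_
      obtain ⟨y, hy, t, ht, e⟩ := Submodule.mem_sup.1
        (hT.sup_eq_top.ge (Submodule.mem_top (x := x.1)))
      obtain ⟨r, rfl⟩ := Submodule.mem_span_singleton.1 hy
      refine ⟨⟨⟨t, ht⟩, r, ?_⟩, Subtype.ext ?_⟩
      · have hx := x.2
        rw [← e] at hx
        rw [add_comm]
        exact hx
      · show t + r • (⟨a, ha⟩ : U) = x.1
        rw [← e, add_comm]
    refine hlev.trans ?_
    rw [Nat.card_sigma, mul_comm, Nat.card_eq_fintype_card, ← Finset.card_univ, ← smul_eq_mul]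
    refine Finset.sum_le_card_nsmul _ _ _ fun t _ => ?_
    have hp : (Polynomial.C (Q a) * Polynomial.X ^ 2 + Polynomial.C (B ((t : U) : ι → F) a) *
        Polynomial.X + Polynomial.C (Q ((t : U) : ι → F) - c)).natDegree = 2 := by
      exact Polynomial.natDegree_quadratic hqa
    refine le_trans ?_ (hp ▸ (Multiset.toFinset_card_le _).trans (Polynomial.card_roots' _))
    rw [Nat.card_eq_fintype_card, Fintype.card_subtype]
    refine Finset.card_le_card fun x hx => ?_
    rw [Finset.mem_filter] at hx
    rw [Multiset.mem_toFinset, Polynomial.mem_roots (fun e => by rw [e] at hp; simp at hp)]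
    have h' := hx.2
    rw [q_add, q_smul, b_smul_right] at h'
    simp only [Polynomial.IsRoot, Polynomial.eval_add, Polynomial.eval_mul, Polynomial.eval_C,
      Polynomial.eval_pow, Polynomial.eval_X]
    linear_combination h'
  calc q * lev Q U c ≤ q * (2 * Nat.card T) := Nat.mul_le_mul_left _ key
    _ = q ^ Module.finrank F U + q ^ Module.finrank F U := by
        rw [Module.natCard_eq_pow_finrank (K := F) (V := T), ← hTd]; ring
    _ ≤ _ := Nat.add_le_add_left
        (Nat.pow_le_pow_right (by have := two_le_card (F := F); omega) (by omega)) _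

/-- The level sets have about the average size. -/
theorem lev_bound (hB : Nondeg Q) : ∀ (d : ℕ) (U : Submodule F (ι → F)), NondegOn Q U →
    Module.finrank F U = d → ∀ c,
      q ^ d ≤ q * lev Q U c + q ^ (d / 2 + 1) ∧ q * lev Q U c ≤ q ^ d + q ^ (d / 2 + 1) ∧
        (Odd d → c = 0 → q * lev Q U c = q ^ d) := by
  intro d
  induction d using Nat.strong_induction_on with
  | _ d ih =>
    intro U hU hd c
    by_cases hs : ∃ s ∈ U, s ≠ 0 ∧ Q s = 0
    · obtain ⟨s, hsU, hs0, hsq⟩ := hs
      obtain ⟨U', -, hU', hd', -, hlev⟩ := exists_split hB hU hsU hs0 hsq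
      obtain ⟨h1, h2, h3⟩ := ih (Module.finrank F U') (by omega) U' hU' rfl c
      obtain ⟨j, hj⟩ : ∃ j, Module.finrank F U' = j := ⟨_, rfl⟩
      have e := hlev c
      rw [hj] at e h1 h2 h3 hd'
      have hdj : d = j + 2 := by omega
      subst hdj
      have h1' : (q : ℤ) ^ j ≤ q * lev Q U' c + (q : ℤ) ^ (j / 2 + 1) := by exact_mod_cast h1
      have h2' : (q : ℤ) * lev Q U' c ≤ (q : ℤ) ^ j + (q : ℤ) ^ (j / 2 + 1) := by exact_mod_cast h2
      rw [show (j + 2) / 2 + 1 = j / 2 + 1 + 1 by omega]
      refine ⟨?_, ?_, fun ho hc => ?_⟩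
      · zify
        rw [e, pow_succ (q : ℤ) (j / 2 + 1), pow_add (q : ℤ) j 2]
        nlinarith [mul_le_mul_of_nonneg_left h1' (Int.natCast_nonneg q)]
      · zify
        rw [e, pow_succ (q : ℤ) (j / 2 + 1), pow_add (q : ℤ) j 2]
        nlinarith [mul_le_mul_of_nonneg_left h2' (Int.natCast_nonneg q)]
      · have h3' : (q : ℤ) * lev Q U' c = (q : ℤ) ^ j := by
          exact_mod_cast h3 (by rcases ho with ⟨w, hw⟩; exact ⟨w - 1, by omega⟩) hc
        zify
        rw [e, pow_add (q : ℤ) j 2]
        linear_combination (q : ℤ) * h3'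
    · push Not at hs
      have hani : ∀ x ∈ U, Q x = 0 → x = 0 := fun x hx h => by
        by_contra h0
        exact hs x hx h0 h
      have hd2 : d ≤ 2 := by
        by_contra h
        obtain ⟨v, hv, hv0, hvq⟩ := exists_singular (Q := Q) (U := U) (by omega)
        exact hv0 (hani v hv hvq)
      obtain ⟨hle, h0⟩ := lev_small hB hU (by omega) hani c
      rw [hd] at hle
      have hpow : q ^ d ≤ q ^ (d / 2 + 1) :=
        Nat.pow_le_pow_right (by have := two_le_card (F := F); omega) (by omega)
      refine ⟨by omega, hle, fun ho hc => ?_⟩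
      obtain rfl : d = 1 := by rcases ho with ⟨w, hw⟩; omega
      rw [h0 hc, mul_one, pow_one]

end CfsgLib.MinIndexOrth
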