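import Cfsg.Agent.Lib.MinIndexOrth.Tool
import Mathlib.Analysis.Fourier.FiniteAbelian.PontryaginDuality

/-!
The annihilator of an additive subgroup of a non-degenerate subspace under a character of the field.
-/

set_option autoImplicit false
set_option linter.unusedSectionVars false

namespace CfsgLib.MinIndexOrth

open CfsgLib.Orth

variable {F : Type*} [Field F] [Finite F] {ι : Type} [Fintype ι] [DecidableEq ι]
variable {Q : QuadraticForm F (ι → F)}

local notation "B" => QuadraticMap.polar (DFunLike.coe Q)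
local notation "q" => Nat.card F

/-- A non-trivial additive character of the field. -/
noncomputable def chr (F : Type*) [Field F] [Finite F] : AddChar F ℂ :=
  ((AddChar.exists_apply_ne_zero (α := F) (a := 1)).2 one_ne_zero).choose

theorem chr_one : chr F 1 ≠ 1 :=
  ((AddChar.exists_apply_ne_zero (α := F) (a := 1)).2 one_ne_zero).choose_spec

/-- The character of a vector on a subspace. -/
noncomputable def dualChar (Q : QuadraticForm F (ι → F)) (U : Submodule F (ι → F)) (w : ι → F) :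
    AddChar U ℂ :=
  (chr F).compAddMonoidHom (((QuadraticMap.polarBilin Q w).comp U.subtype).toAddMonoidHom)

theorem dualChar_apply (U : Submodule F (ι → F)) (w : ι → F) (x : U) :
    dualChar Q U w x = chr F (B w (x : ι → F)) := rfl

theorem dualChar_surj {U : Submodule F (ι → F)} (hU : NondegOn Q U) (ψ : AddChar U ℂ) :
    ∃ w ∈ U, dualChar Q U w = ψ := by
  classical
  cases nonempty_fintype F
  have hinj : Function.Injective fun w : U => dualChar Q U (w : ι → F) := by
    intro a b e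
    by_contra hne
    obtain ⟨y, hy, hne'⟩ : ∃ y ∈ U, B ((a : ι → F) - b) y ≠ 0 := by
      by_contra hc
      push Not at hc
      exact hne (Subtype.ext (sub_eq_zero.1 (hU _ (U.sub_mem a.2 b.2) hc)))
    refine chr_one (F := F) ?_
    have h := congrArg (fun φ : AddChar U ℂ => φ ⟨(B ((a : ι → F) - b) y)⁻¹ • y, U.smul_mem _ hy⟩) e
    simp only [dualChar_apply] at h
    have e1 : (1 : F) = B ((a : ι → F) - b) ((B ((a : ι → F) - b) y)⁻¹ • y) := by
      rw [b_smul_right, inv_mul_cancel₀ hne']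
    rw [e1, b_sub_left, sub_eq_add_neg, AddChar.map_add_eq_mul, AddChar.map_neg_eq_inv, h,
      mul_inv_cancel₀ (AddChar.val_isUnit (chr F) _).ne_zero]
  have hbij := (Fintype.bijective_iff_injective_and_card _).2 ⟨hinj, (AddChar.card_eq (α := U)).symm⟩
  obtain ⟨w, hw⟩ := hbij.2 ψ
  exact ⟨w, w.2, hw⟩

/-- The annihilator. -/
def perp (U : Submodule F (ι → F)) (A : AddSubgroup (ι → F)) :
    AddSubgroup (ι → F) where
  carrier := {w | w ∈ U ∧ ∀ a ∈ A, chr F (B w a) = 1}
  zero_mem' := ⟨U.zero_mem, fun a _ => by rw [b_zero_left, AddChar.map_zero_eq_one]⟩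
  add_mem' := fun ha hb => ⟨U.add_mem ha.1 hb.1, fun a h => by
    rw [b_add_left, AddChar.map_add_eq_mul, ha.2 a h, hb.2 a h, mul_one]⟩
  neg_mem' := fun ha => ⟨U.neg_mem ha.1, fun a h => by
    rw [← neg_one_smul F, b_smul_left, neg_one_mul, AddChar.map_neg_eq_inv, ha.2 a h, inv_one]⟩

theorem mem_perp {U : Submodule F (ι → F)} {A : AddSubgroup (ι → F)} {w : ι → F} :
    w ∈ perp (Q := Q) U A ↔ w ∈ U ∧ ∀ a ∈ A, chr F (B w a) = 1 := Iff.rfl

theorem card_perp_le {U : Submodule F (ι → F)} (hU : NondegOn Q U) {A : AddSubgroup (ι → F)}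
    (hA : ∀ a ∈ A, a ∈ U) : Nat.card (perp (Q := Q) U A) * Nat.card A ≤ Nat.card U := by
  classical
  cases nonempty_fintype F
  let A' : AddSubgroup U := A.comap U.subtype.toAddMonoidHom
  have hA' : Nat.card A' = Nat.card A := Nat.card_congr
    { toFun := fun x => ⟨((x : U) : ι → F), x.2⟩
      invFun := fun a => ⟨⟨a, hA a a.2⟩, a.2⟩
      left_inv := fun _ => rfl
      right_inv := fun _ => rfl }
  let Ψ : perp (Q := Q) U A → AddChar (U ⧸ A') ℂ := fun w =>
    { toFun := fun z => Quotient.liftOn' z (fun y => dualChar Q U (w : ι → F) y) fun y y' h => by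
        rw [QuotientAddGroup.leftRel_apply] at h
        have h1 := w.2.2 _ h
        have h2 : dualChar Q U (w : ι → F) (-y + y') = 1 := h1
        rw [AddChar.map_add_eq_mul, AddChar.map_neg_eq_inv,
          inv_mul_eq_one₀ (AddChar.val_isUnit _ _).ne_zero] at h2
        exact h2
      map_zero_eq_one' := AddChar.map_zero_eq_one _
      map_add_eq_mul' := fun z z' => Quotient.inductionOn₂' z z' fun y y' =>
        AddChar.map_add_eq_mul _ y y' }
  have hinj : Function.Injective Ψ := by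
    intro a b e
    by_contra hne
    obtain ⟨y, hy, hne'⟩ : ∃ y ∈ U, B ((a : ι → F) - b) y ≠ 0 := by
      by_contra hc
      push Not at hc
      exact hne (Subtype.ext (sub_eq_zero.1 (hU _ (U.sub_mem a.2.1 b.2.1) hc)))
    refine chr_one (F := F) ?_
    have h : dualChar Q U (a : ι → F) ⟨(B ((a : ι → F) - b) y)⁻¹ • y, U.smul_mem _ hy⟩ =
        dualChar Q U (b : ι → F) ⟨(B ((a : ι → F) - b) y)⁻¹ • y, U.smul_mem _ hy⟩ :=
      congrArg (fun φ : AddChar (U ⧸ A') ℂ => φ ((⟨_, U.smul_mem _ hy⟩ : U) : U ⧸ A')) e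
    rw [dualChar_apply, dualChar_apply] at h
    have e1 : (1 : F) = B ((a : ι → F) - b) ((B ((a : ι → F) - b) y)⁻¹ • y) := by
      rw [b_smul_right, inv_mul_cancel₀ hne']
    rw [e1, b_sub_left, sub_eq_add_neg, AddChar.map_add_eq_mul, AddChar.map_neg_eq_inv, h,
      mul_inv_cancel₀ (AddChar.val_isUnit (chr F) _).ne_zero]
  cases nonempty_fintype (U ⧸ A')
  have h := Nat.card_le_card_of_injective Ψ hinj
  rw [Nat.card_eq_fintype_card (α := AddChar (U ⧸ A') ℂ), AddChar.card_eq,
    ← Nat.card_eq_fintype_card] at h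
  rw [A'.card_eq_card_quotient_mul_card_addSubgroup, ← hA']
  exact Nat.mul_le_mul_right _ h

/-- A vector outside the subgroup is detected by the annihilator. -/
theorem exists_perp_ne {U : Submodule F (ι → F)} (hU : NondegOn Q U) {A : AddSubgroup (ι → F)}
    (hA : ∀ a ∈ A, a ∈ U) {x : ι → F} (hx : x ∈ U) (hxA : x ∉ A) :
    ∃ w ∈ perp (Q := Q) U A, chr F (B w x) ≠ 1 := by
  classical
  let A' : AddSubgroup U := A.comap U.subtype.toAddMonoidHom
  obtain ⟨φ, hφ⟩ := (AddChar.exists_apply_ne_zero (α := U ⧸ A')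
    (a := ((⟨x, hx⟩ : U) : U ⧸ A'))).2 (by rw [Ne, QuotientAddGroup.eq_zero_iff]; exact hxA)
  obtain ⟨w, hw, hwφ⟩ := dualChar_surj hU (φ.compAddMonoidHom (QuotientAddGroup.mk' A'))
  refine ⟨w, ⟨hw, fun a ha => ?_⟩, ?_⟩
  · rw [show B w a = B w ((⟨a, hA a ha⟩ : U) : ι → F) from rfl, ← dualChar_apply, hwφ]
    show φ ((⟨a, hA a ha⟩ : U) : U ⧸ A') = 1
    rw [(QuotientAddGroup.eq_zero_iff _).2 (show (⟨a, hA a ha⟩ : U) ∈ A' from ha),
      AddChar.map_zero_eq_one]
  · rw [show B w x = B w ((⟨x, hx⟩ : U) : ι → F) from rfl, ← dualChar_apply, hwφ]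
    exact hφ

/-- An annihilator inside a line: the subgroup contains the orthogonal of the line. -/
theorem mem_of_perp_le {U : Submodule F (ι → F)} (hU : NondegOn Q U) {A : AddSubgroup (ι → F)}
    (hA : ∀ a ∈ A, a ∈ U) {w : ι → F} (hw : ∀ y ∈ perp (Q := Q) U A, y ∈ Submodule.span F {w})
    {x : ι → F} (hx : x ∈ U) (hwx : B w x = 0) : x ∈ A := by
  by_contra hxA
  obtain ⟨y, hy, hne⟩ := exists_perp_ne hU hA hx hxA
  obtain ⟨c, rfl⟩ := Submodule.mem_span_singleton.1 (hw y hy)
  rw [b_smul_left, hwx, mul_zero, AddChar.map_zero_eq_one] at hne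
  exact hne rfl

theorem HP.lin_perp (P : HP Q) (M : Subgroup (Grp Q)) (hB : Nondeg Q) {g : Grp Q}
    (hg : ap g P.v = P.v) (himg : P.img M hB g = (P.A M hB : Set (ι → F))) {w : ι → F}
    (hw : w ∈ perp (Q := Q) P.W (P.A M hB)) : P.lin g w ∈ perp (Q := Q) P.W (P.A M hB) := by
  refine ⟨P.lin_mem _ _, fun a ha => ?_⟩
  obtain ⟨b, hb, rfl⟩ : a ∈ P.img M hB g := by rw [himg]; exact ha
  rw [P.lin_b hg hw.1 hb.1]
  exact hw.2 b hb

end CfsgLib.MinIndexOrth
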