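import Cfsg.Agent.Lib.MinIndexOrth.SixFull

/-!
Ten dimensions over two elements: sixteen parameters.
-/

set_option autoImplicit false
set_option linter.unusedSectionVars false

namespace CfsgLib.MinIndexOrth

open CfsgLib.Orth

variable {F : Type*} [Field F] [Finite F] {ι : Type} [Fintype ι] [DecidableEq ι]
variable {Q : QuadraticForm F (ι → F)}

local notation "B" => QuadraticMap.polar (DFunLike.coe Q)
local notation "q" => Nat.card F

variable {P : HP Q} {M : Subgroup (Grp Q)} {hB : Nondeg Q}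

theorem two_values (h2 : q = 2) {x : F} (hx : x ≠ 0) : x = 1 := by
  cases nonempty_fintype F
  have h : ∀ y : F, y = 0 ∨ y = 1 := by
    classical
    intro y
    by_contra hc
    push Not at hc
    have h3 : Fintype.card F ≥ ({0, 1, y} : Finset F).card := Finset.card_le_univ _
    rw [← Nat.card_eq_fintype_card, h2, Finset.card_insert_of_notMem (by simp [hc.1.symm]),
      Finset.card_pair hc.2.symm] at h3
    omega
  exact (h x).resolve_left hx

/-- Singular vectors and orthogonal pairs of them in an eight-space with a half subspace. -/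
theorem plus_eight (hB : Nondeg Q) (h2 : q = 2) {U : Submodule F (ι → F)} (hU : NondegOn Q U)
    (hd : Module.finrank F U = 8) (hH : HasHalf Q U 4) :
    135 ≤ Nat.card {y : ι → F // y ∈ U ∧ y ≠ 0 ∧ Q y = 0} ∧
      ∀ x ∈ U, x ≠ 0 → Q x = 0 →
        70 ≤ Nat.card {y : ι → F // y ∈ U ∧ y ∉ Submodule.span F {x} ∧ B x y = 0 ∧ Q y = 0} := by
  classical
  have e4 := lev_plus hB hU (h := 4) hd hH
  rw [h2] at e4
  norm_num at e4
  refine ⟨?_, fun x hx hx0 hxq => ?_⟩
  · have h1 := lev_le_nonzero (Q := Q) U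
    omega
  obtain ⟨U', hle, hU', hd', hperp, hlev⟩ := exists_split hB hU hx hx0 hxq
  have e := hlev 0
  rw [show Module.finrank F U' = 6 by omega, h2] at e
  have hl3 : 35 ≤ Nat.card {y : ι → F // y ∈ U' ∧ y ≠ 0 ∧ Q y = 0} := by
    have h1 := lev_le_nonzero (Q := Q) U'
    norm_num at e
    omega
  have hxU' : x ∉ U' := fun h' => hx0 (hU' x h' hperp)
  have h4 : q * Nat.card {y : ι → F // y ∈ U' ∧ y ≠ 0 ∧ Q y = 0} ≤
      Nat.card {y : ι → F // y ∈ U ∧ y ∉ Submodule.span F {x} ∧ B x y = 0 ∧ Q y = 0} := by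
    rw [← Nat.card_prod]
    refine Nat.card_le_card_of_injective
      (fun p : F × {y : ι → F // y ∈ U' ∧ y ≠ 0 ∧ Q y = 0} => ⟨(p.2 : ι → F) + p.1 • x,
        U.add_mem (hle p.2.2.1) (U.smul_mem _ hx), fun hsp => ?_, ?_, ?_⟩) fun a b e => ?_
    · refine p.2.2.2.1 (hU' _ p.2.2.1 fun z hz => ?_)
      obtain ⟨c, hc⟩ := Submodule.mem_span_singleton.1
        ((Submodule.add_mem_iff_left _ (Submodule.smul_mem _ p.1 (Submodule.mem_span_singleton_self x))).1 hsp)
      rw [← hc, b_smul_left, hperp z hz, mul_zero]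
    · rw [b_add_right, hperp _ p.2.2.1, b_smul_right, b_self_zero hxq, mul_zero, add_zero]
    · rw [q_add, p.2.2.2.2, q_smul, hxq, b_smul_right, b_comm, hperp _ p.2.2.1]; ring
    · have e' : (a.2 : ι → F) + a.1 • x = (b.2 : ι → F) + b.1 • x := congrArg Subtype.val e
      have h5 : (a.1 - b.1) • x ∈ U' := by
        rw [show (a.1 - b.1) • x = (b.2 : ι → F) - a.2 by linear_combination (norm := module) e']
        exact U'.sub_mem b.2.2.1 a.2.2.1
      have h6 : a.1 = b.1 := by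
        by_contra hne
        exact hxU' ((Submodule.smul_mem_iff _ (sub_ne_zero.2 hne)).1 h5)
      rw [h6] at e'
      exact Prod.ext h6 (Subtype.ext (add_right_cancel e'))
  rw [h2] at h4
  omega

/-- Sixteen parameters at a point in ten dimensions over two elements. -/
theorem eight_bound (hk : Module.finrank F (ι → F) = 8 + 2) (h2 : q = 2)
    (hα : Nat.card (P.A M hB) = 16) {T : ℕ} (hT : T ≤ 512) : T ≤ M.relIndex (El Q) := by
  classical
  cases nonempty_fintype F
  have hW : Module.finrank F P.W = 8 := by have := P.finrank_W hB; omega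
  have hval := fun {x : F} (hx : x ≠ 0) => two_values h2 hx
  have hspan : ∀ {x y : ι → F}, x ≠ 0 → y ≠ 0 → y ≠ x → y ∉ Submodule.span F {x} := by
    intro x y _ hy0 hyx h
    obtain ⟨c, rfl⟩ := Submodule.mem_span_singleton.1 h
    by_cases hc : c = 0
    · exact hy0 (by rw [hc, zero_smul])
    · exact hyx (by rw [hval hc, one_smul])
  let S : F → Finset (P.A M hB) := fun c =>
    Finset.univ.filter fun a : P.A M hB => (a : ι → F) ≠ 0 ∧ Q (a : ι → F) = c
  have hsum : (S 0).card + (S 1).card + 1 ≤ 16 := by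
    have hd : Disjoint (S 0) (S 1) := by
      rw [Finset.disjoint_left]
      intro a ha hb
      exact zero_ne_one (α := F) ((Finset.mem_filter.1 ha).2.2.symm.trans (Finset.mem_filter.1 hb).2.2)
    rw [← Finset.card_union_of_disjoint hd]
    have hn : (0 : P.A M hB) ∉ S 0 ∪ S 1 := by simp [S]
    have := Finset.card_le_univ (insert (0 : P.A M hB) (S 0 ∪ S 1))
    rw [Finset.card_insert_of_notMem hn, ← Nat.card_eq_fintype_card, hα] at this
    omega
  have hmem : ∀ a : P.A M hB, (a : ι → F) ≠ 0 → a ∈ S 0 ∨ a ∈ S 1 := fun a ha => by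
    by_cases h : Q (a : ι → F) = 0
    · exact Or.inl (Finset.mem_filter.2 ⟨Finset.mem_univ _, ha, h⟩)
    · exact Or.inr (Finset.mem_filter.2 ⟨Finset.mem_univ _, ha, hval h⟩)
  obtain ⟨a₀, ha₀, ha₀0⟩ : ∃ a ∈ P.A M hB, a ≠ 0 := by
    by_contra hc
    push Not at hc
    rw [card_eq_one_iff.2 hc] at hα
    omega
  have hout : ∀ x ∈ P.A M hB, x ≠ 0 → ∃ y ∈ P.A M hB, y ≠ 0 ∧ y ≠ x := by
    intro x hx hx0
    by_contra hc
    push Not at hc
    have h1 : Nat.card (P.A M hB) ≤ Nat.card Bool := by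
      refine Nat.card_le_card_of_injective (fun a : P.A M hB => decide ((a : ι → F) = 0)) fun a b e => ?_
      simp only [decide_eq_decide] at e
      refine Subtype.ext ?_
      by_cases h : (a : ι → F) = 0
      · rw [h, e.1 h]
      · rw [hc _ a.2 h, hc _ b.2 fun hb => h (e.2 hb)]
    rw [hα, Nat.card_eq_fintype_card, Fintype.card_bool] at h1
    omega
  have hT2 : ∀ x y : ι → F, x ∈ P.A M hB → y ∈ P.A M hB → x ≠ 0 → y ≠ 0 → y ≠ x → ∀ c n : ℕ,
      c ≤ Nat.card (gram P.W Q x y) →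
      Nat.card {a : ι → F // a ∈ P.A M hB ∧ a ≠ 0 ∧ Q a = Q x} ≤ n →
      T * (16 * (n * 14)) ≤ 256 * c → T ≤ M.relIndex (El Q) := by
    intro x y hx hy hx0 hy0 hyx c n hc hn hTc
    have hs := hspan hx0 hy0 hyx
    have hS : Nat.card ↥(gram P.W Q x y ∩ {t | t 0 ∈ P.A M hB ∧ t 1 ∈ P.A M hB}) ≤ n * 14 := by
      refine card_pairs_le (p := fun a => a ∈ P.A M hB ∧ a ≠ 0 ∧ Q a = Q x)
        (r := fun a b => b ∈ P.A M hB ∧ b ≠ 0 ∧ (a ≠ 0 → a ∈ P.A M hB → b ≠ a))
        (fun t ht => ⟨⟨ht.2.1, ht.1.1.2.1, ht.1.1.2.2⟩, ht.2.2,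
          fun e => ht.1.2.2.1 (e ▸ Submodule.zero_mem _),
          fun _ _ e => ht.1.2.2.1 (e ▸ Submodule.mem_span_singleton_self _)⟩) hn fun a ha => ?_
      have h1 : Nat.card (Option (Option {b : ι → F // b ∈ P.A M hB ∧ b ≠ 0 ∧ (a ≠ 0 → a ∈ P.A M hB → b ≠ a)})) ≤
          Nat.card (P.A M hB) := by
        refine Nat.card_le_card_of_injective (fun o => o.elim (0 : P.A M hB) fun o' =>
          o'.elim ⟨a, ha.1⟩ fun b => ⟨b.1, b.2.1⟩) ?_
        rintro (_ | _ | b) (_ | _ | b') e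
        all_goals first | rfl | skip
        all_goals have e' := congrArg Subtype.val e
        all_goals simp only [Option.elim_none, Option.elim_some, AddSubgroup.coe_zero] at e'
        · exact absurd e'.symm ha.2.1
        · exact absurd e'.symm b'.2.2.1
        · exact absurd e' ha.2.1
        · exact absurd e'.symm (b'.2.2.2 ha.2.1 ha.1)
        · exact absurd e' b.2.2.1
        · exact absurd e' (b.2.2.2 ha.2.1 ha.1)
        · exact congrArg (fun z => some (some z)) (Subtype.ext e')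
      rw [Finite.card_option, Finite.card_option, hα] at h1
      omega
    have h2' := P.pair_orbit hB hk (by norm_num) (D := (P.A M hB : Set (ι → F))) (fun z hz => hz.1) hx hy
      hx0 hs
    have h3 := P.index_orbit_one M hB
    rw [P.card_W hB hk, hα, h2] at h3
    rw [show (2 : ℕ) ^ 8 = 256 by norm_num] at h3
    rcases Nat.eq_zero_or_pos n with hn0 | hn0
    · have : 0 < Nat.card {a : ι → F // a ∈ P.A M hB ∧ a ≠ 0 ∧ Q a = Q x} :=
        Nat.card_pos_iff.2 ⟨⟨⟨x, hx, hx0, rfl⟩⟩, inferInstance⟩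
      omega
    refine Nat.le_of_mul_le_mul_right (hTc.trans ?_) (show 0 < 16 * (n * 14) by omega)
    calc 256 * c ≤ 256 * (Nat.card (P.orbitA M hB) * (n * 14)) :=
          Nat.mul_le_mul_left _ ((hc.trans h2').trans (Nat.mul_le_mul_left _ hS))
      _ = 256 * Nat.card (P.orbitA M hB) * (n * 14) := by ring
      _ ≤ M.relIndex (El Q) * 16 * (n * 14) := Nat.mul_le_mul_right _ h3
      _ = _ := by ring
  have hcls : ∀ c : F, Nat.card {a : ι → F // a ∈ P.A M hB ∧ a ≠ 0 ∧ Q a = c} ≤ (S c).card := fun c => by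
    rw [← Fintype.card_coe, ← Nat.card_eq_fintype_card]
    refine Nat.card_le_card_of_injective (fun a =>
      (⟨⟨a.1, a.2.1⟩, Finset.mem_filter.2 ⟨Finset.mem_univ _, a.2.2⟩⟩ : (S c))) fun a b e => ?_
    exact Subtype.ext (congrArg (fun z : (S c) => ((z : P.A M hB) : ι → F)) e)
  have hfew : ∀ c : F, (S c).card ≤ 7 → (S c).Nonempty → T ≤ M.relIndex (El Q) := by
    intro c h7 ⟨x, hx⟩
    obtain ⟨-, hx0, hxc⟩ := Finset.mem_filter.1 hx
    obtain ⟨y, hy, hy0, hyx⟩ := hout x x.2 hx0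
    refine hT2 x y x.2 hy hx0 hy0 hyx (L1 q 8 * L2 q 8) 7 (gram_count hB (P.nondeg hB) hW (by norm_num) _ y).1
      (by rw [hxc]; exact (hcls c).trans h7) ?_
    rw [h2]; norm_num [L1, L2]; omega
  by_cases h0 : (S 0).card ≤ 7 ∧ (S 0).Nonempty
  · exact hfew 0 h0.1 h0.2
  by_cases h1 : (S 1).card ≤ 7 ∧ (S 1).Nonempty
  · exact hfew 1 h1.1 h1.2
  rcases Finset.eq_empty_or_nonempty (S 1) with h1e | h1e
  · -- totally singular
    have hsing : ∀ a ∈ P.A M hB, Q a = 0 := fun a ha => by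
      by_cases ha0 : a = 0
      · rw [ha0, QuadraticMap.map_zero]
      · rcases hmem ⟨a, ha⟩ ha0 with h | h
        · exact (Finset.mem_filter.1 h).2.2
        · simp [h1e] at h
    let X : Submodule F (ι → F) :=
      { carrier := {a | a ∈ P.A M hB}
        add_mem' := fun ha hb => (P.A M hB).add_mem ha hb
        zero_mem' := (P.A M hB).zero_mem
        smul_mem' := fun c a ha => by
          by_cases hc : c = 0
          · rw [hc, zero_smul]; exact (P.A M hB).zero_mem
          · rw [hval hc, one_smul]; exact ha }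
    have hX4 : Module.finrank F X = 4 := by
      have h := card_subspace X
      rw [show Nat.card X = Nat.card (P.A M hB) from rfl, hα, h2] at h
      exact (Nat.pow_right_injective (le_refl 2) (h.symm.trans (by norm_num : (16 : ℕ) = 2 ^ 4)))
    obtain ⟨hc1, hc2⟩ := plus_eight hB h2 (P.nondeg hB) hW ⟨X, fun a ha => ha.1, hsing, hX4.ge⟩
    obtain ⟨y, hy, hy0, hyx⟩ := hout a₀ ha₀ ha₀0
    have hxy : B a₀ y = 0 := by
      have h := hsing _ ((P.A M hB).add_mem ha₀ hy)
      rw [q_add, hsing _ ha₀, hsing _ hy, zero_add, zero_add] at h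
      exact h
    refine hT2 a₀ y ha₀ hy ha₀0 hy0 hyx (135 * 70) 15 ?_ ((hcls _).trans ?_) (by omega)
    · refine le_trans ?_ (card_pairs (fun a => a ∈ P.W ∧ a ≠ 0 ∧ Q a = Q a₀)
        (fun a b => b ∈ P.W ∧ b ∉ Submodule.span F {a} ∧ B a b = B a₀ y ∧ Q b = Q y) 135 70 ?_ ?_)
      · exact le_rfl
      · rw [hsing _ ha₀]; exact hc1
      · intro a ha
        rw [hxy, hsing _ hy]
        exact hc2 a ha.1 ha.2.1 (ha.2.2.trans (hsing _ ha₀))
    · rw [hsing _ ha₀]; omega
  -- all values one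
  exfalso
  have h1' : 8 ≤ (S 1).card := by
    by_contra h
    exact h1 ⟨by omega, h1e⟩
  have h0' : S 0 = ∅ := by
    by_contra h
    exact h0 ⟨by omega, Finset.nonempty_iff_ne_empty.2 h⟩
  have hq1 : ∀ a ∈ P.A M hB, a ≠ 0 → Q a = 1 := fun a ha ha0 => by
    rcases hmem ⟨a, ha⟩ ha0 with h | h
    · simp [h0'] at h
    · exact (Finset.mem_filter.1 h).2.2
  have hb1 : ∀ a ∈ P.A M hB, ∀ b ∈ P.A M hB, a ≠ 0 → b ≠ 0 → a + b ≠ 0 → B a b = -1 := by
    intro a ha b hb ha0 hb0 hab
    have h := hq1 _ ((P.A M hB).add_mem ha hb) hab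
    rw [q_add, hq1 a ha ha0, hq1 b hb hb0] at h
    linear_combination h
  have h20 : (2 : F) = 0 := by
    have h := FiniteField.cast_card_eq_zero F
    rw [← Nat.card_eq_fintype_card, h2] at h
    exact_mod_cast h
  have hneg : ∀ v : ι → F, -v = v := fun v => by
    have h : v + v = 0 := by rw [← two_smul F v, h20, zero_smul]
    exact neg_eq_of_add_eq_zero_left h
  have hne : ∀ {v w : ι → F}, v ≠ w → v + w ≠ 0 := fun {v w} h e => h (by
    rw [eq_neg_of_add_eq_zero_left e, hneg])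
  obtain ⟨y, hy, hy0, hyx⟩ := hout a₀ ha₀ ha₀0
  obtain ⟨z, hz, hz'⟩ : ∃ z ∈ P.A M hB, z ∉ ({0, a₀, y, a₀ + y} : Finset (ι → F)) := by
    by_contra hc
    push Not at hc
    have h := Nat.card_le_card_of_injective
      (fun a : P.A M hB => (⟨(a : ι → F), hc a a.2⟩ : ({0, a₀, y, a₀ + y} : Finset (ι → F))))
      fun a b e => Subtype.ext (congrArg (fun w : ({0, a₀, y, a₀ + y} : Finset (ι → F)) => (w : ι → F)) e)
    rw [hα, Nat.card_eq_fintype_card, Fintype.card_coe] at h
    have := h.trans Finset.card_le_four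
    omega
  simp only [Finset.mem_insert, Finset.mem_singleton, not_or] at hz'
  obtain ⟨hz0, hza, hzy, hzay⟩ := hz'
  have hyz := (P.A M hB).add_mem hy hz
  have e1 := hb1 a₀ ha₀ y hy ha₀0 hy0 (hne hyx.symm)
  have e2 := hb1 a₀ ha₀ z hz ha₀0 hz0 (hne (Ne.symm hza))
  have e3 := hb1 a₀ ha₀ _ hyz ha₀0 (hne (Ne.symm hzy)) (hne fun e => hzay (by
    rw [e, add_comm y z, add_assoc, ← two_smul F y, h20, zero_smul, add_zero]))
  rw [b_add_right, e1, e2] at e3
  exact one_ne_zero (α := F) (by linear_combination -e3)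

end CfsgLib.MinIndexOrth
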