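import Cfsg.Agent.Lib.MinIndexOrth.Lines

/-!
A proper subgroup containing the stabiliser of a hyperbolic pair and meeting the radical trivially:
it fixes a point or a non-singular line.
-/

set_option autoImplicit false
set_option linter.unusedSectionVars false

namespace CfsgLib.MinIndexOrth

open CfsgLib.Orth

variable {F : Type*} [Field F] [Finite F] {ι : Type} [Fintype ι] [DecidableEq ι]
variable {Q : QuadraticForm F (ι → F)}

local notation "B" => QuadraticMap.polar (DFunLike.coe Q)
local notation "q" => Nat.card F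

/-- The numbers of vectors against the target. -/
structure Totals (Q : QuadraticForm F (ι → F)) (T : ℕ) : Prop where
  points : T * (Nat.card F - 1) ≤ Nat.card {y : ι → F // y ≠ 0 ∧ Q y = 0}
  lines : ∀ c : F, c ≠ 0 →
    T * Nat.card {t : F // t ≠ 0 ∧ t * t * c = c} ≤ Nat.card {y : ι → F // y ≠ 0 ∧ Q y = c}

/-- A proper subgroup fixing a line. -/
theorem bound_of_line (hB : Nondeg Q) (hn : 5 ≤ Module.finrank F (ι → F)) {T : ℕ} (hT : Totals Q T)
    {M : Subgroup (Grp Q)} {z : ι → F} (hz : z ≠ 0) (hM : ∀ g ∈ M, ∃ c : F, ap g z = c • z) :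
    T ≤ M.relIndex (El Q) := by
  classical
  cases nonempty_fintype F
  have h := line_index hB hn hz hM
  by_cases hq : Q z = 0
  · rw [hq] at h
    have hc : Nat.card {t : F // t ≠ 0 ∧ t * t * (0 : F) = 0} = q - 1 := by
      rw [Nat.card_congr (Equiv.subtypeEquivRight fun t : F =>
          show (t ≠ 0 ∧ t * t * (0 : F) = 0) ↔ t ≠ 0 by simp),
        Nat.card_eq_fintype_card, Fintype.card_subtype_compl, Fintype.card_subtype_eq,
        Nat.card_eq_fintype_card]
    rw [hc] at h
    exact Nat.le_of_mul_le_mul_right (hT.points.trans h) (by have := two_le_card (F := F); omega)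
  · refine Nat.le_of_mul_le_mul_right ((hT.lines _ hq).trans h) ?_
    exact Nat.card_pos_iff.2 ⟨⟨⟨1, one_ne_zero, by ring⟩⟩, inferInstance⟩

variable {P : HP Q} {M : Subgroup (Grp Q)} {hB : Nondeg Q}

/-- Siegel elements inside the complement lie in the subgroup. -/
theorem Pure.inner (h : Pure P M hB) {w x : ι → F} (hw : w ∈ P.W) (hx : x ∈ P.W) (hwq : Q w = 0)
    (hwx : B w x = 0) : InM M w x :=
  ⟨hwx, fun g hg => h.levi g (siegel_mem_El hg)
    ⟨1, by rw [one_smul]; exact siegel_fix hg (P.mem_W.1 hw).1 (P.mem_W.1 hx).1⟩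
    ⟨1, by rw [one_smul]; exact siegel_fix hg (P.mem_W.1 hw).2 (P.mem_W.1 hx).2⟩⟩

theorem Pure.mem_levi (h : Pure P M hB) {g : Grp Q} (hg : g ∈ El Q) (hv : ap g P.v = P.v)
    (hf : ap g P.f = P.f) : g ∈ M :=
  h.levi g hg ⟨1, by rw [one_smul, hv]⟩ ⟨1, by rw [one_smul, hf]⟩

theorem mem_range_smul {y x : ι → F} {c : F} (hx : x = c • y) : x ∈ Submodule.span F {y} :=
  Submodule.mem_span_singleton.2 ⟨c, hx.symm⟩

/-- At a singular vector of the complement a line of the secant plane gives parameters. -/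
theorem Pure.secant (h : Pure P M hB) {k T : ℕ} (hk : Module.finrank F (ι → F) = k + 2) (hk5 : 5 ≤ k)
    (hN : q = 2 ∨ Num q k T) (hplane : T * (2 * (q - 1)) ≤ q ^ 2 * (L1 q k * L2 q k))
    {w : ι → F} (hw : w ∈ P.W) (hwq : Q w = 0) (hw0 : w ≠ 0) :
    T ≤ M.relIndex (El Q) ∨ ∃ a : F, ∀ c : F, InM M w (c • (P.f + a • P.v)) := by
  classical
  cases nonempty_fintype F
  obtain ⟨P', hP'v, hP'f⟩ := P.exists_at hB hw hwq hw0
  have hzW : P'.v ∈ P.W := by rw [hP'v]; exact hw
  have hvW : P.v ∈ P'.W := P'.mem_W.2 ⟨by rw [b_comm]; exact (P.mem_W.1 hzW).1,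
    by rw [b_comm]; exact (P.mem_W.1 hP'f).1⟩
  have hfW : P.f ∈ P'.W := P'.mem_W.2 ⟨by rw [b_comm]; exact (P.mem_W.1 hzW).2,
    by rw [b_comm]; exact (P.mem_W.1 hP'f).2⟩
  set A := P'.A M hB
  have hAin : ∀ x ∈ P'.W, B P.v x = 0 → B P.f x = 0 → x ∈ A := fun x hx hvx hfx =>
    ⟨hx, h.inner hzW (P.mem_W.2 ⟨hvx, hfx⟩) P'.hv (P'.mem_W.1 hx).1⟩
  have hnov : ∀ s : F, s • P.v ∈ A → s = 0 := by
    intro s hs
    by_contra hs0
    have h3 := inM_swap M hB P'.hv (by rw [q_smul, P.hv, mul_zero]) hs.2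
    rw [inM_smul_iff M hB P.hv hs0] at h3
    have h4 := h.triv _ ⟨P.W.smul_mem _ (P.W.neg_mem hzW), h3⟩
    exact (smul_ne_zero hs0 (neg_ne_zero.2 P'.v_ne)) h4
  set D := perp (Q := Q) P'.W A
  have hU : Module.finrank F P'.W = k := by have := P'.finrank_W hB; omega
  have hDplane : ∀ d ∈ D, d = B P.f d • P.v + B P.v d • P.f := by
    intro d hd
    have hd1 : P.pW d ∈ P'.W := P'.W.sub_mem (P'.W.sub_mem hd.1 (P'.W.smul_mem _ hvW)) (P'.W.smul_mem _ hfW)
    suffices P.pW d = 0 by
      rw [HP.pW, sub_sub, sub_eq_zero] at this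
      exact this
    refine P'.nondeg hB _ hd1 fun x hx => ?_
    have hx1 : P.pW x ∈ P'.W := P'.W.sub_mem (P'.W.sub_mem hx (P'.W.smul_mem _ hvW)) (P'.W.smul_mem _ hfW)
    have e : B (P.pW d) x = B d (P.pW x) := by
      simp only [HP.pW, b_sub_left, b_sub_right, b_smul_left, b_smul_right, b_comm d P.v, b_comm d P.f]
      ring
    rw [e]
    by_contra hne
    refine chr_one (F := F) ?_
    have h1 := hd.2 ((B d (P.pW x))⁻¹ • P.pW x) (hAin _ (P'.W.smul_mem _ hx1)
      (by rw [b_smul_right, (P.mem_W.1 (P.pW_mem x)).1, mul_zero])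
      (by rw [b_smul_right, (P.mem_W.1 (P.pW_mem x)).2, mul_zero]))
    rwa [b_smul_right, inv_mul_cancel₀ hne] at h1
  by_cases hD : ∃ w', ∀ d ∈ D, d ∈ Submodule.span F {w'}
  · obtain ⟨w', hw'⟩ := hD
    obtain ⟨d, hd, hdne⟩ := exists_perp_ne (P'.nondeg hB) (A := A) (fun a ha => ha.1) hvW (fun hv =>
      one_ne_zero (hnov 1 (by rw [one_smul]; exact hv)))
    have hd0 : d ≠ 0 := fun e => hdne (by rw [e, b_zero_left, AddChar.map_zero_eq_one])
    have hline : ∀ y ∈ D, y ∈ Submodule.span F {d} := fun y hy => by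
      obtain ⟨c, rfl⟩ := Submodule.mem_span_singleton.1 (hw' y hy)
      obtain ⟨c', hc'⟩ := Submodule.mem_span_singleton.1 (hw' d hd)
      have hc0 : c' ≠ 0 := fun e => hd0 (by rw [← hc', e, zero_smul])
      exact Submodule.mem_span_singleton.2 ⟨c / c', by rw [← hc', smul_smul, div_mul_cancel₀ _ hc0]⟩
    have hmem : ∀ x ∈ P'.W, B d x = 0 → x ∈ A := fun x hx hdx =>
      mem_of_perp_le (P'.nondeg hB) (A := A) (fun a ha => ha.1) hline hx hdx
    have hy : ∀ c : F, c • (B P.f d • P.v - B P.v d • P.f) ∈ A := fun c => by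
      refine hmem _ (P'.W.smul_mem _ (P'.W.sub_mem (P'.W.smul_mem _ hvW) (P'.W.smul_mem _ hfW))) ?_
      rw [b_smul_right, b_sub_right, b_smul_right, b_smul_right, b_comm d P.v, b_comm d P.f]
      ring
    by_cases hb : B P.v d = 0
    · exfalso
      have ha : B P.f d ≠ 0 := fun e => hd0 (by rw [hDplane d hd, e, hb, zero_smul, zero_smul, add_zero])
      have h1 := hy (B P.f d)⁻¹
      rw [hb, zero_smul, sub_zero, smul_smul, inv_mul_cancel₀ ha] at h1
      exact one_ne_zero (hnov 1 h1)
    · refine Or.inr ⟨-(B P.f d / B P.v d), fun c => ?_⟩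
      have h1 := (hy (-(c / B P.v d))).2
      rw [hP'v] at h1
      rwa [show c • (P.f + -(B P.f d / B P.v d) • P.v) =
        -(c / B P.v d) • (B P.f d • P.v - B P.v d • P.f) by
        match_scalars <;> field_simp]
  push Not at hD
  refine Or.inl ?_
  obtain ⟨d, hd, hd0⟩ := hD 0
  rw [Submodule.span_zero_singleton, Submodule.mem_bot] at hd0
  obtain ⟨d', hd', hdd'⟩ := hD d
  have hDle := card_perp_le (P'.nondeg hB) (A := A) fun a ha => ha.1
  rw [card_subspace, hU] at hDle
  have hD3 : 3 ≤ Nat.card D := by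
    let f : Fin 3 → D := ![0, ⟨d, hd⟩, ⟨d', hd'⟩]
    have hf : Function.Injective f := by
      intro i j e
      have e' : ((f i : D) : ι → F) = f j := congrArg Subtype.val e
      have h2 : d' ≠ 0 := fun e => hdd' (e ▸ Submodule.zero_mem _)
      have h3 : d' ≠ d := fun e => hdd' (e ▸ Submodule.mem_span_singleton_self _)
      fin_cases i <;> fin_cases j
      all_goals first
        | rfl
        | exact absurd e' hd0
        | exact absurd e'.symm hd0
        | exact absurd e' h2
        | exact absurd e'.symm h2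
        | exact absurd e' h3
        | exact absurd e'.symm h3
    have := Nat.card_le_card_of_injective f hf
    rwa [Nat.card_eq_fintype_card, Fintype.card_fin] at this
  -- the annihilator is the whole plane
  let S := Submodule.span F ({P.v, P.f} : Set (ι → F))
  have hSm : ∀ x, x ∈ S → ∃ a b : F, a • P.v + b • P.f = x := fun x hx => Submodule.mem_span_pair.1 hx
  have hScard : Nat.card S ≤ q ^ 2 := by
    rw [sq, ← Nat.card_prod]
    exact Nat.card_le_card_of_surjective (fun c => (⟨c.1 • P.v + c.2 • P.f,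
      Submodule.mem_span_pair.2 ⟨c.1, c.2, rfl⟩⟩ : S)) fun x => by
        obtain ⟨a, b, e⟩ := hSm x x.2
        exact ⟨(a, b), Subtype.ext e⟩
  have hDS : ∀ y ∈ D, y ∈ S := fun y hy => Submodule.mem_span_pair.2 ⟨_, _, (hDplane y hy).symm⟩
  have hDS' : Nat.card D ≤ Nat.card S := Nat.card_le_card_of_injective (fun y => (⟨y, hDS y y.2⟩ : S))
    fun a b e => Subtype.ext (congrArg (fun z : S => (z : ι → F)) e)
  by_cases hDcard : Nat.card S ≤ Nat.card D
  swap
  · -- a small annihilator
    have hdvd : Nat.card D ∣ q ^ Module.finrank F (ι → F) := by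
      rw [← Module.natCard_eq_pow_finrank (K := F) (V := ι → F)]
      exact D.card_addSubgroup_dvd_card
    obtain ⟨p, _, e, hp, hpe⟩ := FiniteField.card' F
    have hpe' : q = p ^ (e : ℕ) := by rw [Nat.card_eq_fintype_card, hpe]
    obtain ⟨i, -, hi⟩ := (Nat.dvd_prime_pow hp).1
      (show Nat.card D ∣ p ^ ((e : ℕ) * Module.finrank F (ι → F)) by rwa [pow_mul, ← hpe'])
    rcases hN with h2 | hN
    · exfalso
      rw [h2] at hdvd hScard
      obtain ⟨i, -, hi⟩ := (Nat.dvd_prime_pow Nat.prime_two).1 hdvd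
      have h4 : 2 ^ i < 2 ^ 2 := by omega
      have := (Nat.pow_lt_pow_iff_right (by norm_num)).1 h4
      interval_cases i <;> omega
    have hR : Nat.card D ≤ cutR q k := by
      by_cases hk5' : k = 5
      · subst hk5'
        have hp3 : 3 ≤ p := by
          have h2 := two_ne_zero_of_five hB (P'.nondeg hB) hU
          by_contra h3
          obtain rfl : p = 2 := by have := hp.two_le; omega
          exact h2 (by exact_mod_cast CharP.cast_eq_zero F 2)
        rw [cutR, if_pos rfl, Nat.le_div_iff_mul_le (by norm_num), hi, hpe', ← pow_mul]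
        refine (Nat.mul_le_mul_left _ hp3).trans ?_
        rw [← pow_succ]
        refine Nat.pow_le_pow_right hp.pos ?_
        have hlt : Nat.card D < q ^ 2 := by omega
        rw [hi, hpe', ← pow_mul, Nat.pow_lt_pow_iff_right hp.one_lt] at hlt
        omega
      · refine (hDS'.trans hScard).trans ?_
        unfold cutR
        rw [if_neg hk5']
        split_ifs with h6
        · exact le_rfl
        · rw [Nat.le_div_iff_mul_le (by norm_num)]
          calc q ^ 2 * 2 ≤ q ^ 2 * q := Nat.mul_le_mul_left _ (two_le_card (F := F))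
            _ = q ^ 3 := by ring
            _ ≤ q ^ (k - 4) := Nat.pow_le_pow_right (by have := two_le_card (F := F); omega) (by omega)
    refine Nat.le_of_mul_le_mul_right ?_ (show 0 < (Nat.card D - 1) * (Nat.card D - 2) from
      Nat.mul_pos (by omega) (by omega))
    refine (dual_mono hD3 hR hN.dual).trans ?_
    refine Nat.le_of_mul_le_mul_left ?_ (show 0 < Nat.card A from Nat.card_pos)
    have hst : Stable P' M hB D :=
      ⟨fun _ h => h.1, fun g _ hgv himg x hx => P'.lin_perp M hB hgv himg hx⟩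
    calc Nat.card A * (Nat.card D * C2 q k) = Nat.card D * Nat.card A * C2 q k := by ring
      _ ≤ q ^ k * C2 q k := Nat.mul_le_mul_right _ hDle
      _ ≤ M.relIndex (El Q) * (Nat.card A * ((Nat.card D - 1) * (Nat.card D - 2))) :=
          hst.pair hk hk5 hd hd' hd0 hdd'
      _ = _ := by ring
  have hSD : ∀ y, y ∈ S → y ∈ D := by
    intro y hy
    have hinj : Function.Injective (fun y : D => (⟨y, hDS y y.2⟩ : S)) := fun a b e =>
      Subtype.ext (congrArg (fun z : S => (z : ι → F)) e)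
    obtain ⟨⟨y', hy'⟩, e⟩ := (hinj.bijective_of_nat_card_le hDcard).2 ⟨y, hy⟩
    rw [← show y' = y from congrArg Subtype.val e]
    exact hy'
  have h1 := plane_index P' M hB hk hk5 P.hv P.hf P.hvf hvW hfW fun y => ⟨hDS y, hSD y⟩
  have hq2 : Nat.card D = q ^ 2 := by
    refine le_antisymm (hDS'.trans hScard) (le_trans ?_ hDcard)
    rw [sq, ← Nat.card_prod]
    refine Nat.card_le_card_of_injective (fun c => (⟨c.1 • P.v + c.2 • P.f,
      Submodule.mem_span_pair.2 ⟨c.1, c.2, rfl⟩⟩ : S)) fun a b e => ?_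
    have e' : a.1 • P.v + a.2 • P.f = b.1 • P.v + b.2 • P.f := congrArg (fun z : S => (z : ι → F)) e
    have := P.linearIndependent.eq_zero_of_pair (s := a.1 - b.1) (t := a.2 - b.2)
      (by linear_combination (norm := module) e')
    exact Prod.ext (sub_eq_zero.1 this.1) (sub_eq_zero.1 this.2)
  rw [hq2] at hDle
  refine Nat.le_of_mul_le_mul_right ?_
    (show 0 < Nat.card A * (2 * (q - 1)) from Nat.mul_pos Nat.card_pos
      (by have := two_le_card (F := F); omega))
  refine le_trans ?_ h1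
  calc T * (Nat.card A * (2 * (q - 1))) = Nat.card A * (T * (2 * (q - 1))) := by ring
    _ ≤ Nat.card A * (q ^ 2 * (L1 q k * L2 q k)) := Nat.mul_le_mul_left _ hplane
    _ = q ^ 2 * Nat.card A * (L1 q k * L2 q k) := by ring
    _ ≤ _ := Nat.mul_le_mul_right _ hDle

/-- A proper subgroup containing the pair stabiliser has large index. -/
theorem Pure.bound (h : Pure P M hB) {k T : ℕ} (hk : Module.finrank F (ι → F) = k + 2) (hk5 : 5 ≤ k)
    (hM : ¬ El Q ≤ M) (hN : q = 2 ∨ Num q k T) (hT : Totals Q T)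
    (hplane : T * (2 * (q - 1)) ≤ q ^ 2 * (L1 q k * L2 q k)) : T ≤ M.relIndex (El Q) := by
  classical
  by_contra hlt
  have hn5 : 5 ≤ Module.finrank F (ι → F) := by omega
  have hdW : Module.finrank F P.W = k := by have := P.finrank_W hB; omega
  have hsec := fun w (hw : w ∈ P.W) (hwq : Q w = 0) (hw0 : w ≠ 0) =>
    (h.secant hk hk5 hN hplane hw hwq hw0).resolve_left hlt
  obtain ⟨w₀, hw₀, hw₀0, hw₀q⟩ := exists_singular (Q := Q) (U := P.W) (by omega)
  obtain ⟨a, ha⟩ := hsec w₀ hw₀ hw₀q hw₀0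
  obtain ⟨y, hy⟩ : ∃ y, y = P.f + a • P.v := ⟨_, rfl⟩
  rw [← hy] at ha
  -- the same line at every singular vector of the complement
  have hall : ∀ w ∈ P.W, Q w = 0 → ∀ c : F, InM M w (c • y) := by
    intro w hw hwq c
    by_cases hw0 : w = 0
    · subst hw0
      exact ⟨b_zero_left _, fun g hg => by rw [siegel_zero_eq_one hg]; exact one_mem M⟩
    obtain ⟨g, hg, g1, g2, g3⟩ := P.exists_move_one hB hk hk5 hw₀ hw hw₀0 hw0 (hw₀q.trans hwq.symm)
    have := inM_conj M hB (h.mem_levi hg g1 g2) (ha c)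
    rwa [g3, ap_smul, hy, ap_add, ap_smul, g1, g2, ← hy] at this
  -- opposite singular vectors in the complement with full radicals give everything
  have hopp : ∀ c ∈ P.W, Q c = 0 → c ≠ 0 → (∀ x, B c x = 0 → InM M c x) → False := by
    intro c hc hcq hc0 hcen
    obtain ⟨P', hP'v, hP'f⟩ := P.exists_at hB hc hcq hc0
    have hf0 : P'.f ≠ 0 := ne_zero_of_b (y := P'.v) (by rw [P'.hfv]; exact one_ne_zero)
    obtain ⟨g, hg, g1, g2, g3⟩ := P.exists_move_one hB hk hk5 hc hP'f hc0 hf0 (hcq.trans P'.hf.symm)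
    refine hM (El_le_of_two hB hcq P'.hf (by rw [← hP'v, P'.hvf]; exact one_ne_zero)
      (fun x k hk' => (hcen x hk'.2.1).2 k hk') fun x k hk' => ?_)
    have hgM := h.mem_levi hg g1 g2
    have h1 := inM_conj M hB hgM (hcen (ap g⁻¹ x) (by
      rw [← ap_b g, g3, ap_ap_inv]; exact hk'.2.1))
    rw [g3, ap_ap_inv] at h1
    exact h1.2 k hk'
  by_cases ha0 : a = 0
  · subst ha0
    rw [zero_smul, add_zero] at hy
    subst hy
    have hf0 : P.f ≠ 0 := ne_zero_of_b (y := P.v) (by rw [P.hfv]; exact one_ne_zero)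
    have hcen : ∀ x, B P.f x = 0 → InM M P.f x := by
      have hWf : ∀ x ∈ P.W, InM M P.f x := by
        intro x hx
        obtain ⟨f', hf', hf'q, hwf⟩ := exists_partner_in hB (P.nondeg hB) (P := ⊥) bot_le
          ⟨hw₀, fun p hp => by rw [(Submodule.mem_bot F).1 hp]; exact b_zero_left w₀⟩
          (fun h => hw₀0 ((Submodule.mem_bot F).1 h)) hw₀q
        have hsp := le_span_singular_in hw₀ hf'.1 hw₀q hf'q hwf hx
        clear hx
        suffices ∀ c : F, InM M P.f (c • x) by simpa using this 1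
        induction hsp using Submodule.span_induction with
        | mem z hz =>
            intro c
            have h1 := inM_smul_iff M hB P.hf (c := 1) one_ne_zero (x := c • z)
            have h2 := hall z hz.1 hz.2
            by_cases hc : c = 0
            · rw [hc, zero_smul]; exact inM_zero M hB P.hf
            have h3 := inM_swap M hB hz.2 (by rw [q_smul, P.hf, mul_zero]) (h2 c)
            rw [inM_smul_iff M hB P.hf hc] at h3
            have h4 := inM_neg M hB P.hf h3
            rwa [smul_neg, neg_neg] at h4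
        | zero => intro c; rw [smul_zero]; exact inM_zero M hB P.hf
        | add u v _ _ hu hv => intro c; rw [smul_add]; exact inM_add M hB (hu c) (hv c)
        | smul b u _ hu => intro c; rw [smul_smul]; exact hu _
      intro x hx
      have e : x = P.pW x + B P.v x • P.f := by rw [HP.pW, hx, zero_smul, sub_zero]; abel
      rw [e]
      exact inM_add M hB (hWf _ (P.pW_mem x)) (inM_self M hB P.hf _)
    refine hlt (bound_of_line hB hn5 hT hf0 fun g hg => ?_)
    obtain ⟨c, hc⟩ : ∃ c, c = ap g P.f := ⟨_, rfl⟩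
    have hcc : ∀ x k, IsSiegel c x k → k ∈ M := fun x k hk' => by
      have h1 := inM_conj M hB hg (hcen (ap g⁻¹ x) (by rw [← ap_b g, ap_ap_inv, ← hc]; exact hk'.2.1))
      rw [ap_ap_inv, ← hc] at h1
      exact h1.2 k hk'
    have hcq : Q c = 0 := by rw [hc, ap_q, P.hf]
    have hfc : B P.f c = 0 := by
      by_contra hne
      exact hM (El_le_of_two hB P.hf hcq hne (fun x k hk' => (hcen x hk'.2.1).2 k hk') hcc)
    obtain ⟨w, hw⟩ : ∃ w, w = P.pW c := ⟨_, rfl⟩
    have e : c = w + B P.v c • P.f := by rw [hw, HP.pW, hfc, zero_smul, sub_zero]; abel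
    have hwW : w ∈ P.W := hw ▸ P.pW_mem c
    by_cases hw0 : w = 0
    · exact ⟨B P.v c, by rw [← hc]; rw [hw0, zero_add] at e; exact e⟩
    exfalso
    have hwq : Q w = 0 := by
      rw [e, q_add, q_smul, P.hf, b_smul_right, b_comm w P.f, (P.mem_W.1 hwW).2] at hcq
      linear_combination hcq
    obtain ⟨P', hP'v, hP'f⟩ := P.exists_at hB hwW hwq hw0
    have hf'0 : P'.f ≠ 0 := ne_zero_of_b (y := P'.v) (by rw [P'.hfv]; exact one_ne_zero)
    obtain ⟨h', hh', g1, g2, g3⟩ := P.exists_move_one hB hk hk5 hwW hP'f hw0 hf'0 (hwq.trans P'.hf.symm)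
    have hc' : ap h' c = P'.f + B P.v c • P.f := by
      conv_lhs => rw [e]
      rw [ap_add, ap_smul, g2, g3]
    refine hM (El_le_of_two hB hcq (show Q (ap h' c) = 0 by rw [ap_q, hcq]) ?_ hcc fun x k hk' => ?_)
    · rw [hc']
      conv_lhs => rw [e]
      simp only [b_add_left, b_add_right, b_smul_left, b_smul_right, b_self_zero P.hf,
        b_comm w P.f, (P.mem_W.1 hwW).2, (P.mem_W.1 hP'f).2,
        mul_zero, add_zero]
      rw [← hP'v, P'.hvf]
      exact one_ne_zero
    · obtain ⟨k', hk''⟩ := exists_siegel hB hcq (v := ap h'⁻¹ x) (by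
        rw [← ap_b h', ap_ap_inv]; exact hk'.2.1)
      exact siegel_conj_mem hk' (h.mem_levi hh' g1 g2) fun l hl => hcc _ l (by rwa [ap_inv_ap] at hl)
  -- a non-singular line
  obtain ⟨z, hzdef⟩ : ∃ z, z = P.f - a • P.v := ⟨_, rfl⟩
  have hzy : B z y = 0 := by
    rw [hzdef, hy]
    simp only [b_sub_left, b_add_right, b_smul_left, b_smul_right, b_self_zero P.hv, b_self_zero P.hf,
      P.hvf, P.hfv]
    ring
  have hzW : ∀ x ∈ P.W, B z x = 0 := fun x hx => by
    rw [hzdef, b_sub_left, b_smul_left, (P.mem_W.1 hx).1, (P.mem_W.1 hx).2]; ring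
  have hzdec : ∀ x, B z x = 0 → x = P.pW x + B P.v x • y := fun x hx => by
    rw [hzdef, b_sub_left, b_smul_left] at hx
    rw [hy, HP.pW, show B P.f x = a * B P.v x by linear_combination hx]
    module
  have hz0 : z ≠ 0 := fun e => by
    have := congrArg (B P.v) e
    rw [hzdef, b_sub_right, b_smul_right, P.hvf, b_self_zero P.hv, b_zero_right] at this
    simp at this
  have hyW : ∀ w ∈ P.W, B w y = 0 := fun w hw => by
    rw [hy, b_add_right, b_smul_right, b_comm w P.f, b_comm w P.v, (P.mem_W.1 hw).1, (P.mem_W.1 hw).2]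
    ring
  -- radicals at singular vectors orthogonal to the line
  have hperp : ∀ c, Q c = 0 → c ≠ 0 → B z c = 0 → ∃ g ∈ M, ap g z = z ∧ ap g c ∈ P.W := by
    intro c hcq hc0 hzc
    by_cases hg0 : B P.v c = 0
    · refine ⟨1, one_mem M, ap_one z, ?_⟩
      rw [ap_one, hzdec c hzc, hg0, zero_smul, add_zero]
      exact P.pW_mem c
    obtain ⟨w', hw'W, hw'q, hww'⟩ : ∃ w ∈ P.W, Q w = 0 ∧ B (P.pW c) w ≠ 0 := by
      by_contra hcon
      push Not at hcon
      obtain ⟨f', hf', hf'q, hwf⟩ := exists_partner_in hB (P.nondeg hB) (P := ⊥) bot_le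
        ⟨hw₀, fun p hp => by rw [(Submodule.mem_bot F).1 hp]; exact b_zero_left w₀⟩
        (fun h => hw₀0 ((Submodule.mem_bot F).1 h)) hw₀q
      have hp0 : P.pW c = 0 := P.nondeg hB _ (P.pW_mem c) fun x hx => by
        have hsp := le_span_singular_in hw₀ hf'.1 hw₀q hf'q hwf hx
        clear hx
        induction hsp using Submodule.span_induction with
        | mem u hu => exact hcon u hu.1 hu.2
        | zero => exact b_zero_right _
        | add u v _ _ hu hv => rw [b_add_right, hu, hv, add_zero]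
        | smul b u _ hu => rw [b_smul_right, hu, mul_zero]
      have e := hzdec c hzc
      rw [hp0, zero_add] at e
      rw [e, q_smul, hy, q_add, q_smul, P.hf, P.hv, b_smul_right, P.hfv] at hcq
      have h9 : B P.v c * B P.v c * a = 0 := by linear_combination hcq
      exact hg0 (mul_self_eq_zero.1 ((mul_eq_zero.1 h9).resolve_right ha0))
    have hcw : B c w' = B (P.pW c) w' := by
      conv_lhs => rw [hzdec c hzc]
      rw [b_add_left, b_smul_left, b_comm y w', hyW w' hw'W, mul_zero, add_zero]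
    obtain ⟨l, hl⟩ : ∃ l, l = -(B P.v c) / B (P.pW c) w' := ⟨_, rfl⟩
    have hin := hall w' hw'W hw'q l
    obtain ⟨g, hg⟩ := exists_siegel hB hw'q hin.1
    refine ⟨g, hin.2 g hg, siegel_fix hg (hzW w' hw'W) (by rw [b_smul_right, hzy, mul_zero]), ?_⟩
    rw [hg.2.2, hcw]
    have e : B (P.pW c) w' • l • y = -(B P.v c) • y := by
      rw [smul_smul, hl]
      congr 1
      field_simp
    rw [e]
    conv =>
      enter [2, 1, 1, 1]
      rw [hzdec c hzc]
    rw [neg_smul, add_neg_cancel_right]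
    exact P.W.sub_mem (P.W.sub_mem (P.pW_mem c) (P.W.smul_mem _ hw'W)) (P.W.smul_mem _ hw'W)
  have hrad : ∀ c, Q c = 0 → c ≠ 0 → B z c = 0 → ∀ x, B c x = 0 → B z x = 0 → InM M c x := by
    intro c hcq hc0 hzc x hcx hzx
    obtain ⟨g, hgM, hgz, hgc⟩ := hperp c hcq hc0 hzc
    have hgx : B z (ap g x) = 0 := by rw [← hgz, ap_b]; exact hzx
    have hgcx : B (ap g c) (ap g x) = 0 := by rw [ap_b]; exact hcx
    have e := hzdec _ hgx
    have hp : B (ap g c) (P.pW (ap g x)) = 0 := by
      rw [e, b_add_right, b_smul_right, hyW _ hgc, mul_zero, add_zero] at hgcx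
      exact hgcx
    have hgq : Q (ap g c) = 0 := by rw [ap_q]; exact hcq
    have h1 : InM M (ap g c) (ap g x) := by
      rw [e]
      exact inM_add M hB (h.inner hgc (P.pW_mem _) hgq hp) (hall _ hgc hgq _)
    have := inM_conj M hB (inv_mem hgM) h1
    rwa [ap_inv_ap, ap_inv_ap] at this
  refine hlt (bound_of_line hB hn5 hT hz0 fun g hg => ?_)
  by_contra hmove
  push Not at hmove
  obtain ⟨z₁, hz₁⟩ : ∃ z₁, z₁ = ap g z := ⟨_, rfl⟩
  obtain ⟨c, f', hc, -, hcsp, hcq, hf'q, hcf⟩ := exists_pair_in hB (fun x _ hh => hB x fun y => hh y Submodule.mem_top)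
    (P := Submodule.span F ({z, z₁} : Set (ι → F))) le_top (by
      have h1 : Module.finrank F (Submodule.span F ({z, z₁} : Set (ι → F))) ≤ 2 := by
        rw [← Matrix.range_cons_cons_empty z z₁ ![]]
        exact (finrank_range_le_card _).trans (by rw [Fintype.card_fin])
      rw [finrank_top]
      omega)
  have hzc : B z c = 0 := hc.2 z (Submodule.subset_span (Set.mem_insert _ _))
  have hz1c : B z₁ c = 0 := hc.2 z₁ (Submodule.subset_span (Set.mem_insert_of_mem _ rfl))
  have hc0 : c ≠ 0 := fun e => hcsp (e ▸ Submodule.zero_mem _)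
  have hsp : z₁ ∉ Submodule.span F ({z, c} : Set (ι → F)) := fun hh => by
    obtain ⟨α, β, e⟩ := Submodule.mem_span_pair.1 hh
    by_cases hβ : β = 0
    · rw [hβ, zero_smul, add_zero] at e
      exact hmove α (by rw [← hz₁, e])
    · refine hcsp ((Submodule.smul_mem_iff _ hβ).1 ?_)
      rw [show β • c = z₁ - α • z by rw [← e]; abel]
      exact Submodule.sub_mem _ (Submodule.subset_span (Set.mem_insert_of_mem _ rfl))
        (Submodule.smul_mem _ _ (Submodule.subset_span (Set.mem_insert _ _)))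
  -- the whole radical at the common vector
  have hcen : ∀ x, B c x = 0 → InM M c x := by
    intro x hcx
    obtain ⟨u, hu, hzu⟩ : ∃ u ∈ orth Q (Submodule.span F ({z₁, c} : Set (ι → F))), B z u = 1 := by
      refine exists_orth_one hB fun hh => ?_
      obtain ⟨α, β, e⟩ := Submodule.mem_span_pair.1 hh
      by_cases hα : α = 0
      · rw [hα, zero_smul, zero_add] at e
        have h4 := congrArg (B P.v) e
        have h5 := congrArg (B z) e
        have h6 : Q z = 0 := by rw [← e, q_smul, hcq, mul_zero]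
        rw [hzdef, q_sub, q_smul, P.hf, P.hv, b_smul_right, P.hfv] at h6
        simp [ha0] at h6
      · refine hsp (Submodule.mem_span_pair.2 ⟨α⁻¹, -(α⁻¹ * β), ?_⟩)
        rw [← e]
        match_scalars <;> field_simp <;> ring
    rw [mem_orth_span] at hu
    have hu1 : B z₁ u = 0 := hu z₁ (Set.mem_insert _ _)
    have hu2 : B c u = 0 := hu c (Set.mem_insert_of_mem _ rfl)
    have h1 : InM M c (x - B z x • u) := hrad c hcq hc0 hzc _
      (by rw [b_sub_right, b_smul_right, hcx, hu2, mul_zero, sub_zero])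
      (by rw [b_sub_right, b_smul_right, hzu, mul_one, sub_self])
    have h2 : InM M c (B z x • u) := by
      have hgc0 : ap g⁻¹ c ≠ 0 := fun e => hc0 (ap_inj g⁻¹ (by rw [e, ap_zero]))
      have h3 := hrad (ap g⁻¹ c) (by rw [ap_q]; exact hcq) hgc0
        (by rw [← ap_b g, ap_ap_inv, ← hz₁]; exact hz1c) (ap g⁻¹ (B z x • u))
        (by rw [ap_b, b_smul_right, hu2, mul_zero])
        (by rw [← ap_b g, ap_ap_inv, ← hz₁, b_smul_right, hu1, mul_zero])
      have h4 := inM_conj M hB hg h3
      rwa [ap_ap_inv, ap_ap_inv] at h4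
    have := inM_add M hB h1 h2
    rwa [sub_add_cancel] at this
  obtain ⟨g', hg'M, -, hg'c⟩ := hperp c hcq hc0 hzc
  refine hopp (ap g' c) hg'c (by rw [ap_q]; exact hcq) (fun e => hc0 (ap_inj g' (by rw [e, ap_zero]))) ?_
  intro x hx
  have := inM_conj M hB hg'M (hcen (ap g'⁻¹ x) (by rw [← ap_b g', ap_ap_inv]; exact hx))
  rwa [ap_ap_inv] at this

end CfsgLib.MinIndexOrth
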