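import Cfsg.Agent.Lib.MinIndexOrth.Count

/-!
The number of singular vectors of a space of even dimension, by its Witt index.
-/

set_option autoImplicit false
set_option linter.unusedSectionVars false

namespace CfsgLib.MinIndexOrth

open CfsgLib.Orth

variable {F : Type*} [Field F] [Finite F] {ι : Type} [Fintype ι] [DecidableEq ι]
variable {Q : QuadraticForm F (ι → F)}

local notation "B" => QuadraticMap.polar (DFunLike.coe Q)
local notation "q" => Nat.card F

/-- A totally singular subspace of at least half the dimension. -/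
def HasHalf (Q : QuadraticForm F (ι → F)) (U : Submodule F (ι → F)) (h : ℕ) : Prop :=
  ∃ X : Submodule F (ι → F), X ≤ U ∧ (∀ x ∈ X, Q x = 0) ∧ h ≤ Module.finrank F X

/-- The two values. -/
theorem lev_zero_even (hB : Nondeg Q) : ∀ (h : ℕ) (U : Submodule F (ι → F)), NondegOn Q U →
    Module.finrank F U = 2 * h →
      (HasHalf Q U h ∧ q * lev Q U 0 + q ^ h = q ^ (2 * h) + q ^ (h + 1)) ∨
        (¬ HasHalf Q U h ∧ q * lev Q U 0 + q ^ (h + 1) = q ^ (2 * h) + q ^ h) := by
  intro h
  induction h with
  | zero =>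
    intro U _ hd
    have : lev Q U 0 = 1 := le_antisymm (lev_bot U (by omega) 0)
      (Nat.card_pos_iff.2 ⟨⟨⟨0, QuadraticMap.map_zero Q⟩⟩, inferInstance⟩)
    refine Or.inl ⟨⟨⊥, bot_le, fun x hx => by rw [(Submodule.mem_bot F).1 hx, QuadraticMap.map_zero],
      Nat.zero_le _⟩, ?_⟩
    rw [this]; ring
  | succ h ih =>
    intro U hU hd
    by_cases hs : ∃ s ∈ U, s ≠ 0 ∧ Q s = 0
    · -- a vector of a half subspace, if there is one
      obtain ⟨s, hsU, hs0, hsq, hsX⟩ : ∃ s ∈ U, s ≠ 0 ∧ Q s = 0 ∧
          (HasHalf Q U (h + 1) → ∃ X : Submodule F (ι → F), X ≤ U ∧ (∀ x ∈ X, Q x = 0) ∧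
            h + 1 ≤ Module.finrank F X ∧ s ∈ X) := by
        by_cases hH : HasHalf Q U (h + 1)
        · obtain ⟨X, hXU, hX, hXd⟩ := hH
          obtain ⟨s, hsX, hs0⟩ := X.exists_mem_ne_zero_of_ne_bot fun e => by
            rw [e, finrank_bot] at hXd; omega
          exact ⟨s, hXU hsX, hs0, hX s hsX, fun _ => ⟨X, hXU, hX, hXd, hsX⟩⟩
        · obtain ⟨s, h1, h2, h3⟩ := hs
          exact ⟨s, h1, h2, h3, fun h' => absurd h' hH⟩
      obtain ⟨U', hle, hU', hd', hperp, hlev⟩ := exists_split hB hU hsU hs0 hsq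
      have e := hlev 0
      rw [show Module.finrank F U' = 2 * h by omega] at e
      have hsU' : s ∉ U' := fun h' => hs0 (hU' s h' hperp)
      rcases ih U' hU' (by omega) with ⟨⟨X, hXU, hX, hXd⟩, hc⟩ | ⟨hno, hc⟩
      · refine Or.inl ⟨⟨X ⊔ Submodule.span F {s}, sup_le (hXU.trans hle)
          ((Submodule.span_singleton_le_iff_mem _ _).2 hsU), ?_, ?_⟩, ?_⟩
        · intro x hx
          obtain ⟨a, ha, b, hb, rfl⟩ := Submodule.mem_sup.1 hx
          obtain ⟨c, rfl⟩ := Submodule.mem_span_singleton.1 hb
          rw [q_add, hX a ha, q_smul, hsq, b_smul_right, b_comm, hperp a (hXU ha)]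
          ring
        · have h1 : X ⊓ Submodule.span F {s} = ⊥ := (Submodule.eq_bot_iff _).2 fun x hx => by
            obtain ⟨c, rfl⟩ := Submodule.mem_span_singleton.1 hx.2
            by_contra hne
            have hc : c ≠ 0 := fun e => hne (by rw [e, zero_smul])
            exact hsU' ((Submodule.smul_mem_iff _ hc).1 (hXU hx.1))
          have h2 := Submodule.finrank_sup_add_finrank_inf_eq X (Submodule.span F {s})
          rw [h1, finrank_bot, finrank_span_singleton hs0] at h2
          omega
        · zify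
          have hc' : (q : ℤ) * lev Q U' 0 + (q : ℤ) ^ h = (q : ℤ) ^ (2 * h) + (q : ℤ) ^ (h + 1) := by
            exact_mod_cast hc
          rw [e]
          linear_combination (q : ℤ) * hc'
      · refine Or.inr ⟨fun hH => hno ?_, ?_⟩
        · obtain ⟨X, hXU, hX, hXd, hsX'⟩ := hsX hH
          refine ⟨X ⊓ U', inf_le_right, fun x hx => hX x hx.1, ?_⟩
          have hlt : X ⊔ U' < U := by
            refine lt_of_le_of_ne (sup_le hXU hle) fun e => hs0 (hU s hsU fun y hy => ?_)
            rw [← e] at hy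
            obtain ⟨a, ha, b, hb, rfl⟩ := Submodule.mem_sup.1 hy
            rw [b_add_right, hperp b hb, show B s a = 0 from le_orth_of_singular hX ha s hsX', add_zero]
          have h1 := Submodule.finrank_lt_finrank_of_lt hlt
          have h2 := Submodule.finrank_sup_add_finrank_inf_eq X U'
          omega
        · zify
          have hc' : (q : ℤ) * lev Q U' 0 + (q : ℤ) ^ (h + 1) = (q : ℤ) ^ (2 * h) + (q : ℤ) ^ h := by
            exact_mod_cast hc
          rw [e]
          linear_combination (q : ℤ) * hc'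
    · push Not at hs
      have hani : ∀ x ∈ U, Q x = 0 → x = 0 := fun x hx hq => by
        by_contra h0
        exact hs x hx h0 hq
      refine Or.inr ⟨fun ⟨X, hXU, hX, hXd⟩ => ?_, ?_⟩
      · obtain ⟨x, hx, hx0⟩ := X.exists_mem_ne_zero_of_ne_bot fun e => by
          rw [e, finrank_bot] at hXd; omega
        exact hx0 (hani x (hXU hx) (hX x hx))
      have hd2 : h = 0 := by
        by_contra hh
        obtain ⟨v, hv, hv0, hvq⟩ := exists_singular (Q := Q) (U := U) (by omega)
        exact hv0 (hani v hv hvq)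
      subst hd2
      rw [(lev_small hB hU (by omega) hani 0).2 rfl]
      ring

/-- The singular vectors of a space with a half subspace. -/
theorem lev_plus (hB : Nondeg Q) {h : ℕ} {U : Submodule F (ι → F)} (hU : NondegOn Q U)
    (hd : Module.finrank F U = 2 * h) (hH : HasHalf Q U h) :
    q * lev Q U 0 + q ^ h = q ^ (2 * h) + q ^ (h + 1) := by
  rcases lev_zero_even hB h U hU hd with h1 | h1
  exacts [h1.2, absurd hH h1.1]

end CfsgLib.MinIndexOrth
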