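import Cfsg.Agent.Lib.MinIndexOrth.Arith
import Cfsg.Agent.Lib.MinIndexOrth.Exact
import Cfsg.Agent.Lib.Classical.OrthCenter

/-!
The least index of a proper subgroup of `PΩ`, attained by the stabiliser of a point.
-/

set_option autoImplicit false
set_option linter.unusedSectionVars false

namespace CfsgLib.MinIndexOrth

open CfsgLib.Orth

variable {F : Type*} [Field F] [Finite F] {ι : Type} [Fintype ι] [DecidableEq ι]
variable {Q : QuadraticForm F (ι → F)}

local notation "B" => QuadraticMap.polar (DFunLike.coe Q)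
local notation "q" => Nat.card F

/-- Bounds in `Ω` give bounds in its quotient by the centre. -/
theorem pomega_lower (hB : Nondeg Q) (hn : 5 ≤ Module.finrank F (ι → F)) {T : ℕ}
    (h : ∀ M : Subgroup (Grp Q), ¬ El Q ≤ M → T ≤ M.relIndex (El Q))
    (H : Subgroup (Cfsg.POmega F ⇑Q)) (hH : H ≠ ⊤) : T ≤ H.index := by
  have hs : Function.Surjective (QuotientGroup.mk' (Subgroup.center (Cfsg.Omega F ⇑Q))) :=
    QuotientGroup.mk'_surjective _
  obtain ⟨K, hK⟩ : ∃ K, K = H.comap (QuotientGroup.mk' (Subgroup.center (Cfsg.Omega F ⇑Q))) := ⟨_, rfl⟩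
  have hKH : K.index = H.index := hK ▸ H.index_comap_of_surjective hs
  have hsub : (K.map (Cfsg.Omega F ⇑Q).subtype).subgroupOf (Cfsg.Omega F ⇑Q) = K :=
    Subgroup.comap_map_eq_self_of_injective (Subgroup.subtype_injective _) K
  have hle : ¬ El Q ≤ K.map (Cfsg.Omega F ⇑Q).subtype := fun hle => by
    rw [← omega_eq_El hB hn, ← Subgroup.subgroupOf_eq_top, hsub] at hle
    exact hH (Subgroup.comap_injective hs (by rw [← hK, hle, Subgroup.comap_top]))
  have h1 := h _ hle
  rwa [← omega_eq_El hB hn, Subgroup.relIndex, hsub, hKH] at h1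

/-- A subgroup of `Ω` containing the scalars gives one of the quotient with the same index. -/
theorem pomega_exists (hB : Nondeg Q) (hn : 5 ≤ Module.finrank F (ι → F)) {M : Subgroup (Grp Q)}
    (hneg : ∀ g : Grp Q, ((g : GL ι F) : Matrix ι ι F) = -1 → g ∈ M) :
    ∃ H : Subgroup (Cfsg.POmega F ⇑Q), H.index = M.relIndex (El Q) := by
  refine ⟨(M.subgroupOf (Cfsg.Omega F ⇑Q)).map (QuotientGroup.mk' _), ?_⟩
  rw [Subgroup.index_map_eq _ (QuotientGroup.mk'_surjective _), ← omega_eq_El hB hn]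
  · rfl
  rw [QuotientGroup.ker_mk']
  intro z hz
  rw [Subgroup.mem_subgroupOf]
  rcases commute_El_scalar hB hn (x := (z : Grp Q)) (fun a ha =>
    congrArg Subtype.val (Subgroup.mem_center_iff.1 hz ⟨a, omega_eq_El hB hn ▸ ha⟩)) with h | h
  · rw [h]; exact one_mem M
  · exact hneg _ h

/-- The stabiliser of a line. -/
def lineStab (Q : QuadraticForm F (ι → F)) (z : ι → F) : Subgroup (Grp Q) :=
  stab Q (Submodule.span F {z})

theorem mem_lineStab {z : ι → F} {g : Grp Q} (h : ∃ c : F, ap g z = c • z) : g ∈ lineStab Q z := by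
  obtain ⟨c, hc⟩ := h
  refine mem_stab_of_le fun x hx => ?_
  obtain ⟨a, rfl⟩ := Submodule.mem_span_singleton.1 hx
  rw [ap_smul, hc, smul_smul]
  exact Submodule.smul_mem _ _ (Submodule.mem_span_singleton_self z)

/-- The cosets of the stabiliser of a line, against the vectors of its value. -/
theorem lineStab_index (hB : Nondeg Q) (hn : 5 ≤ Module.finrank F (ι → F)) {z : ι → F} (hz : z ≠ 0) :
    (lineStab Q z).relIndex (El Q) * Nat.card {t : F // t ≠ 0 ∧ t * t * Q z = Q z} =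
      Nat.card {y : ι → F // y ≠ 0 ∧ Q y = Q z} := by
  classical
  cases nonempty_fintype F
  refine le_antisymm ?_ (line_index hB hn hz fun g hg => ?_)
  · rw [Subgroup.relIndex, Subgroup.index_eq_card, ← Nat.card_prod]
    choose g hg using fun C : El Q ⧸ (lineStab Q z).subgroupOf (El Q) => QuotientGroup.mk_surjective C
    refine Nat.card_le_card_of_injective (fun p => ⟨p.2.1 • ap (g p.1 : Grp Q) z,
      smul_ne_zero p.2.2.1 (fun e => hz (ap_inj _ (by rw [e, ap_zero]))),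
      by rw [q_smul, ap_q, p.2.2.2]⟩) fun p p' e => ?_
    have e' : p.2.1 • ap (g p.1 : Grp Q) z = p'.2.1 • ap (g p'.1 : Grp Q) z := congrArg Subtype.val e
    have h1 : ap ((g p.1 : Grp Q)⁻¹ * (g p'.1 : Grp Q)) z = (p'.2.1⁻¹ * p.2.1) • z := by
      refine ap_inj (g p.1 : Grp Q) ?_
      rw [ap_mul, ap_ap_inv, ap_smul, ← smul_smul, e', smul_smul, inv_mul_cancel₀ p'.2.2.1, one_smul]
    have h2 : p.1 = p'.1 := by
      rw [← hg p.1, ← hg p'.1, QuotientGroup.eq, Subgroup.mem_subgroupOf]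
      exact mem_lineStab ⟨_, h1⟩
    rw [h2] at e'
    exact Prod.ext h2 (Subtype.ext (smul_left_injective F
      (fun e => hz (ap_inj _ (by rw [e, ap_zero]))) e'))
  · obtain ⟨c, hc⟩ := Submodule.mem_span_singleton.1
      ((mem_stab.1 hg z).1 (Submodule.mem_span_singleton_self z))
    exact ⟨c, hc.symm⟩

theorem card_nonzero_zero :
    Nat.card {y : ι → F // y ≠ 0 ∧ Q y = 0} + 1 = lev Q ⊤ 0 := by
  classical
  rw [← Finite.card_option]
  refine Nat.card_congr
    { toFun := fun o => o.elim ⟨0, QuadraticMap.map_zero Q⟩ fun y => ⟨⟨y.1, trivial⟩, y.2.2⟩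
      invFun := fun x => if h : (x.1 : ι → F) = 0 then none else some ⟨_, h, x.2⟩
      left_inv := ?_
      right_inv := fun x => ?_ }
  · rintro (_ | y)
    · simp
    · simp [y.2.1]
  · by_cases h : (x.1 : ι → F) = 0
    · simp only [h, dite_true]
      exact Subtype.ext (Subtype.ext h.symm)
    · simp [h]

theorem card_scalars_le (c : F) (hc : c ≠ 0) : Nat.card {t : F // t ≠ 0 ∧ t * t * c = c} ≤ 2 := by
  classical
  cases nonempty_fintype F
  refine (Nat.card_le_card_of_injective (fun t : {t : F // t ≠ 0 ∧ t * t * c = c} =>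
    (⟨t.1, ?_⟩ : ({1, -1} : Finset F)))
    (fun a b e => Subtype.ext (congrArg (fun z : ({1, -1} : Finset F) => (z : F)) e))).trans ?_
  · rcases mul_self_eq_one_iff.1 (mul_right_cancel₀ hc (t.2.2.trans (one_mul c).symm)) with h | h <;> simp [h]
  · rw [Nat.card_eq_fintype_card, Fintype.card_coe]
    exact (Finset.card_insert_le _ _).trans (by rw [Finset.card_singleton])

/-- The numbers of vectors, for at least four elements. -/
theorem totals_four (hB : Nondeg Q) {k T : ℕ} (hk : Module.finrank F (ι → F) = k + 2) (hk5 : 5 ≤ k)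
    (hq : 4 ≤ q) (hpts : Nat.card {y : ι → F // y ≠ 0 ∧ Q y = 0} = T * (q - 1))
    (hT : T * (q - 1) ≤ q ^ (k + 1) + q ^ (k / 2 + 1)) : Totals Q T := by
  refine ⟨hpts.ge, fun c hc => (Nat.mul_le_mul_left _ (card_scalars_le c hc)).trans ?_⟩
  have h1 := (lev_bound hB (k + 2) ⊤ (nondegOn_top hB) (by rw [finrank_top, hk]) c).1
  have h2 : lev Q ⊤ c ≤ Nat.card {y : ι → F // y ≠ 0 ∧ Q y = c} :=
    Nat.card_le_card_of_injective (fun x => ⟨x.1.1, fun e => hc (by
      rw [← x.2, e, QuadraticMap.map_zero]), x.2⟩) fun a b e => Subtype.ext (Subtype.ext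
        (congrArg (fun z : {y : ι → F // y ≠ 0 ∧ Q y = c} => (z : ι → F)) e))
  refine le_trans (Nat.le_of_mul_le_mul_left ?_ (show 0 < q by omega)) h2
  have e1 : (k + 2) / 2 + 1 = k / 2 + 1 + 1 := by omega
  rw [e1, pow_succ _ (k + 1)] at h1
  have h3 : q ^ (k / 2 + 1) * 64 ≤ q ^ (k + 1) := by
    calc q ^ (k / 2 + 1) * 64 ≤ q ^ (k / 2 + 1) * q ^ 3 :=
          Nat.mul_le_mul_left _ (le_trans (by norm_num) (Nat.pow_le_pow_left hq 3))
      _ ≤ _ := by rw [← pow_add]; exact Nat.pow_le_pow_right (by omega) (by omega)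
  rw [pow_succ _ (k / 2 + 1)] at h1
  obtain ⟨r, hr⟩ : ∃ r, q = r + 1 := ⟨q - 1, by omega⟩
  rw [hr, Nat.add_sub_cancel] at hT
  rw [hr] at h1 h3 hq ⊢
  set X := (r + 1) ^ (k + 1)
  set Y := (r + 1) ^ (k / 2 + 1)
  refine Nat.le_of_mul_le_mul_left ?_ (show 0 < r by omega)
  have h4 : 3 * (r + 1) ≤ 4 * r := by omega
  have h5 : 64 * (T * r) ≤ 65 * X := by omega
  refine Nat.le_of_mul_le_mul_left ?_ (show 0 < 64 by norm_num)
  calc 64 * (r * ((r + 1) * (T * 2))) = 64 * (T * r) * (2 * (r + 1)) := by ring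
    _ ≤ 65 * X * (2 * (r + 1)) := Nat.mul_le_mul_right _ h5
    _ = (r + 1) * (130 * X) := by ring
    _ ≤ r * (63 * (X * (r + 1))) := by
      calc (r + 1) * (130 * X) ≤ (r + 1) * (r * 63 * X) :=
            Nat.mul_le_mul_left _ (Nat.mul_le_mul_right _ (by omega))
        _ = _ := by ring
    _ ≤ r * (64 * ((r + 1) * lev Q ⊤ c)) := Nat.mul_le_mul_left _ (by
        have : Y * (r + 1) * 64 ≤ X * (r + 1) := by
          calc Y * (r + 1) * 64 = Y * 64 * (r + 1) := by ring
            _ ≤ _ := Nat.mul_le_mul_right _ h3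
        omega)
    _ = _ := by ring

/-- The least index of a proper subgroup, for at least four elements. -/
theorem pomega_min (hB : Nondeg Q) {k T : ℕ} (hk : Module.finrank F (ι → F) = k + 2) (hk5 : 5 ≤ k)
    (hq : 4 ≤ q) (hpts : Nat.card {y : ι → F // y ≠ 0 ∧ Q y = 0} = T * (q - 1))
    (hT : T * (q - 1) ≤ q ^ (k + 1) + q ^ (k / 2 + 1))
    (h6 : k = 6 → T * (q - 1) ≤ (q ^ 4 - 1) * (q ^ 3 + 1)) :
    (∀ H : Subgroup (Cfsg.POmega F ⇑Q), H ≠ ⊤ → T ≤ H.index) ∧
      ∃ H : Subgroup (Cfsg.POmega F ⇑Q), H.index = T := by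
  classical
  cases nonempty_fintype F
  have hn : 5 ≤ Module.finrank F (ι → F) := by omega
  obtain ⟨h1, h2⟩ := num_four hq hk5 hT
  have hN : Nums Q k T :=
    ⟨h1, totals_four hB hk hk5 hq hpts hT, h2, fun e => num6_four F hq (h6 e)⟩
  refine ⟨pomega_lower hB hn fun M hM => index_bound hB hk hk5 hq hM hN, ?_⟩
  obtain ⟨z, hz, hzq⟩ : ∃ z : ι → F, z ≠ 0 ∧ Q z = 0 := by
    obtain ⟨z, -, h1, h2⟩ := exists_singular (Q := Q) (U := ⊤) (by rw [finrank_top]; omega)
    exact ⟨z, h1, h2⟩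
  obtain ⟨H, hH⟩ := pomega_exists hB hn (M := lineStab Q z) fun g hg => mem_lineStab ⟨-1, by
    show ((g : GL ι F) : Matrix ι ι F).mulVec z = _
    rw [hg, Matrix.neg_mulVec, Matrix.one_mulVec, neg_one_smul]⟩
  refine ⟨H, ?_⟩
  rw [hH]
  have e := lineStab_index hB hn hz
  rw [hzq, hpts] at e
  have hc : Nat.card {t : F // t ≠ 0 ∧ t * t * (0 : F) = 0} = q - 1 := by
    rw [Nat.card_congr (Equiv.subtypeEquivRight fun t : F =>
        show (t ≠ 0 ∧ t * t * (0 : F) = 0) ↔ t ≠ 0 by simp),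
      Nat.card_eq_fintype_card, Fintype.card_subtype_compl, Fintype.card_subtype_eq,
      Nat.card_eq_fintype_card]
  rw [hc] at e
  exact Nat.eq_of_mul_eq_mul_right (by omega) e

end CfsgLib.MinIndexOrth
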