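import Cfsg.Agent.Lib.MinIndexOrth.SixFull
import Cfsg.Agent.Lib.MinIndexOrth.Exact

/-!
Over a prime field a complement of the radical at a point is conjugate to the stabiliser of a pair.
-/

set_option autoImplicit false
set_option linter.unusedSectionVars false

namespace CfsgLib.MinIndexOrth

open CfsgLib.Orth

variable {F : Type*} [Field F] [Finite F] {ι : Type} [Fintype ι] [DecidableEq ι]
variable {Q : QuadraticForm F (ι → F)}

local notation "B" => QuadraticMap.polar (DFunLike.coe Q)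
local notation "q" => Nat.card F

/-- The element times a translation of the parameter lies in the subgroup. -/
def Tr (P : HP Q) (M : Subgroup (Grp Q)) (g : Grp Q) (y : ι → F) : Prop :=
  ∃ s, IsSiegel P.v y s ∧ s * g ∈ M

variable {P : HP Q} {M : Subgroup (Grp Q)} {hB : Nondeg Q}

theorem Compl.tr_unique (hC : Compl P M hB) {g : Grp Q} {y y' : ι → F} (hy : y ∈ P.W) (hy' : y' ∈ P.W)
    (h : Tr P M g y) (h' : Tr P M g y') : y = y' := by
  obtain ⟨s, hs, hsM⟩ := h
  obtain ⟨s', hs', hsM'⟩ := h'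
  have h1 := siegel_sub hB P.hv hs hs'
  have hm : s * s'⁻¹ ∈ M := by
    have := mul_mem hsM (inv_mem hsM')
    rwa [show s * g * (s' * g)⁻¹ = s * s'⁻¹ by group] at this
  exact sub_eq_zero.1 (hC.triv _ ⟨P.W.sub_mem hy hy', h1.2.1, fun k hk => by rwa [siegel_unique hk h1]⟩)

theorem tr_mul {g g' : Grp Q} {y y' : ι → F} (hgv : ap g P.v = P.v) (h : Tr P M g y)
    (h' : Tr P M g' y') : Tr P M (g * g') (y + ap g y') := by
  obtain ⟨s, hs, hsM⟩ := h
  obtain ⟨s', hs', hsM'⟩ := h'
  have h1 := siegel_conj hs' g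
  rw [hgv] at h1
  refine ⟨_, siegel_mul hs h1, ?_⟩
  have := mul_mem hsM hsM'
  rwa [show s * (g * s' * g⁻¹) * (g * g') = s * g * (s' * g') by group]

theorem Compl.exists_tr (hC : Compl P M hB) {g : Grp Q} (hg : g ∈ El Q) {a : F}
    (hgv : ap g P.v = a • P.v) : ∃ y ∈ P.W, Tr P M g y := by
  obtain ⟨y₀, s, hs, hsM⟩ := hC.full g hg ⟨a, hgv⟩
  refine ⟨P.pW y₀, P.pW_mem _, s, ?_, hsM⟩
  have := siegel_add_self hs (-(B P.f y₀))
  rwa [show y₀ + -(B P.f y₀) • P.v = P.pW y₀ by rw [HP.pW, hs.2.1]; module] at this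

theorem siegel_ap {c x : ι → F} {g : Grp Q} (hg : IsSiegel c x g) (z : ι → F) :
    ap g z = z + B z c • x - B z x • c - (Q x * B z c) • c := hg.2.2 z

/-- Over a prime field additive maps are linear. -/
theorem cast_surjective (hp : Nat.Prime q) (a : F) : ∃ n : ℕ, (n : F) = a := by
  cases nonempty_fintype F
  obtain ⟨p, _, e, hpp, hpe⟩ := FiniteField.card' F
  rw [Nat.card_eq_fintype_card, hpe] at hp
  have he : (e : ℕ) = 1 := hp.eq_one_of_pow
  haveI : Fact p.Prime := ⟨hpp⟩
  have hinj : Function.Injective (fun n : Fin p => ((n : ℕ) : F)) := fun n n' h =>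
    Fin.ext (((CharP.natCast_eq_natCast F p).1 h).eq_of_lt_of_lt n.2 n'.2)
  obtain ⟨n, hn⟩ := (hinj.bijective_of_nat_card_le (by
    rw [Nat.card_eq_fintype_card, Nat.card_eq_fintype_card, hpe, he, pow_one, Fintype.card_fin])).2 a
  exact ⟨n, hn⟩

theorem add_map_smul (hp : Nat.Prime q) {V V' : Type*} [AddCommGroup V] [Module F V] [AddCommGroup V']
    [Module F V'] (φ : V →+ V') (a : F) (x : V) : φ (a • x) = a • φ x := by
  obtain ⟨n, rfl⟩ := cast_surjective hp a
  rw [Nat.cast_smul_eq_nsmul, map_nsmul, Nat.cast_smul_eq_nsmul]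

theorem inf_nondeg (hB : Nondeg Q) {P₁ : HP Q} (hc : P₁.v ∈ P.W) (hf : P₁.f ∈ P.W) :
    NondegOn Q (P.W ⊓ P₁.W) := by
  intro z hz h
  refine P.nondeg hB z hz.1 fun u hu => ?_
  have h1 := h (P₁.pW u) ⟨P.W.sub_mem (P.W.sub_mem hu (P.W.smul_mem _ hc)) (P.W.smul_mem _ hf),
    P₁.pW_mem u⟩
  rw [HP.pW, b_sub_right, b_sub_right, b_smul_right, b_smul_right, b_comm z P₁.v,
    (P₁.mem_W.1 hz.2).1, b_comm z P₁.f, (P₁.mem_W.1 hz.2).2] at h1
  linear_combination h1

/-- A vector orthogonal to two given ones and outside their span. -/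
theorem exists_third {k : ℕ} {U : Submodule F (ι → F)} (hB : Nondeg Q)
    (hU : Module.finrank F U + 2 = k) {c x : ι → F} (hc : c ∈ U) (hx : x ∈ U) (hcq : Q c = 0)
    (hc0 : c ≠ 0) (hcx : B c x = 0) (hk5 : 5 ≤ k)
    (hcase : x ∈ Submodule.span F {c} ∨ 7 ≤ k ∨ (6 ≤ k ∧ (2 : F) ≠ 0 ∧ ¬ HasHalf Q U 2)) :
    ∃ z ∈ U, B c z = 0 ∧ B x z = 0 ∧ z ∉ Submodule.span F ({c, x} : Set (ι → F)) := by
  by_contra hcon
  push Not at hcon
  set S := Submodule.span F ({c, x} : Set (ι → F)) with hSdef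
  have hS : Module.finrank F S ≤ 2 := by
    rw [hSdef, ← Matrix.range_cons_cons_empty c x ![]]
    exact finrank_span_le _
  have hle : U ⊓ orth Q S ≤ S := fun z hz =>
    hcon z hz.1 (mem_orth_span.1 hz.2 c (Set.mem_insert _ _))
      (mem_orth_span.1 hz.2 x (Set.mem_insert_of_mem _ rfl))
  have h1 := Submodule.finrank_mono hle
  have h2 := Submodule.finrank_sup_add_finrank_inf_eq U (orth Q S)
  have h3 := Submodule.finrank_le (U ⊔ orth Q S)
  have h4 := finrank_orth hB S
  by_cases hxc : x ∈ Submodule.span F {c}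
  · have h5 : Module.finrank F S ≤ 1 := by
      refine le_trans (Submodule.finrank_mono (Submodule.span_le.2 ?_))
        (finrank_span_singleton hc0).le
      rintro w (rfl | rfl)
      exacts [Submodule.mem_span_singleton_self _, hxc]
    omega
  rcases hcase with h1' | h7 | ⟨h6, h2', hno⟩
  · exact hxc h1'
  · omega
  have heq : U ⊓ orth Q S = S := Submodule.eq_of_le_of_finrank_le hle (by omega)
  have hxS : x ∈ orth Q S := by
    have : x ∈ U ⊓ orth Q S := heq.symm ▸ Submodule.subset_span (Set.mem_insert_of_mem _ rfl)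
    exact this.2
  have hxq : Q x = 0 := by
    have := mem_orth_span.1 hxS x (Set.mem_insert_of_mem _ rfl)
    rw [b_self] at this
    exact (mul_eq_zero.1 this).resolve_left h2'
  refine hno ⟨S, Submodule.span_le.2 ?_, fun w hw => ?_, ?_⟩
  · rintro w (rfl | rfl)
    exacts [hc, hx]
  · obtain ⟨a, b, rfl⟩ := Submodule.mem_span_pair.1 hw
    rw [q_add, q_smul, q_smul, hcq, hxq, b_smul_left, b_smul_right, hcx]; ring
  · rw [hSdef, ← Matrix.range_cons_cons_empty c x ![], finrank_span_eq_card (pair_indep hc0 hxc),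
      Fintype.card_fin]

variable {k : ℕ}

/-- Two relations of a self-adjoint map of a three-space over three elements. -/
theorem three_eigen {U : Submodule F (ι → F)} (hU : NondegOn Q U) (hd : Module.finrank F U = 3)
    (h3 : q = 3) (hB : Nondeg Q) (φ : U →ₗ[F] U)
    (hsym : ∀ x z : U, B (φ x : ι → F) (z : ι → F) = B (x : ι → F) (φ z : ι → F))
    (hiso : ∀ c : U, Q (c : ι → F) = 0 → B (φ c : ι → F) (c : ι → F) = 0) :
    (∃ γ : F, ∀ x : U, (φ x : ι → F) = γ • (x : ι → F)) ∨
      ∀ t : F, ∃ x : U, (x : ι → F) ≠ 0 ∧ (φ x : ι → F) = t • (x : ι → F) := by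
  classical
  cases nonempty_fintype F
  have hp : Nat.Prime q := by rw [h3]; norm_num
  have h30 : (3 : F) = 0 := by
    have h := FiniteField.cast_card_eq_zero F
    rw [← Nat.card_eq_fintype_card, h3] at h
    exact_mod_cast h
  have hall : ∀ a : F, a = 0 ∨ a = 1 ∨ a = -1 := fun a => by
    obtain ⟨n, rfl⟩ := cast_surjective hp a
    have h : (n : F) = ((n % 3 : ℕ) : F) := by
      conv_lhs => rw [← Nat.mod_add_div n 3]
      push_cast
      linear_combination ((n / 3 : ℕ) : F) * h30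
    rw [h]
    rcases (show n % 3 = 0 ∨ n % 3 = 1 ∨ n % 3 = 2 by omega) with e | e | e <;> rw [e]
    · exact Or.inl Nat.cast_zero
    · exact Or.inr (Or.inl Nat.cast_one)
    · exact Or.inr (Or.inr (by push_cast; linear_combination h30))
  obtain ⟨s, hsU, hs0, hsq⟩ := exists_singular (Q := Q) (U := U) (by omega)
  obtain ⟨t, ht, htq, hst⟩ := exists_partner_in hB hU (P := ⊥) bot_le
    ⟨hsU, fun p hp => by rw [(Submodule.mem_bot F).1 hp]; exact b_zero_left _⟩
    (fun h => hs0 ((Submodule.mem_bot F).1 h)) hsq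
  have hts : B t s = 1 := by rw [b_comm, hst]
  obtain ⟨u, hu, hu0, hus, hut⟩ : ∃ u ∈ U, u ≠ 0 ∧ B s u = 0 ∧ B t u = 0 := by
    by_contra hcon
    push Not at hcon
    have hle : U ≤ Submodule.span F ({s, t} : Set (ι → F)) := fun z hz => by
      obtain ⟨w, hw⟩ : ∃ w, w = z - B t z • s - B s z • t := ⟨_, rfl⟩
      have hwU : w ∈ U := hw ▸ U.sub_mem (U.sub_mem hz (U.smul_mem _ hsU)) (U.smul_mem _ ht.1)
      have h1 : B s w = 0 := by
        rw [hw, b_sub_right, b_sub_right, b_smul_right, b_smul_right, b_self_zero hsq, hst]; ring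
      have h2 : B t w = 0 := by
        rw [hw, b_sub_right, b_sub_right, b_smul_right, b_smul_right, b_self_zero htq, hts]; ring
      by_cases hw0 : w = 0
      · refine Submodule.mem_span_pair.2 ⟨B t z, B s z, ?_⟩
        rw [hw0] at hw
        linear_combination (norm := module) hw
      · exact absurd h2 (hcon w hwU hw0 h1)
    have h1 := Submodule.finrank_mono hle
    have h2 : Module.finrank F (Submodule.span F ({s, t} : Set (ι → F))) ≤ 2 := by
      rw [← Matrix.range_cons_cons_empty s t ![]]; exact finrank_span_le _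
    omega
  have hsu : B u s = 0 := by rw [b_comm, hus]
  have htu : B u t = 0 := by rw [b_comm, hut]
  have hdec : ∀ z ∈ U, z = B t z • s + B s z • t + (B u z / B u u) • u := by
    intro z hz
    have huu : B u u ≠ 0 := fun h => hu0 (hU u hu fun y hy => by
      have hle : Submodule.span F (Set.range ![s, t, u]) = U := by
        refine Submodule.eq_of_le_of_finrank_eq (Submodule.span_le.2 ?_) ?_
        · rintro _ ⟨i, rfl⟩; fin_cases i; exacts [hsU, ht.1, hu]
        · rw [finrank_span_eq_card, Fintype.card_fin, hd]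
          refine Fintype.linearIndependent_iff.2 fun g hg => ?_
          simp only [Fin.sum_univ_three, Matrix.cons_val_zero, Matrix.cons_val_one, Matrix.cons_val] at hg
          have e1 := congrArg (B t) hg
          have e2 := congrArg (B s) hg
          simp only [b_add_right, b_smul_right, hts, hst, hut, hus, b_self_zero hsq, b_self_zero htq,
            b_zero_right, mul_zero, mul_one, add_zero, zero_add] at e1 e2
          rw [e1, e2, zero_smul, zero_smul, zero_add, zero_add, smul_eq_zero] at hg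
          intro i; fin_cases i
          exacts [e1, e2, hg.resolve_right hu0]
      rw [← hle] at hy
      induction hy using Submodule.span_induction with
      | mem y hy => obtain ⟨i, rfl⟩ := hy; fin_cases i; exacts [hsu, htu, h]
      | zero => exact b_zero_right _
      | add a b _ _ ha hb => rw [b_add_right, ha, hb, add_zero]
      | smul a y _ hy => rw [b_smul_right, hy, mul_zero])
    refine sub_eq_zero.1 (hU _ (U.sub_mem hz (U.add_mem (U.add_mem (U.smul_mem _ hsU)
      (U.smul_mem _ ht.1)) (U.smul_mem _ hu))) fun y hy => ?_)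
    obtain ⟨w, hw, hw1, hw2⟩ : ∃ w ∈ U, B s w = 0 ∧ B t w = 0 ∧ y = w + B t y • s + B s y • t := by
      refine ⟨y - B t y • s - B s y • t, U.sub_mem (U.sub_mem hy (U.smul_mem _ hsU)) (U.smul_mem _ ht.1),
        ?_, ?_, by abel⟩
      · rw [b_sub_right, b_sub_right, b_smul_right, b_smul_right, b_self_zero hsq, hst]; ring
      · rw [b_sub_right, b_sub_right, b_smul_right, b_smul_right, b_self_zero htq, hts]; ring
    obtain ⟨hw2, hy'⟩ := hw2
    have hwu : ∃ a : F, w = a • u := by
      have hle : Submodule.span F ({s, t, u} : Set (ι → F)) = U := by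
        refine Submodule.eq_of_le_of_finrank_eq (Submodule.span_le.2 ?_) ?_
        · rintro _ (rfl | rfl | rfl); exacts [hsU, ht.1, hu]
        · have hr : Set.range ![s, t, u] = {s, t, u} := by
            rw [Matrix.range_cons, Matrix.range_cons, Matrix.range_cons, Matrix.range_empty,
              Set.union_empty, Set.singleton_union, Set.singleton_union]
          rw [← hr, finrank_span_eq_card, Fintype.card_fin, hd]
          refine Fintype.linearIndependent_iff.2 fun g hg => ?_
          simp only [Fin.sum_univ_three, Matrix.cons_val_zero, Matrix.cons_val_one, Matrix.cons_val] at hg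
          have e1 := congrArg (B t) hg
          have e2 := congrArg (B s) hg
          simp only [b_add_right, b_smul_right, hts, hst, hut, hus, b_self_zero hsq, b_self_zero htq,
            b_zero_right, mul_zero, mul_one, add_zero, zero_add] at e1 e2
          rw [e1, e2, zero_smul, zero_smul, zero_add, zero_add, smul_eq_zero] at hg
          intro i; fin_cases i
          exacts [e1, e2, hg.resolve_right hu0]
      rw [← hle] at hw
      obtain ⟨a, z', hz', rfl⟩ := Submodule.mem_span_insert.1 hw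
      obtain ⟨b, c, rfl⟩ := Submodule.mem_span_pair.1 hz'
      simp only [b_add_right, b_smul_right, hts, hst, hut, hus, b_self_zero hsq, b_self_zero htq,
        mul_zero, mul_one, add_zero, zero_add] at hw1 hw2
      exact ⟨c, by rw [hw1, hw2, zero_smul, zero_smul, zero_add, zero_add]⟩
    obtain ⟨a, rfl⟩ := hwu
    rw [hy']
    simp only [b_sub_left, b_add_left, b_add_right, b_smul_left, b_smul_right, hts, hst, hut, hus, hsu,
      htu, b_self_zero hsq, b_self_zero htq, b_comm z u, b_comm z s, b_comm z t]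
    field_simp
    ring
  obtain ⟨α, hα⟩ : ∃ α, α = Q u := ⟨_, rfl⟩
  have huu : B u u = 2 * α := by rw [b_self, hα]
  have hα0 : α ≠ 0 := fun e => hu0 (by
    have h := hdec u hu
    rw [hut, hus, huu, e, mul_zero, div_zero, zero_smul, zero_smul, zero_smul, add_zero, add_zero] at h
    exact h)
  have hα1 : α * α = 1 := by
    rcases hall α with e | e | e
    · exact absurd e hα0
    all_goals rw [e]; ring
  let S : U := ⟨s, hsU⟩
  let T : U := ⟨t, ht.1⟩
  let Z : U := ⟨u, hu⟩
  obtain ⟨γ, hγ⟩ : ∃ γ, γ = B (φ S : ι → F) t := ⟨_, rfl⟩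
  obtain ⟨ρ, hρ⟩ : ∃ ρ, ρ = B (φ T : ι → F) u := ⟨_, rfl⟩
  have hss : B (φ S : ι → F) s = 0 := hiso S hsq
  have htt : B (φ T : ι → F) t = 0 := hiso T htq
  have hts' : B (φ T : ι → F) s = γ := (hsym T S).trans ((b_comm _ _).trans hγ.symm)
  have hpair : ∀ a : F, a * a = 1 → B (φ Z : ι → F) u + α * γ +
      2 * a * (B (φ S : ι → F) u - α * ρ) = 0 := fun a ha => by
    have hq0 : Q ((S - α • T + a • Z : U) : ι → F) = 0 := by
      show Q (s - α • t + a • u) = 0
      rw [q_add, q_sub, q_smul, q_smul, hsq, htq, b_sub_left, b_smul_left, b_smul_right, b_smul_right,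
        b_smul_right, hst, hus, hut, ← hα]
      linear_combination α * ha
    have h := hiso _ hq0
    rw [map_add, map_sub, map_smul, map_smul] at h
    simp only [Submodule.coe_add, Submodule.coe_sub, Submodule.coe_smul] at h
    simp only [b_add_left, b_add_right, b_sub_left, b_sub_right, b_smul_left, b_smul_right] at h
    rw [show ((S : U) : ι → F) = s from rfl, show ((T : U) : ι → F) = t from rfl,
      show ((Z : U) : ι → F) = u from rfl, hss, htt, hts', ← hγ, ← hρ,
      show B (φ Z : ι → F) s = B (φ S : ι → F) u from (hsym Z S).trans (b_comm _ _),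
      show B (φ Z : ι → F) t = ρ from (hsym Z T).trans ((b_comm _ _).trans hρ.symm)] at h
    linear_combination h - B (φ Z : ι → F) u * ha + α * γ * h30
  have e1 := hpair 1 (one_mul 1)
  have e2 := hpair (-1) (by ring)
  have hsu' : B (φ S : ι → F) u = α * ρ := by
    linear_combination e1 - e2 - (B (φ S : ι → F) u - α * ρ) * h30
  have huu' : B (φ Z : ι → F) u = 2 * α * γ := by
    linear_combination e1 - 2 * hsu' - α * γ * h30
  have h2α : (2 : F) * α ≠ 0 := mul_ne_zero (fun h2 => one_ne_zero (α := F)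
    (by linear_combination h30 - h2)) hα0
  have hS : (φ S : ι → F) = γ • s - ρ • u := by
    conv_lhs => rw [hdec _ (φ S).2]
    rw [b_comm t, ← hγ, b_comm s, hss, b_comm u, hsu', huu, zero_smul, add_zero,
      show α * ρ / (2 * α) = -ρ by rw [div_eq_iff h2α]; linear_combination α * ρ * h30]
    module
  have hT : (φ T : ι → F) = γ • t - (α * ρ) • u := by
    conv_lhs => rw [hdec _ (φ T).2]
    rw [b_comm t, htt, b_comm s, hts', b_comm u, ← hρ, huu, zero_smul, zero_add,
      show ρ / (2 * α) = -(α * ρ) by rw [div_eq_iff h2α]; linear_combination ρ * h30 + 2 * ρ * hα1 - 0 * hα1]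
    module
  have hZ : (φ Z : ι → F) = γ • u + ρ • s + (α * ρ) • t := by
    conv_lhs => rw [hdec _ (φ Z).2]
    rw [b_comm t, b_comm s, show B (φ Z : ι → F) t = ρ from (hsym Z T).trans ((b_comm _ _).trans hρ.symm),
      show B (φ Z : ι → F) s = α * ρ from ((hsym Z S).trans (b_comm _ _)).trans hsu', b_comm u, huu', huu,
      show 2 * α * γ / (2 * α) = γ from mul_div_cancel_left₀ γ h2α]
    module
  by_cases hρ0 : ρ = 0
  · refine Or.inl ⟨γ, fun x => ?_⟩
    have e : x = B t (x : ι → F) • S + B s (x : ι → F) • T + (B u (x : ι → F) / B u u) • Z :=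
      Subtype.ext (hdec _ x.2)
    rw [e, map_add, map_add, map_smul, map_smul, map_smul]
    simp only [Submodule.coe_add, Submodule.coe_smul, hS, hT, hZ, hρ0, S, T, Z]
    module
  refine Or.inr fun t0 => ?_
  obtain ⟨τ, hτ⟩ : ∃ τ, τ = (t0 - γ) / ρ := ⟨_, rfl⟩
  have ht0 : t0 = γ + τ * ρ := by rw [hτ, div_mul_cancel₀ _ hρ0]; ring
  rcases hall τ with e | e | e
  · refine ⟨S - α • T, fun h0 => ?_, ?_⟩
    · have h := congrArg (B t) (show s - α • t = 0 from h0)
      rw [b_sub_right, b_smul_right, hts, b_self_zero htq, b_zero_right, mul_zero, sub_zero] at h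
      exact one_ne_zero h
    · rw [map_sub, map_smul, Submodule.coe_sub, Submodule.coe_smul, hS, hT, ht0, e]
      show _ = (γ + 0 * ρ) • (s - α • t)
      match_scalars
      · ring
      · linear_combination ρ * hα1
      · ring
  all_goals
    refine ⟨Z + τ • S + (τ * α) • T, fun h0 => ?_, ?_⟩
    · have h := congrArg (B u) (show u + τ • s + (τ * α) • t = 0 from h0)
      rw [b_add_right, b_add_right, b_smul_right, b_smul_right, huu, hsu, htu, b_zero_right,
        mul_zero, mul_zero, add_zero, add_zero] at h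
      exact h2α h
    · rw [map_add, map_add, map_smul, map_smul, Submodule.coe_add, Submodule.coe_add,
        Submodule.coe_smul, Submodule.coe_smul, hS, hT, hZ, ht0, e]
      show _ = (γ + _ * ρ) • (u + _ • s + (_ * α) • t)
      match_scalars
      all_goals first
        | ring1
        | linear_combination -ρ * hα1 - ρ * h30
        | linear_combination ρ * hα1 + ρ * h30
        | linear_combination -ρ * hα1 + ρ * h30
        | linear_combination ρ * hα1 - ρ * h30
        | linear_combination -ρ * hα1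
        | linear_combination ρ * hα1

/-- A self-adjoint map of a split four-space over two elements, killing orthogonal pairs of a singular
and a non-singular vector: scalar, or with both eigenvalues. -/
theorem plane_eigen {U : Submodule F (ι → F)} (hB : Nondeg Q) (hU : NondegOn Q U)
    (hd : Module.finrank F U = 4) (h2 : q = 2) (hp : Nat.Prime q) (φ : U →+ U)
    (hsym : ∀ a b : U, B (φ a : ι → F) (b : ι → F) = B (a : ι → F) (φ b : ι → F))
    (halt : ∀ a : U, B (φ a : ι → F) (a : ι → F) = 0)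
    (hper : ∀ a b : U, Q (a : ι → F) = 0 → (a : ι → F) ≠ 0 → Q (b : ι → F) ≠ 0 →
      B (a : ι → F) (b : ι → F) = 0 → B (φ a : ι → F) (b : ι → F) = 0)
    {c x : U} (hcq : Q (c : ι → F) = 0) (hxq : Q (x : ι → F) = 0) (hc0 : (c : ι → F) ≠ 0)
    (hcx : B (c : ι → F) (x : ι → F) = 0) (hxc : (x : ι → F) ∉ Submodule.span F {(c : ι → F)}) :
    (∃ γ : F, ∀ u : U, (φ u : ι → F) = γ • (u : ι → F)) ∨
      ∀ t : F, ∃ u : U, (u : ι → F) ≠ 0 ∧ (φ u : ι → F) = t • (u : ι → F) := by
  classical
  cases nonempty_fintype F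
  have h20 : (2 : F) = 0 := by
    have h := FiniteField.cast_card_eq_zero F
    rw [← Nat.card_eq_fintype_card, h2] at h
    exact_mod_cast h
  have hall : ∀ a : F, a = 0 ∨ a = 1 := fun a => by
    obtain ⟨n, rfl⟩ := cast_surjective hp a
    have h : (n : F) = ((n % 2 : ℕ) : F) := by
      conv_lhs => rw [← Nat.mod_add_div n 2]
      push_cast
      linear_combination ((n / 2 : ℕ) : F) * h20
    rw [h]
    rcases (show n % 2 = 0 ∨ n % 2 = 1 by omega) with e | e <;> rw [e]
    · exact Or.inl Nat.cast_zero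
    · exact Or.inr Nat.cast_one
  obtain ⟨d₀, hd₀, hdq₀, hcd₀⟩ := exists_partner_in hB hU (P := Submodule.span F {(x : ι → F)})
    ((Submodule.span_singleton_le_iff_mem _ _).2 x.2)
    ⟨c.2, mem_orth_span.2 fun z hz => by rw [Set.mem_singleton_iff.1 hz, b_comm]; exact hcx⟩
    (fun hh => by
      obtain ⟨t, ht⟩ := Submodule.mem_span_singleton.1 hh
      have ht0 : t ≠ 0 := fun e => hc0 (by rw [← ht, e, zero_smul])
      exact hxc (Submodule.mem_span_singleton.2 ⟨t⁻¹, by rw [← ht, smul_smul, inv_mul_cancel₀ ht0, one_smul]⟩))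
    hcq
  obtain ⟨d, rfl⟩ : ∃ d : U, (d : ι → F) = d₀ := ⟨⟨d₀, hd₀.1⟩, rfl⟩
  have hxd : B (x : ι → F) (d : ι → F) = 0 := mem_orth_span.1 hd₀.2 _ rfl
  obtain ⟨w₀, hw₀, hwq₀, hxw₀⟩ := exists_partner_in hB hU
    (P := Submodule.span F ({(c : ι → F), (d : ι → F)} : Set (ι → F)))
    (Submodule.span_le.2 (by rintro z (rfl | rfl); exacts [c.2, d.2]))
    ⟨x.2, mem_orth_span.2 fun z hz => by
      rcases hz with rfl | rfl
      · exact hcx
      · rw [b_comm]; exact hxd⟩
    (fun hh => by
      obtain ⟨a, b, e⟩ := Submodule.mem_span_pair.1 hh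
      have h := congrArg (B (c : ι → F)) e
      rw [b_add_right, b_smul_right, b_smul_right, b_self_zero hcq, hcd₀, hcx] at h
      have hb : b = 0 := by linear_combination h
      rw [hb, zero_smul, add_zero] at e
      exact hxc (Submodule.mem_span_singleton.2 ⟨a, e⟩))
    hxq
  obtain ⟨w, rfl⟩ : ∃ w : U, (w : ι → F) = w₀ := ⟨⟨w₀, hw₀.1⟩, rfl⟩
  have hcw : B (c : ι → F) (w : ι → F) = 0 := mem_orth_span.1 hw₀.2 _ (Set.mem_insert _ _)
  have hdw : B (d : ι → F) (w : ι → F) = 0 :=
    mem_orth_span.1 hw₀.2 _ (Set.mem_insert_of_mem _ rfl)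
  have hdc : B (d : ι → F) (c : ι → F) = 1 := by rw [b_comm]; exact hcd₀
  have hwx : B (w : ι → F) (x : ι → F) = 1 := by rw [b_comm]; exact hxw₀
  have hxc' : B (x : ι → F) (c : ι → F) = 0 := by rw [b_comm]; exact hcx
  have hdx : B (d : ι → F) (x : ι → F) = 0 := by rw [b_comm]; exact hxd
  have hwc : B (w : ι → F) (c : ι → F) = 0 := by rw [b_comm]; exact hcw
  have hwd : B (w : ι → F) (d : ι → F) = 0 := by rw [b_comm]; exact hdw
  let e : Fin 4 → ι → F := ![(c : ι → F), (d : ι → F), (x : ι → F), (w : ι → F)]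
  have hspan : U = Submodule.span F (Set.range e) := by
    refine (Submodule.eq_of_le_of_finrank_eq (Submodule.span_le.2 ?_) ?_).symm
    · rintro _ ⟨i, rfl⟩
      fin_cases i
      exacts [c.2, d.2, x.2, w.2]
    · rw [finrank_span_eq_card, Fintype.card_fin, hd]
      refine Fintype.linearIndependent_iff.2 fun g hg => ?_
      simp only [e, Fin.sum_univ_four, Matrix.cons_val_zero, Matrix.cons_val_one, Matrix.cons_val] at hg
      have e0 := congrArg (B (d : ι → F)) hg
      have e1 := congrArg (B (c : ι → F)) hg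
      have e2 := congrArg (B (w : ι → F)) hg
      have e3 := congrArg (B (x : ι → F)) hg
      simp only [b_add_right, b_smul_right, b_self_zero hcq, b_self_zero hdq₀, b_self_zero hxq,
        b_self_zero hwq₀, hcd₀, hdc, hxw₀, hwx, hcx, hxc', hcw, hwc, hxd, hdx, hdw, hwd, b_zero_right,
        mul_zero, mul_one, add_zero, zero_add] at e0 e1 e2 e3
      intro i
      fin_cases i
      exacts [e0, e1, e2, e3]
  have hext : ∀ a ∈ U, (∀ i, B a (e i) = 0) → a = 0 := fun a ha h => hU a ha fun z hz => by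
    rw [hspan] at hz
    clear ha
    induction hz using Submodule.span_induction with
    | mem z hz => obtain ⟨i, rfl⟩ := hz; exact h i
    | zero => exact b_zero_right _
    | add u v _ _ hu hv => rw [b_add_right, hu, hv, add_zero]
    | smul s u _ hu => rw [b_smul_right, hu, mul_zero]
  have hne : ∀ (a : U) {b : ι → F}, B (a : ι → F) b ≠ 0 → (a : ι → F) ≠ 0 := fun a b h e0 =>
    h (by rw [e0, b_zero_left])
  have hQs : ∀ a b : ι → F, Q (a + b) = Q a + Q b + B a b := q_add
  have hd0 := hne d (b := (c : ι → F)) (by rw [hdc]; exact one_ne_zero)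
  have hx0 := hne x (b := (w : ι → F)) (by rw [hxw₀]; exact one_ne_zero)
  have hw0 := hne w (b := (x : ι → F)) (by rw [hwx]; exact one_ne_zero)
  have hsw : ∀ a b : U, B (φ a : ι → F) (b : ι → F) = B (φ b : ι → F) (a : ι → F) := fun a b => by
    rw [hsym, b_comm]
  obtain ⟨α, hα⟩ : ∃ α, α = B (φ c : ι → F) (d : ι → F) := ⟨_, rfl⟩
  obtain ⟨β, hβ⟩ : ∃ β, β = B (φ c : ι → F) (x : ι → F) := ⟨_, rfl⟩
  have scw : B (φ c : ι → F) (w : ι → F) = β := by
    have h := hper c (x + w) hcq hc0
      (by rw [Submodule.coe_add, hQs, hxq, hwq₀, hxw₀]; simp)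
      (by rw [Submodule.coe_add, b_add_right, hcx, hcw, add_zero])
    rw [Submodule.coe_add, b_add_right, ← hβ] at h
    linear_combination h - β * h20
  have sdx : B (φ d : ι → F) (x : ι → F) = β := by
    have h := hper x (c + d) hxq hx0
      (by rw [Submodule.coe_add, hQs, hcq, hdq₀, hcd₀]; simp)
      (by rw [Submodule.coe_add, b_add_right, hxc', hxd, add_zero])
    rw [Submodule.coe_add, b_add_right, hsw x c, hsw x d, ← hβ] at h
    linear_combination h - β * h20
  have sdw : B (φ d : ι → F) (w : ι → F) = β := by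
    have h := hper w (c + d) hwq₀ hw0
      (by rw [Submodule.coe_add, hQs, hcq, hdq₀, hcd₀]; simp)
      (by rw [Submodule.coe_add, b_add_right, hwc, hwd, add_zero])
    rw [Submodule.coe_add, b_add_right, hsw w c, hsw w d, scw] at h
    linear_combination h - β * h20
  have sxw : B (φ x : ι → F) (w : ι → F) = α + β := by
    have hcx0 := hne (c + x) (b := (d : ι → F))
      (by rw [Submodule.coe_add, b_add_left, hcd₀, hxd, add_zero]; exact one_ne_zero)
    have h := hper (c + x) (c + d + w) (by rw [Submodule.coe_add, hQs, hcq, hxq, hcx]; simp) hcx0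
      (by
        rw [Submodule.coe_add, Submodule.coe_add, hQs, hQs, hcq, hdq₀, hwq₀, hcd₀, b_add_left, hcw, hdw]
        simp)
      (by
        simp only [Submodule.coe_add, b_add_left, b_add_right, b_self_zero hcq, hcd₀, hcw, hxc', hxd, hxw₀]
        linear_combination h20)
    rw [map_add] at h
    simp only [Submodule.coe_add, b_add_left, b_add_right] at h
    rw [halt c, ← hα, scw, hsw x c, ← hβ, hsw x d, sdx] at h
    linear_combination h - (α + 2 * β) * h20
  have sdc : B (φ d : ι → F) (c : ι → F) = α := by rw [hsw, hα]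
  have sxc : B (φ x : ι → F) (c : ι → F) = β := by rw [hsw, hβ]
  have sxd : B (φ x : ι → F) (d : ι → F) = β := by rw [hsw, sdx]
  have swc : B (φ w : ι → F) (c : ι → F) = β := by rw [hsw, scw]
  have swd : B (φ w : ι → F) (d : ι → F) = β := by rw [hsw, sdw]
  have swx : B (φ w : ι → F) (x : ι → F) = α + β := by rw [hsw, sxw]
  have heq : ∀ (a : U) (γ : F), (∀ i, B (φ a : ι → F) (e i) = γ * B (a : ι → F) (e i)) →
      (φ a : ι → F) = γ • (a : ι → F) := fun a γ h =>
    sub_eq_zero.1 (hext _ (U.sub_mem (φ a).2 (U.smul_mem _ a.2)) fun i => by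
      rw [b_sub_left, b_smul_left, h i, sub_self])
  rcases hall β with rfl | rfl
  · refine Or.inl ⟨α, fun u => ?_⟩
    obtain ⟨u, hu⟩ := u
    have hu' := hspan ▸ hu
    clear scw sdx sdw
    suffices ∀ z, z ∈ Submodule.span F (Set.range e) → ∀ hz : z ∈ U,
        (φ ⟨z, hz⟩ : ι → F) = α • z from this u hu' hu
    intro z hz'
    induction hz' using Submodule.span_induction with
    | mem z hz' =>
        intro hz
        obtain ⟨i, rfl⟩ := hz'
        fin_cases i
        · refine heq c α fun j => ?_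
          fin_cases j <;> simp [e, ← hα, ← hβ, halt, b_self_zero hcq, hcd₀, hcx, hcw, sxc, swc,
            hsw c w]
        · refine heq d α fun j => ?_
          fin_cases j <;> simp [e, halt, b_self_zero hdq₀, hdc, hdx, hdw, sdc, hsw d x, hsw d w, sxd, swd]
        · refine heq x α fun j => ?_
          fin_cases j <;> simp [e, halt, b_self_zero hxq, hxc', hxd, hxw₀, sxc, sxd, sxw]
        · refine heq w α fun j => ?_
          fin_cases j <;> simp [e, halt, b_self_zero hwq₀, hwc, hwd, hwx, swc, swd, swx]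
    | zero => intro hz; rw [show (⟨0, hz⟩ : U) = 0 from rfl, map_zero, smul_zero]; rfl
    | add a b ha hb iha ihb =>
        intro hz
        have ha' : a ∈ U := hspan.symm ▸ ha
        have hb' : b ∈ U := hspan.symm ▸ hb
        rw [show (⟨a + b, hz⟩ : U) = ⟨a, ha'⟩ + ⟨b, hb'⟩ from rfl, map_add, Submodule.coe_add,
          iha ha', ihb hb', smul_add]
    | smul s a ha iha =>
        intro hz
        have ha' : a ∈ U := hspan.symm ▸ ha
        rw [show (⟨s • a, hz⟩ : U) = s • ⟨a, ha'⟩ from rfl, add_map_smul hp φ, Submodule.coe_smul,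
          iha ha', smul_comm]
  · refine Or.inr fun t => ?_
    have h11 : (1 : F) + 1 = 0 := by linear_combination h20
    by_cases ht : t = α
    · refine ⟨c + x + w, hne _ (b := (x : ι → F)) (by
        simp only [Submodule.coe_add, b_add_left, hcx, b_self_zero hxq, hwx, zero_add]
        exact one_ne_zero), heq _ t fun j => ?_⟩
      rw [ht, map_add, map_add]
      simp only [Submodule.coe_add, b_add_left]
      fin_cases j <;> simp [e, halt, b_self_zero hcq, b_self_zero hxq, b_self_zero hwq₀, hcd₀, hcx,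
        hcw, hxc', hxd, hxw₀, hwc, hwd, hwx, ← hα, ← hβ, scw, sxc, sxd, sxw, swc, swd, swx] <;>
        first | linear_combination h20 | linear_combination h20 * α | linear_combination h20 * (α + 1)
    · have ht' : t = α + 1 := by
        rcases hall t with e1 | e1 <;> rcases hall α with e2 | e2 <;> rw [e1, e2] at ht ⊢
        · exact absurd rfl ht
        · exact h11.symm
        · rw [zero_add]
        · exact absurd rfl ht
      refine ⟨x + w, hne _ (b := (x : ι → F)) (by
        simp only [Submodule.coe_add, b_add_left, b_self_zero hxq, hwx, zero_add]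
        exact one_ne_zero), heq _ t fun j => ?_⟩
      rw [ht', map_add]
      simp only [Submodule.coe_add, b_add_left]
      fin_cases j <;> simp [e, halt, b_self_zero hxq, b_self_zero hwq₀, hxc', hxd, hxw₀, hwc, hwd, hwx,
        sxc, sxd, sxw, swc, swd, swx] <;> linear_combination h20

/-- On the radical at a singular vector of the complement the translations form a coboundary, or, in
dimension seven over three elements, every point of the line to the vector has parameters. -/
theorem Compl.local_cases (hC : Compl P M hB) (hp : Nat.Prime q)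
    (hk : Module.finrank F (ι → F) = k + 2) (hk5 : 5 ≤ k)
    (hcase : 7 ≤ k ∨ (6 ≤ k ∧ ¬ HasHalf Q P.W 3) ∨ (k = 5 ∧ q = 3) ∨ (k = 6 ∧ q = 2))
    {P₁ : HP Q} (hc : P₁.v ∈ P.W) (hf : P₁.f ∈ P.W) :
    (∃ b ∈ P.W, ∀ x ∈ P.W, ∀ g, IsSiegel P₁.v x g → Tr P M g (b - ap g b)) ∨
      ((k = 5 ∨ (k = 6 ∧ q = 2 ∧ HasHalf Q P.W 3)) ∧ ∀ t : F, ∃ x, InM M (P₁.v + t • P.v) x ∧
        x ∉ Submodule.span F {P₁.v + t • P.v}) := by
  classical
  cases nonempty_fintype F
  obtain ⟨hvc, hfc⟩ := P.mem_W.1 hc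
  set U := P.W ⊓ P₁.W with hUdef
  have hUn := inf_nondeg hB hc hf
  have hUd : Module.finrank F U + 2 = k := by
    have h1 : Module.finrank F P.W = k := by have := P.finrank_W hB; omega
    have h2 : Module.finrank F P₁.W = k := by have := P₁.finrank_W hB; omega
    have hge : k ≤ Module.finrank F U + 2 := by
      have h3 := Submodule.finrank_sup_add_finrank_inf_eq P.W P₁.W
      have h4 := Submodule.finrank_le (P.W ⊔ P₁.W)
      rw [← hUdef] at h3
      omega
    have hlt : U ⊔ Submodule.span F ({P₁.v, P₁.f} : Set (ι → F)) ≤ P.W :=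
      sup_le inf_le_left (Submodule.span_le.2 (by rintro w (rfl | rfl); exacts [hc, hf]))
    have hinf : U ⊓ Submodule.span F ({P₁.v, P₁.f} : Set (ι → F)) = ⊥ :=
      (Submodule.eq_bot_iff _).2 fun z hz => by
        obtain ⟨a, a', rfl⟩ := Submodule.mem_span_pair.1 hz.2
        obtain ⟨e1, e2⟩ := P₁.mem_W.1 hz.1.2
        rw [b_add_right, b_smul_right, b_smul_right, b_self_zero P₁.hv, P₁.hvf] at e1
        rw [b_add_right, b_smul_right, b_smul_right, b_self_zero P₁.hf, P₁.hfv] at e2
        rw [show a = 0 by linear_combination e2, show a' = 0 by linear_combination e1, zero_smul,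
          zero_smul, add_zero]
    have h5 := Submodule.finrank_sup_add_finrank_inf_eq U (Submodule.span F ({P₁.v, P₁.f} : Set (ι → F)))
    rw [hinf, finrank_bot] at h5
    have h6 : Module.finrank F (Submodule.span F ({P₁.v, P₁.f} : Set (ι → F))) = 2 := by
      rw [← Matrix.range_cons_cons_empty P₁.v P₁.f ![],
        finrank_span_eq_card P₁.linearIndependent, Fintype.card_fin]
    have h7 := Submodule.finrank_mono hlt
    omega
  have hcU : ∀ x ∈ U, B P₁.v x = 0 := fun x hx => (P₁.mem_W.1 hx.2).1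
  have hcU' : ∀ x ∈ U, B x P₁.v = 0 := fun x hx => by rw [b_comm]; exact hcU x hx
  choose g hg using fun x : U => exists_siegel hB P₁.hv (hcU x x.2)
  have hgv : ∀ x : U, ap (g x) P.v = P.v := fun x => siegel_fix (hg x) hvc (P.mem_W.1 x.2.1).1
  choose y hyW hy using fun x : U => hC.exists_tr (siegel_mem_El (hg x)) (a := 1)
    (by rw [one_smul]; exact hgv x)
  have hgW : ∀ (x : U), ∀ z ∈ P.W, ap (g x) z ∈ P.W := fun x z hz => by
    rw [siegel_ap (hg x)]
    exact P.W.sub_mem (P.W.sub_mem (P.W.add_mem hz (P.W.smul_mem _ x.2.1)) (P.W.smul_mem _ hc))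
      (P.W.smul_mem _ hc)
  have hadd : ∀ x x' : U, y (x + x') = y x + ap (g x) (y x') := fun x x' => by
    refine hC.tr_unique (hyW _) (P.W.add_mem (hyW x) (hgW x _ (hyW x'))) (hy _) ?_
    have h1 := tr_mul (hgv x) (hy x) (hy x')
    rwa [siegel_unique (siegel_mul (hg x) (hg x')) (hg (x + x'))] at h1
  -- orthogonal to the singular vector
  have horth : ∀ x : U, B (y x) P₁.v = 0 := by
    intro x
    obtain ⟨x', hx'⟩ : ∃ x' : U, (x' : ι → F) ∉ Submodule.span F {(x : ι → F)} := by
      by_contra hcon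
      push Not at hcon
      have h1 := Submodule.finrank_mono (show U ≤ Submodule.span F {(x : ι → F)} from
        fun z hz => hcon ⟨z, hz⟩)
      have h2 : Module.finrank F (Submodule.span F {(x : ι → F)}) ≤ 1 :=
        (finrank_span_le_card _).trans (by simp)
      omega
    by_contra hne
    have h1 := hadd x x'
    rw [add_comm x x', hadd x' x, siegel_ap (hg x), siegel_ap (hg x')] at h1
    refine hx' ((Submodule.smul_mem_iff _ hne).1 ?_)
    obtain ⟨e, he⟩ : ∃ e : F, B (y x) P₁.v • (x' : ι → F) = B (y x') P₁.v • (x : ι → F) + e • P₁.v :=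
      ⟨B (y x) (x' : ι → F) + Q (x' : ι → F) * B (y x) P₁.v - B (y x') (x : ι → F) -
        Q (x : ι → F) * B (y x') P₁.v, by linear_combination (norm := module) h1⟩
    have he0 : e = 0 := by
      have h2 := congrArg (B P₁.f) he
      rw [b_add_right, b_smul_right, b_smul_right, b_smul_right, (P₁.mem_W.1 x'.2.2).2,
        (P₁.mem_W.1 x.2.2).2, P₁.hfv] at h2
      linear_combination -h2
    rw [he, he0, zero_smul, add_zero]
    exact Submodule.smul_mem _ _ (Submodule.mem_span_singleton_self _)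
  have hadd' : ∀ x x' : U, y (x + x') = y x + y x' - B (y x') (x : ι → F) • P₁.v := fun x x' => by
    rw [hadd, siegel_ap (hg x), horth]; module
  have hsymm : ∀ x x' : U, B (y x') (x : ι → F) = B (y x) (x' : ι → F) := fun x x' => by
    have h1 := congrArg (B P₁.f) (hadd' x x')
    rw [add_comm x x', hadd' x' x] at h1
    simp only [b_sub_right, b_add_right, b_smul_right, P₁.hfv, mul_one] at h1
    linear_combination h1
  -- the linear part
  let φ : U →+ U := AddMonoidHom.mk' (fun x => ⟨P₁.pW (y x), P.W.sub_mem (P.W.sub_mem (hyW x)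
    (P.W.smul_mem _ hc)) (P.W.smul_mem _ hf), P₁.pW_mem _⟩) fun x x' => Subtype.ext (by
      show P₁.pW (y (x + x')) = P₁.pW (y x) + P₁.pW (y x')
      rw [hadd', P₁.pW_sub, P₁.pW_add, P₁.pW_smul, P₁.pW_v, smul_zero, sub_zero])
  have hφ : ∀ x : U, ((φ x : U) : ι → F) = P₁.pW (y x) := fun x => rfl
  have hφb : ∀ x z : U, B (φ x : ι → F) (z : ι → F) = B (y x) (z : ι → F) := fun x z => by
    rw [hφ, HP.pW, b_sub_left, b_sub_left, b_smul_left, b_smul_left, hcU z z.2,
      (P₁.mem_W.1 z.2.2).2, mul_zero, mul_zero, sub_zero, sub_zero]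
  have hhalf : ∀ {S : Submodule F (ι → F)}, S ≤ U → (∀ w ∈ S, Q w = 0) → 2 ≤ Module.finrank F S →
      HasHalf Q P.W 3 := fun {S} hSU hSq hSd => ⟨S ⊔ Submodule.span F {P₁.v}, sup_le
        (hSU.trans inf_le_left) ((Submodule.span_singleton_le_iff_mem _ _).2 hc), fun w hw => by
          obtain ⟨a, ha, b, hb, rfl⟩ := Submodule.mem_sup.1 hw
          obtain ⟨t, rfl⟩ := Submodule.mem_span_singleton.1 hb
          rw [q_add, hSq a ha, q_smul, P₁.hv, b_smul_right, hcU' a (hSU ha)]; ring, by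
          have h1 : S ⊓ Submodule.span F {P₁.v} = ⊥ := (Submodule.eq_bot_iff _).2 fun w hw => by
            obtain ⟨t, rfl⟩ := Submodule.mem_span_singleton.1 hw.2
            have := (P₁.mem_W.1 (hSU hw.1).2).2
            rw [b_smul_right, P₁.hfv, mul_one] at this
            rw [this, zero_smul]
          have h2 := Submodule.finrank_sup_add_finrank_inf_eq S (Submodule.span F {P₁.v})
          rw [h1, finrank_bot, finrank_span_singleton P₁.v_ne] at h2
          omega⟩
  have hself : (2 : F) = 0 → ∀ x : U, B (y x) (x : ι → F) = 0 := by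
    intro h2 x
    have h0 : y 0 = 0 := by
      have h := hadd' 0 0
      rw [add_zero] at h
      simpa using h
    have hxx : x + x = 0 := by rw [← two_smul F x, h2, zero_smul]
    have h := hadd' x x
    rw [hxx, h0] at h
    have h3 := congrArg (B P₁.f) h
    rw [b_sub_right, b_add_right, b_smul_right, P₁.hfv, b_zero_right] at h3
    linear_combination h3 + B P₁.f (y x) * h2
  -- orthogonality is kept
  have hperp : ∀ c' x : U, ((x : ι → F) ∈ Submodule.span F {(c' : ι → F)} ∨
        ((2 : F) = 0 ∧ Q (x : ι → F) ≠ 0) ∨ 7 ≤ k ∨ (6 ≤ k ∧ (2 : F) ≠ 0 ∧ ¬ HasHalf Q P.W 3)) →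
      Q (c' : ι → F) = 0 → (c' : ι → F) ≠ 0 → B (c' : ι → F) (x : ι → F) = 0 →
      B (y x) (c' : ι → F) = 0 := by
    intro c' x hx5 hq' h0' hcx
    by_cases hns : (2 : F) = 0 ∧ Q (x : ι → F) ≠ 0
    · -- conjugating by the element at the two vectors
      obtain ⟨h2, hxq⟩ := hns
      have hxx : B (x : ι → F) (x : ι → F) = 0 := by rw [b_self, h2, zero_mul]
      obtain ⟨d, hd, -, hcd⟩ := exists_partner_in hB hUn (P := Submodule.span F {(x : ι → F)})
        ((Submodule.span_singleton_le_iff_mem _ _).2 x.2)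
        ⟨c'.2, mem_orth_span.2 fun z hz => by rw [Set.mem_singleton_iff.1 hz, b_comm]; exact hcx⟩
        (fun hh => by
          obtain ⟨t, ht⟩ := Submodule.mem_span_singleton.1 hh
          rw [← ht, q_smul] at hq'
          exact h0' (by rw [← ht, mul_self_eq_zero.1 ((mul_eq_zero.1 hq').resolve_right hxq), zero_smul]))
        hq'
      have hdx : B d (x : ι → F) = 0 := by
        rw [b_comm]; exact mem_orth_span.1 hd.2 _ rfl
      obtain ⟨g', hg'⟩ := exists_siegel hB hq' hcx
      have hg'v : ap g' P.v = P.v := siegel_fix hg' (P.mem_W.1 c'.2.1).1 (P.mem_W.1 x.2.1).1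
      obtain ⟨y', hy'W, hy'⟩ := hC.exists_tr (siegel_mem_El hg') (a := 1) (by rw [one_smul]; exact hg'v)
      obtain ⟨X, hX⟩ : ∃ X : U, (X : ι → F) = d := ⟨⟨d, hd.1⟩, rfl⟩
      obtain ⟨Y, hY⟩ : ∃ Y : U, Y = X + x + (-Q (x : ι → F)) • c' := ⟨_, rfl⟩
      have hdc : B d (c' : ι → F) = 1 := by rw [b_comm]; exact hcd
      have hYv : ap g' d = (Y : ι → F) := by
        rw [siegel_ap hg', hdx, hdc, hY, Submodule.coe_add, Submodule.coe_add, Submodule.coe_smul, hX]
        module
      have hconj : g' * g X = g Y * g' := by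
        have h1 := siegel_conj (hg X) g'
        rw [siegel_fix hg' (hcU _ c'.2) (hcU _ x.2), hX, hYv] at h1
        rw [← siegel_unique h1 (hg Y)]
        group
      have h1 := tr_mul hg'v hy' (hy X)
      have h3 := tr_mul (hgv Y) (hy Y) hy'
      rw [hconj] at h1
      have hg'W : ap g' (y X) ∈ P.W := by
        rw [siegel_ap hg']
        exact P.W.sub_mem (P.W.sub_mem (P.W.add_mem (hyW X) (P.W.smul_mem _ x.2.1))
          (P.W.smul_mem _ c'.2.1)) (P.W.smul_mem _ c'.2.1)
      have h4 := congrArg (fun z => B z (x : ι → F))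
        (hC.tr_unique (P.W.add_mem hy'W hg'W) (P.W.add_mem (hyW Y) (hgW Y _ hy'W)) h1 h3)
      have hgx : ap g' (x : ι → F) = (x : ι → F) := siegel_fix hg' (by rw [b_comm]; exact hcx) hxx
      have hYx : B (Y : ι → F) (x : ι → F) = 0 := by
        rw [← hYv, ← hgx, ap_b]; exact hdx
      have hgB : B (ap g' (y X)) (x : ι → F) = B (y X) (x : ι → F) := by
        have h := ap_b g' (y X) (x : ι → F)
        rwa [hgx] at h
      simp only [siegel_ap (hg Y), b_add_left, b_sub_left, b_smul_left, hgB, hYx, hcU x x.2] at h4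
      have h5 : B (y Y) (x : ι → F) = B (y X) (x : ι → F) := by linear_combination -h4
      rw [← hφb, hY, map_add, map_add, add_map_smul hp φ, Submodule.coe_add, Submodule.coe_add,
        Submodule.coe_smul, b_add_left, b_add_left, b_smul_left, hφb, hφb, hφb, hself h2 x] at h5
      have h6 : Q (x : ι → F) * B (y c') (x : ι → F) = 0 := by linear_combination -h5
      rw [← hsymm x c']
      exact (mul_eq_zero.1 h6).resolve_left hxq
    obtain ⟨z, hz, hcz, hxz, hzS⟩ := exists_third hB hUd c'.2 x.2 hq' h0' hcx hk5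
      (hx5.imp id fun h => (h.resolve_left hns).imp id fun h => ⟨h.1, h.2.1,
        fun ⟨S, hSU, hSq, hSd⟩ => h.2.2 (hhalf hSU hSq hSd)⟩)
    obtain ⟨g', hg'⟩ := exists_siegel hB hq' hcz
    have hg'v : ap g' P.v = P.v := siegel_fix hg' (P.mem_W.1 c'.2.1).1 (P.mem_W.1 hz.1).1
    obtain ⟨y', hy'W, hy'⟩ := hC.exists_tr (siegel_mem_El hg') (a := 1) (by rw [one_smul]; exact hg'v)
    have hcomm : g' * g x = g x * g' := by
      have h1 := siegel_conj (hg x) g'
      rw [siegel_fix hg' (hcU _ c'.2) (hcU z hz), siegel_fix hg' (by rw [b_comm]; exact hcx) hxz] at h1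
      have h2 := siegel_unique h1 (hg x)
      calc g' * g x = g' * g x * g'⁻¹ * g' := by group
        _ = g x * g' := by rw [h2]
    have h1 := tr_mul (hgv x) (hy x) hy'
    have h2 := tr_mul hg'v hy' (hy x)
    rw [hcomm] at h2
    have hg'W : ap g' (y x) ∈ P.W := by
      rw [siegel_ap hg']
      exact P.W.sub_mem (P.W.sub_mem (P.W.add_mem (hyW x) (P.W.smul_mem _ hz.1))
        (P.W.smul_mem _ c'.2.1)) (P.W.smul_mem _ c'.2.1)
    have h3 := hC.tr_unique (P.W.add_mem (hyW x) (hgW x _ hy'W)) (P.W.add_mem hy'W hg'W) h1 h2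
    rw [siegel_ap (hg x), siegel_ap hg'] at h3
    obtain ⟨e, e', he⟩ : ∃ e e' : F, B (y x) (c' : ι → F) • z =
        B y' P₁.v • (x : ι → F) + e • (c' : ι → F) + e' • P₁.v :=
      ⟨B (y x) z + Q z * B (y x) (c' : ι → F), -(B y' (x : ι → F)) - Q (x : ι → F) * B y' P₁.v,
        by linear_combination (norm := module) -h3⟩
    have he0 : e' = 0 := by
      have h4 := congrArg (B P₁.f) he
      simp only [b_add_right, b_smul_right, (P₁.mem_W.1 hz.2).2, (P₁.mem_W.1 x.2.2).2,
        (P₁.mem_W.1 c'.2.2).2, P₁.hfv] at h4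
      linear_combination -h4
    by_contra hne
    refine hzS ((Submodule.smul_mem_iff _ hne).1 ?_)
    rw [he, he0, zero_smul, add_zero]
    exact Submodule.add_mem _ (Submodule.smul_mem _ _ (Submodule.subset_span (Set.mem_insert_of_mem _ rfl)))
      (Submodule.smul_mem _ _ (Submodule.subset_span (Set.mem_insert _ _)))
  -- the linear part is scalar, or has every eigenvalue
  have hmain : (∃ γ : F, ∀ x : U, (φ x : ι → F) = γ • (x : ι → F)) ∨
      ((k = 5 ∨ (k = 6 ∧ q = 2 ∧ HasHalf Q P.W 3)) ∧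
        ∀ t : F, ∃ x : U, (x : ι → F) ≠ 0 ∧ (φ x : ι → F) = t • (x : ι → F)) := by
    by_cases h5 : k = 5
    · obtain ⟨-, h3⟩ := ((hcase.resolve_left (by omega)).resolve_left
        (fun h => by have := h.1; omega)).resolve_right (fun h => by have := h.1; omega)
      refine (three_eigen hUn (show Module.finrank F U = 3 by omega) h3 hB
        { toFun := φ, map_add' := map_add φ, map_smul' := fun a x => add_map_smul hp φ a x }
        (fun x z => ?_) fun c hcq => ?_).imp id fun h => ⟨Or.inl h5, h⟩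
      · show B (φ x : ι → F) (z : ι → F) = B (x : ι → F) (φ z : ι → F)
        rw [hφb, b_comm (x : ι → F), hφb]
        exact (hsymm x z).symm
      · show B (φ c : ι → F) (c : ι → F) = 0
        rw [hφb]
        by_cases hc0 : (c : ι → F) = 0
        · rw [hc0, b_zero_right]
        · exact hperp c c (Or.inl (Submodule.mem_span_singleton_self _)) hcq hc0 (b_self_zero hcq)
    by_cases hpl : (2 : F) = 0 ∧ k = 6 ∧ q = 2 ∧ ∃ c x : U, Q (c : ι → F) = 0 ∧ Q (x : ι → F) = 0 ∧
        (c : ι → F) ≠ 0 ∧ B (c : ι → F) (x : ι → F) = 0 ∧ (x : ι → F) ∉ Submodule.span F {(c : ι → F)}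
    · -- a totally singular plane over two elements
      obtain ⟨h2, hk6, hq2, c, x, hcq, hxq, hc0, hcx, hxc⟩ := hpl
      have hH : HasHalf Q P.W 3 := by
        refine hhalf (S := Submodule.span F ({(c : ι → F), (x : ι → F)} : Set (ι → F)))
          (Submodule.span_le.2 ?_) (fun w hw => ?_) (le_of_eq ?_)
        · rintro w (rfl | rfl)
          exacts [c.2, x.2]
        · obtain ⟨a, b, rfl⟩ := Submodule.mem_span_pair.1 hw
          rw [q_add, q_smul, q_smul, hcq, hxq, b_smul_left, b_smul_right, hcx]; ring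
        · rw [← Matrix.range_cons_cons_empty (c : ι → F) (x : ι → F) ![],
            finrank_span_eq_card (pair_indep hc0 hxc), Fintype.card_fin]
      refine (plane_eigen hB hUn (show Module.finrank F U = 4 by omega) hq2 hp φ
        (fun a b => ?_) (fun a => ?_) (fun a b ha ha0 hb hab => ?_) hcq hxq hc0 hcx hxc).imp id
        fun h => ⟨Or.inr ⟨hk6, hq2, hH⟩, h⟩
      · rw [hφb, b_comm (a : ι → F), hφb]
        exact (hsymm a b).symm
      · rw [hφb]; exact hself h2 a
      · rw [hφb, ← hsymm]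
        exact hperp a b (Or.inr (Or.inl ⟨h2, hb⟩)) ha ha0 hab
    left
    have hgen : ∀ c' x : U, Q (c' : ι → F) = 0 → (c' : ι → F) ≠ 0 → B (c' : ι → F) (x : ι → F) = 0 →
        ((x : ι → F) ∈ Submodule.span F {(c' : ι → F)} ∨ ((2 : F) = 0 ∧ Q (x : ι → F) ≠ 0) ∨ 7 ≤ k ∨
          (6 ≤ k ∧ (2 : F) ≠ 0 ∧ ¬ HasHalf Q P.W 3)) := by
      intro c' x hq' h0' hcx
      by_cases hsp : (x : ι → F) ∈ Submodule.span F {(c' : ι → F)}
      · exact Or.inl hsp
      by_cases h7 : 7 ≤ k
      · exact Or.inr (Or.inr (Or.inl h7))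
      by_cases h2 : (2 : F) = 0
      · refine Or.inr (Or.inl ⟨h2, fun hxq => ?_⟩)
        rcases hcase with h | ⟨-, h⟩ | ⟨h, -⟩ | ⟨h, hq2⟩
        · exact h7 h
        · refine h (hhalf (S := Submodule.span F ({(c' : ι → F), (x : ι → F)} : Set (ι → F)))
            (Submodule.span_le.2 ?_) (fun w hw => ?_) (le_of_eq ?_))
          · rintro w (rfl | rfl)
            exacts [c'.2, x.2]
          · obtain ⟨a, b, rfl⟩ := Submodule.mem_span_pair.1 hw
            rw [q_add, q_smul, q_smul, hq', hxq, b_smul_left, b_smul_right, hcx]; ring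
          · rw [← Matrix.range_cons_cons_empty (c' : ι → F) (x : ι → F) ![],
              finrank_span_eq_card (pair_indep h0' hsp), Fintype.card_fin]
        · exact h5 h
        · exact hpl ⟨h2, h, hq2, c', x, hq', hxq, h0', hcx, hsp⟩
      · rcases hcase with h | ⟨h, h'⟩ | ⟨h, -⟩ | ⟨-, hq2⟩
        · exact absurd h h7
        · exact Or.inr (Or.inr (Or.inr ⟨h, h2, h'⟩))
        · exact absurd h h5
        · refine absurd ?_ h2
          have h := FiniteField.cast_card_eq_zero F
          rw [← Nat.card_eq_fintype_card, hq2] at h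
          exact_mod_cast h
    -- singular vectors are eigenvectors
    have heig : ∀ s : U, Q (s : ι → F) = 0 → (s : ι → F) ≠ 0 →
        ∃ γ : F, (φ s : ι → F) = γ • (s : ι → F) := by
      intro s hs hs0
      obtain ⟨e, he, -, hse⟩ := exists_partner_in hB hUn (P := ⊥) bot_le
        ⟨s.2, fun p hp => by rw [(Submodule.mem_bot F).1 hp]; exact b_zero_left _⟩
        (fun h => hs0 ((Submodule.mem_bot F).1 h)) hs
      refine ⟨B (φ s : ι → F) e, sub_eq_zero.1 (hUn _ (U.sub_mem (φ s).2 (U.smul_mem _ s.2)) fun u hu => ?_)⟩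
      obtain ⟨x, hx⟩ : ∃ x : U, (x : ι → F) = u - B (s : ι → F) u • e :=
        ⟨⟨_, U.sub_mem hu (U.smul_mem _ he.1)⟩, rfl⟩
      have hsx : B (s : ι → F) (x : ι → F) = 0 := by
        rw [hx, b_sub_right, b_smul_right, hse, mul_one, sub_self]
      have h1 := hperp s x (hgen s x hs hs0 hsx) hs hs0 hsx
      rw [hsymm s x, ← hφb s x, hx, b_sub_right, b_smul_right] at h1
      rw [b_sub_left, b_smul_left]
      linear_combination h1
    -- so the linear part is scalar
    obtain ⟨s, hsU, hs0, hsq⟩ := exists_singular (Q := Q) (U := U) (by omega)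
    obtain ⟨γ, hγ⟩ := heig ⟨s, hsU⟩ hsq hs0
    obtain ⟨t, ht, htq, hst⟩ := exists_partner_in hB hUn (P := ⊥) bot_le
      ⟨hsU, fun p hp => by rw [(Submodule.mem_bot F).1 hp]; exact b_zero_left _⟩
      (fun h => hs0 ((Submodule.mem_bot F).1 h)) hsq
    have hnon : ∀ x : U, B s (x : ι → F) ≠ 0 → (φ x : ι → F) = γ • (x : ι → F) := by
      intro x hsx
      obtain ⟨a, ha⟩ : ∃ a, a = Q (x : ι → F) / B s (x : ι → F) := ⟨_, rfl⟩
      obtain ⟨u, hu⟩ : ∃ u : U, u = x - a • ⟨s, hsU⟩ := ⟨_, rfl⟩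
      have hu' : (u : ι → F) = (x : ι → F) - a • s := by rw [hu]; rfl
      have huq : Q (u : ι → F) = 0 := by
        rw [hu', q_sub, q_smul, hsq, b_smul_right, b_comm _ s, ha, div_mul_cancel₀ _ hsx]; ring
      have hsu : B s (u : ι → F) = B s (x : ι → F) := by
        rw [hu', b_sub_right, b_smul_right, b_self_zero hsq, mul_zero, sub_zero]
      obtain ⟨δ, hδ⟩ := heig u huq fun e => hsx (by rw [← hsu, e, b_zero_right])
      have h1 := hsymm u ⟨s, hsU⟩
      rw [← hφb, ← hφb, hγ, hδ, b_smul_left, b_smul_left, hsu, b_comm (u : ι → F) s, hsu] at h1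
      obtain rfl : γ = δ := mul_right_cancel₀ hsx h1
      have e : x = u + a • ⟨s, hsU⟩ := by rw [hu]; abel
      rw [e, map_add, add_map_smul hp φ, Submodule.coe_add, Submodule.coe_smul, hδ, hγ,
        Submodule.coe_add, Submodule.coe_smul]
      module
    have hscal : ∀ x : U, (φ x : ι → F) = γ • (x : ι → F) := by
      intro x
      by_cases hsx : B s (x : ι → F) = 0
      · have h1 := hnon (x + ⟨t, ht.1⟩) (by
          show B s ((x : ι → F) + t) ≠ 0
          rw [b_add_right, hsx, hst, zero_add]; exact one_ne_zero)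
        have h2 := hnon ⟨t, ht.1⟩ (by show B s t ≠ 0; rw [hst]; exact one_ne_zero)
        rw [map_add, Submodule.coe_add, h2, Submodule.coe_add] at h1
        linear_combination (norm := module) h1
      · exact hnon x hsx
    exact ⟨γ, hscal⟩
  rcases hmain with ⟨γ, hscal⟩ | ⟨h5, heigen⟩
  swap
  · refine Or.inr ⟨h5, fun t => ?_⟩
    obtain ⟨x, hx0, hxt⟩ := heigen t
    have hyd := P₁.eq_pW (x := y x) (by rw [b_comm]; exact horth x)
    rw [← hφ, hxt] at hyd
    obtain ⟨a, ha⟩ : ∃ a, a = B P₁.f (y x) + t * Q (x : ι → F) := ⟨_, rfl⟩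
    obtain ⟨s, hs, hsM⟩ := hy x
    obtain ⟨r, hr⟩ := exists_siegel hB P.hv (v := a • P₁.v) (by rw [b_smul_right, hvc, mul_zero])
    obtain ⟨j, hj⟩ := exists_siegel hB P.hv (v := t • (x : ι → F) - (t * Q (x : ι → F)) • P₁.v) (by
      rw [b_sub_right, b_smul_right, b_smul_right, hvc, (P.mem_W.1 x.2.1).1]; ring)
    have hsplit := siegel_mul hr hj
    rw [show a • P₁.v + (t • (x : ι → F) - (t * Q (x : ι → F)) • P₁.v) = y x by
      conv_rhs => rw [hyd]
      rw [ha]; module] at hsplit
    have hjoin := siegel_join P.hv P₁.hv hvc (P.mem_W.1 x.2.1).1 (hcU x x.2) hj (hg x)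
    have hq' : Q (P₁.v + t • P.v) = 0 := hjoin.1
    -- the translation along the line, as a radical element at the point
    have hswap : IsSiegel (P₁.v + t • P.v) (-(a • P.v)) r := by
      have h1 : IsSiegel (a • P₁.v) (-P.v) r := by
        have h := siegel_swap P.hv (by rw [q_smul, P₁.hv, mul_zero]) hr
        exact h
      obtain ⟨l, hl⟩ := exists_siegel hB P₁.hv (v := -P.v) (by
        rw [← neg_one_smul F P.v, b_smul_right, b_comm, hvc, mul_zero])
      have h2 := siegel_smul hl a h1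
      rw [smul_neg] at h2
      obtain ⟨i, hi⟩ := exists_siegel hB P.hv (v := t • -(a • P.v) - (t * Q (-(a • P.v))) • P₁.v) (by
        simp only [QuadraticMap.map_neg, q_smul, P.hv, mul_zero, zero_smul, sub_zero]
        rw [show t • -(a • P.v) = (-(t * a)) • P.v by module, b_smul_right, b_self_zero P.hv, mul_zero])
      have h3 := siegel_join P.hv P₁.hv hvc
        (by rw [show -(a • P.v) = (-a) • P.v by module, b_smul_right, b_self_zero P.hv, mul_zero])
        (by rw [show -(a • P.v) = (-a) • P.v by module, b_smul_right, b_comm, hvc, mul_zero]) hi h2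
      have hi1 : i = 1 := by
        refine siegel_trivial hB P.hv (-(t * a)) ?_
        convert hi using 1
        simp only [QuadraticMap.map_neg, q_smul, P.hv, mul_zero, zero_smul, sub_zero]
        module
      rwa [hi1, one_mul] at h3
    have hfin := siegel_mul hswap hjoin
    refine ⟨_, ⟨hfin.2.1, fun k' hk' => ?_⟩, fun hsp => ?_⟩
    · rw [siegel_unique hk' hfin, ← mul_assoc, siegel_unique hsplit hs]
      exact hsM
    · obtain ⟨e, he⟩ := Submodule.mem_span_singleton.1 hsp
      refine hx0 (hUn _ x.2 fun z hz => ?_)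
      have h := congrArg (fun w => B w z) he
      simp only [b_add_left, b_smul_left, hcU z hz, (P.mem_W.1 hz.1).1, ← neg_one_smul F (a • P.v)] at h
      linear_combination -h
  left
  -- the rest is linear
  let lamF : U →+ F := AddMonoidHom.mk' (fun x => B P₁.f (y x) + γ * Q (x : ι → F)) fun x x' => by
    show B P₁.f (y (x + x')) + γ * Q ((x : ι → F) + (x' : ι → F)) = _
    rw [hadd', b_sub_right, b_add_right, b_smul_right, P₁.hfv, q_add, ← hφb, hscal, b_smul_left,
      b_comm (x' : ι → F)]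
    ring
  let lamL : U →ₗ[F] F :=
    { toFun := lamF
      map_add' := map_add lamF
      map_smul' := fun a x => add_map_smul hp lamF a x }
  let Φ : U →ₗ[F] Module.Dual F U :=
    { toFun := fun w =>
        { toFun := fun x => B (w : ι → F) (x : ι → F)
          map_add' := fun a b => b_add_right _ _ _
          map_smul' := fun a b => b_smul_right _ _ _ }
      map_add' := fun a b => LinearMap.ext fun x => b_add_left _ _ _
      map_smul' := fun a b => LinearMap.ext fun x => b_smul_left _ _ _ }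
  have hΦ : Function.Injective Φ := fun a b e => Subtype.ext (sub_eq_zero.1
    (hUn _ (U.sub_mem a.2 b.2) fun u hu => by
      have : B (a : ι → F) u = B (b : ι → F) u := congrArg (fun L => L ⟨u, hu⟩) e
      rw [b_sub_left, this, sub_self]))
  obtain ⟨w, hw⟩ := (LinearMap.injective_iff_surjective_of_finrank_eq_finrank
    Subspace.dual_finrank_eq.symm).1 hΦ lamL
  refine ⟨(w : ι → F) - γ • P₁.f, P.W.sub_mem w.2.1 (P.W.smul_mem _ hf), fun x hx h hh => ?_⟩
  have hcx := hh.2.1
  obtain ⟨x₀, hx₀⟩ : ∃ x₀ : U, (x₀ : ι → F) = P₁.pW x :=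
    ⟨⟨_, P.W.sub_mem (P.W.sub_mem hx (P.W.smul_mem _ hc)) (P.W.smul_mem _ hf), P₁.pW_mem x⟩, rfl⟩
  have he : h = g x₀ := by
    have h1 := siegel_add_self (hg x₀) (B P₁.f x)
    rw [hx₀, ← P₁.eq_pW hcx] at h1
    exact siegel_unique hh h1
  rw [he]
  suffices (w : ι → F) - γ • P₁.f - ap (g x₀) ((w : ι → F) - γ • P₁.f) = y x₀ by rw [this]; exact hy x₀
  have hlam : B (w : ι → F) (x₀ : ι → F) = B P₁.f (y x₀) + γ * Q (x₀ : ι → F) :=
    congrArg (fun L : Module.Dual F U => L x₀) hw
  have hyd := P₁.eq_pW (x := y x₀) (by rw [b_comm]; exact horth x₀)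
  rw [← hφ, hscal] at hyd
  conv_rhs => rw [hyd]
  rw [siegel_ap (hg x₀)]
  simp only [b_sub_left, b_smul_left, hlam, hcU' w w.2, P₁.hfv, (P₁.mem_W.1 x₀.2.2).2]
  module

theorem exists_outside_line (hB : Nondeg Q) (hk : Module.finrank F (ι → F) = k + 2) (hk6 : 5 ≤ k) {c : ι → F}
    (hc0 : c ≠ 0) : ∃ x ∈ P.W, B c x = 0 ∧ x ∉ Submodule.span F {c} := by
  by_contra hcon
  push Not at hcon
  have h1 := Submodule.finrank_mono (show P.W ⊓ orth Q (Submodule.span F {c}) ≤ Submodule.span F {c} from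
    fun x hx => hcon x hx.1 (mem_orth_span.1 hx.2 c rfl))
  have h2 := Submodule.finrank_sup_add_finrank_inf_eq P.W (orth Q (Submodule.span F {c}))
  have h3 := Submodule.finrank_le (P.W ⊔ orth Q (Submodule.span F {c}))
  have h4 := finrank_orth hB (Submodule.span F {c})
  have h5 := P.finrank_W hB
  rw [finrank_span_singleton hc0] at h1 h4
  omega

theorem fixed_orth (hB : Nondeg Q) (hk : Module.finrank F (ι → F) = k + 2) (hk6 : 5 ≤ k) {c d : ι → F}
    (hcq : Q c = 0) (hc0 : c ≠ 0)
    (h : ∀ x ∈ P.W, ∀ g : Grp Q, IsSiegel c x g → ap g d = d) : B d c = 0 := by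
  obtain ⟨x, hx, hcx, hxc⟩ := exists_outside_line (P := P) hB hk hk6 hc0
  obtain ⟨g, hg⟩ := exists_siegel hB hcq hcx
  have h1 := h x hx g hg
  rw [siegel_ap hg] at h1
  by_contra hne
  refine hxc ((Submodule.smul_mem_iff _ hne).1 ?_)
  rw [show B d c • x = (B d x + Q x * B d c) • c by linear_combination (norm := module) h1]
  exact Submodule.smul_mem _ _ (Submodule.mem_span_singleton_self _)

theorem exists_nonsingular_pairing {U : Submodule F (ι → F)} (hB : Nondeg Q)
    (hd : 3 ≤ Module.finrank F U) (hU : NondegOn Q U) {w : ι → F} (hw : w ∈ U) (hw0 : w ≠ 0) :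
    ∃ x ∈ U, Q x ≠ 0 ∧ B w x ≠ 0 := by
  by_contra hcon
  push Not at hcon
  obtain ⟨x, hx, hwx⟩ : ∃ x ∈ U, B w x ≠ 0 := by
    by_contra hh
    push Not at hh
    exact hw0 (hU w hw hh)
  have hxq : Q x = 0 := by
    by_contra hne
    exact hwx (hcon x hx hne)
  set H := U ⊓ orth Q (Submodule.span F {w}) with hH
  have hQ : ∀ h ∈ H, Q h + B x h = 0 := fun h hh => by
    have hwh : B w h = 0 := mem_orth_span.1 hh.2 w rfl
    have h1 : Q (x + h) = 0 := by
      by_contra hne
      have := hcon _ (U.add_mem hx hh.1) hne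
      rw [b_add_right, hwh, add_zero] at this
      exact hwx this
    rw [q_add, hxq, zero_add] at h1
    exact h1
  have hHH : H ≤ orth Q H := fun a ha => mem_orth.2 fun b hb => by
    have h1 := hQ _ (H.add_mem hb ha)
    rw [q_add, b_add_right] at h1
    linear_combination h1 - hQ a ha - hQ b hb
  -- too large to be isotropic in the space
  have h2 := Submodule.finrank_sup_add_finrank_inf_eq U (orth Q (Submodule.span F {w}))
  have h3 := Submodule.finrank_le (U ⊔ orth Q (Submodule.span F {w}))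
  have h4 := finrank_orth hB (Submodule.span F {w})
  rw [finrank_span_singleton hw0] at h4
  have h5 : relOrth Q U U = ⊥ := (Submodule.eq_bot_iff _).2 fun z hz =>
    hU z hz.1 fun u hu => by rw [b_comm]; exact hz.2 u hu
  have h6 : Module.finrank F H + Module.finrank F H ≤ Module.finrank F U := by
    have h7 := finrank_relOrth hB U H
    have h8 : H ≤ relOrth Q U H := le_inf inf_le_left hHH
    have h9 := Submodule.finrank_mono h8
    have h10 : relOrth Q U H ⊓ ⊥ = ⊥ := inf_bot_eq _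
    have h11 := finrank_orth hB H
    have h12 := Submodule.finrank_sup_add_finrank_inf_eq U (orth Q H)
    have h13 : U ⊔ orth Q H = ⊤ := by
      have h14 : orth Q (U ⊔ orth Q H) = ⊥ := (Submodule.eq_bot_iff _).2 fun z hz => by
        have hzH : z ∈ H := by
          rw [← orth_orth hB H]
          exact orth_le le_sup_right hz
        exact hU z hzH.1 fun u hu => by rw [b_comm]; exact mem_orth.1 (orth_le le_sup_left hz) u hu
      rw [← orth_orth hB (U ⊔ orth Q H), h14]
      exact (Submodule.eq_top_iff'.2 fun z => mem_orth.2 fun u hu => by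
        rw [(Submodule.mem_bot F).1 hu, b_zero_left])
    rw [h13, finrank_top] at h12
    have h15 : Module.finrank F H ≤ Module.finrank F ↥(U ⊓ orth Q H) :=
      Submodule.finrank_mono (le_inf inf_le_left hHH)
    omega
  rw [← hH] at h2
  omega

/-- The subgroup conjugated by a translation. -/
def conjM (M : Subgroup (Grp Q)) (r : Grp Q) : Subgroup (Grp Q) :=
  M.comap (MulAut.conj r).toMonoidHom

theorem mem_conjM {r g : Grp Q} : g ∈ conjM M r ↔ r * g * r⁻¹ ∈ M := Iff.rfl

theorem conjM_index {r : Grp Q} (hr : r ∈ El Q) :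
    (conjM M r).relIndex (El Q) = M.relIndex (El Q) ∧ (El Q ≤ conjM M r ↔ El Q ≤ M) := by
  have he : (El Q).map (MulAut.conj r).toMonoidHom = El Q := by
    refine le_antisymm ?_ fun g hg => ?_
    · rintro _ ⟨g, hg, rfl⟩
      exact mul_mem (mul_mem hr hg) (inv_mem hr)
    · exact ⟨r⁻¹ * g * r, mul_mem (mul_mem (inv_mem hr) hg) hr, by simp [mul_assoc]⟩
  refine ⟨?_, fun h g hg => ?_, fun h g hg => ?_⟩
  · rw [conjM, Subgroup.relIndex_comap, he]
  · have := mem_conjM.1 (h (mul_mem (mul_mem (inv_mem hr) hg) hr : r⁻¹ * g * r ∈ El Q))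
    rwa [show r * (r⁻¹ * g * r) * r⁻¹ = g by group] at this
  · exact h (mul_mem (mul_mem hr hg) (inv_mem hr))

/-- Over a prime field a complement gives a conjugate containing the stabiliser of the pair. -/
theorem exists_pure_prime (hC : Compl P M hB)
    (hk : Module.finrank F (ι → F) = k + 2) (hk6 : 5 ≤ k)
    (hloc : ∀ P₁ : HP Q, P₁.v ∈ P.W → P₁.f ∈ P.W →
      ∃ b ∈ P.W, ∀ x ∈ P.W, ∀ g, IsSiegel P₁.v x g → Tr P M g (b - ap g b)) :
    ∃ r ∈ El Q, Pure P (conjM M r) hB := by
  classical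
  cases nonempty_fintype F
  have hW : Module.finrank F P.W = k := by have := P.finrank_W hB; omega
  obtain ⟨e, heW, he0, heq⟩ := exists_singular (Q := Q) (U := P.W) (by omega)
  obtain ⟨P₁, hP₁v, hP₁f⟩ := P.exists_at hB heW heq he0
  have hP₁vW : P₁.v ∈ P.W := hP₁v ▸ heW
  let P₂ : HP Q := ⟨P₁.f, P₁.v, P₁.hf, P₁.hv, P₁.hfv⟩
  obtain ⟨b₁, hb₁, hbe⟩ := hloc P₁ hP₁vW hP₁f
  obtain ⟨b₂, hb₂, hbf⟩ := hloc P₂ hP₁f hP₁vW
  obtain ⟨b, hb⟩ : ∃ b, b = b₁ + (B b₂ P₁.f - B b₁ P₁.f) • P₁.v := ⟨_, rfl⟩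
  have hbW : b ∈ P.W := hb ▸ P.W.add_mem hb₁ (P.W.smul_mem _ hP₁vW)
  have hbf' : B (b₂ - b) P₁.f = 0 := by
    rw [b_sub_left, hb, b_add_left, b_smul_left, P₁.hvf]; ring
  obtain ⟨r, hr⟩ := exists_siegel hB P.hv (P.mem_W.1 hbW).1
  refine ⟨r, siegel_mem_El hr, ?_⟩
  set M₁ := conjM M r with hM₁
  -- moving translations to the conjugate
  have hfix : ∀ c ∈ P.W, ∀ x ∈ P.W, ∀ g : Grp Q, IsSiegel c x g →
      ap g P.v = P.v ∧ ap g P.f = P.f ∧ ∀ z ∈ P.W, ap g z ∈ P.W := fun c hc x hx g hg =>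
    ⟨siegel_fix hg (P.mem_W.1 hc).1 (P.mem_W.1 hx).1,
      siegel_fix hg (P.mem_W.1 hc).2 (P.mem_W.1 hx).2, fun z hz => by
        rw [siegel_ap hg]
        exact P.W.sub_mem (P.W.sub_mem (P.W.add_mem hz (P.W.smul_mem _ hx)) (P.W.smul_mem _ hc))
          (P.W.smul_mem _ hc)⟩
  have hshift : ∀ (g : Grp Q) (z : ι → F), ap g P.v = P.v →
      Tr P M g (b + z - ap g b) → Tr P M₁ g z := by
    intro g z hgv ⟨s, hs, hsM⟩
    obtain ⟨s', hs'⟩ := exists_siegel hB P.hv (v := z) (by
      have := hs.2.1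
      rw [b_sub_right, b_add_right] at this
      rw [show B P.v (ap g b) = 0 by
        conv_lhs => rw [← hgv]
        rw [ap_b]; exact (P.mem_W.1 hbW).1, (P.mem_W.1 hbW).1] at this
      linear_combination this)
    refine ⟨s', hs', ?_⟩
    have h1 := siegel_conj hr g
    rw [hgv] at h1
    have h2 := siegel_sub hB P.hv (siegel_mul hr hs') h1
    rw [hM₁, mem_conjM, show r * (s' * g) * r⁻¹ = r * s' * (g * r * g⁻¹)⁻¹ * g by group,
      siegel_unique h2 hs]
    exact hsM
  have hC₁ : Compl P M₁ hB := by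
    refine ⟨fun x hx => hC.triv x ⟨hx.1, hx.2.1, fun k hk' => ?_⟩, fun g hg ⟨a, ha⟩ => ?_⟩
    · have h1 := hx.2.2 k hk'
      rw [hM₁, mem_conjM] at h1
      have h2 := siegel_mul hr hk'
      have h3 := siegel_mul hk' hr
      rw [add_comm] at h3
      rwa [siegel_unique h2 h3, mul_inv_cancel_right] at h1
    · obtain ⟨y, s, hs, hsM⟩ := hC.full g hg ⟨a, ha⟩
      obtain ⟨l, hl⟩ := exists_siegel hB P.hv (v := ap g b) (by
        have h := ap_b g P.v b
        rw [ha, b_smul_left, (P.mem_W.1 hbW).1] at h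
        exact (mul_eq_zero.1 h).resolve_left fun e => P.v_ne (ap_inj g (by rw [ha, e, zero_smul, ap_zero])))
      have h1 := siegel_conj hr g
      rw [ha] at h1
      have h2 := siegel_smul hl a h1
      have h3 := siegel_sub hB P.hv (siegel_mul hs h2) hr
      refine ⟨_, _, h3, ?_⟩
      rw [hM₁, mem_conjM]
      have hrs : r * (s * (g * r * g⁻¹) * r⁻¹) = s * (g * r * g⁻¹) := by
        have h4 := siegel_mul hr h3
        rw [add_sub_cancel] at h4
        exact siegel_unique h4 (siegel_mul hs h2)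
      rw [show r * (s * (g * r * g⁻¹) * r⁻¹ * g) * r⁻¹ =
        r * (s * (g * r * g⁻¹) * r⁻¹) * (g * r⁻¹) by group, hrs,
        show s * (g * r * g⁻¹) * (g * r⁻¹) = s * g by group]
      exact hsM
  -- the two radicals
  have hUe : ∀ x ∈ P.W, ∀ g, IsSiegel P₁.v x g → g ∈ M₁ := by
    intro x hx g hg
    obtain ⟨g1, -, -⟩ := hfix _ hP₁vW x hx g hg
    obtain ⟨s, hs, hsM⟩ := hshift g 0 g1 (by
      rw [add_zero]
      have hge : ap g P₁.v = P₁.v := siegel_fix hg (b_self_zero P₁.hv) hg.2.1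
      rw [hb, ap_add, ap_smul, hge]
      convert hbe x hx g hg using 1
      abel)
    rwa [siegel_unique hs (siegel_one P.hv), one_mul] at hsM
  have hUf : ∀ x ∈ P.W, ∀ g, IsSiegel P₁.f x g → Tr P M₁ g (b₂ - b - ap g (b₂ - b)) := by
    intro x hx g hg
    obtain ⟨g1, -, -⟩ := hfix _ hP₁f x hx g hg
    refine hshift g _ g1 ?_
    convert hbf x hx g hg using 1
    rw [ap_sub]; abel
  obtain ⟨w₂, hw₂def⟩ : ∃ w, w = b₂ - b := ⟨_, rfl⟩
  have hw₂ : w₂ ∈ P.W := hw₂def ▸ P.W.sub_mem hb₂ hbW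
  rw [← hw₂def] at hbf' hUf
  have hU1 : NondegOn Q (P.W ⊓ P₁.W) := inf_nondeg hB hP₁vW hP₁f
  -- the second one is pure as well
  have hpure : ∀ x' ∈ P.W ⊓ P₁.W, Q x' ≠ 0 → B w₂ x' = 0 := by
    intro x' hx' hq'
    obtain ⟨g', hg'⟩ := exists_siegel hB P₁.hf (v := x') (P₁.mem_W.1 hx'.2).2
    obtain ⟨t1, -, t3⟩ := hfix _ hP₁f x' hx'.1 g' hg'
    obtain ⟨sg, hsg, hsgM⟩ := hUf x' hx'.1 g' hg'
    have hval : w₂ - ap g' w₂ = B w₂ x' • P₁.f := by
      rw [siegel_ap hg', hbf']; module
    rw [hval] at hsg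
    obtain ⟨c, hc⟩ : ∃ c, c = ap g' P₁.v := ⟨_, rfl⟩
    have hcW : c ∈ P.W := hc ▸ t3 _ hP₁vW
    have hcq : Q c = 0 := by rw [hc, ap_q, P₁.hv]
    have hcf : B P₁.f c = 1 := by
      have hff : ap g' P₁.f = P₁.f := siegel_fix hg' (b_self_zero P₁.hf) hg'.2.1
      rw [hc]
      conv_lhs => rw [← hff]
      rw [ap_b, P₁.hfv]
    obtain ⟨l, hl⟩ : ∃ l, l = B P₁.v c := ⟨_, rfl⟩
    have hl0 : l ≠ 0 := by
      rw [hl, hc, siegel_ap hg', P₁.hvf]
      simp only [b_sub_right, b_add_right, b_smul_right, b_self_zero P₁.hv, (P₁.mem_W.1 hx'.2).1,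
        P₁.hvf]
      intro h
      exact hq' (by linear_combination -h)
    obtain ⟨x, hxdef⟩ : ∃ x, x = l⁻¹ • P₁.pW c := ⟨_, rfl⟩
    have hxW : x ∈ P.W ⊓ P₁.W := hxdef ▸ Submodule.smul_mem _ _
      ⟨P.W.sub_mem (P.W.sub_mem hcW (P.W.smul_mem _ hP₁vW)) (P.W.smul_mem _ hP₁f), P₁.pW_mem c⟩
    obtain ⟨g, hg⟩ := exists_siegel hB P₁.hv (v := x) (P₁.mem_W.1 hxW.2).1
    obtain ⟨u1, -, u3⟩ := hfix _ hP₁vW x hxW.1 g hg
    have hgM := hUe x hxW.1 g hg
    have hgc : ap g (l • P₁.f) = c := by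
      have e : c = P₁.pW c + B P₁.f c • P₁.v + B P₁.v c • P₁.f := by rw [HP.pW]; abel
      have hq2 : Q (P₁.pW c) + l = 0 := by
        have h1 : Q c = 0 := hcq
        rw [e, q_add, q_add, q_smul, q_smul, P₁.hv, P₁.hf, b_add_left, b_smul_left, b_smul_right,
          b_smul_right, b_comm (P₁.pW c) P₁.v, (P₁.mem_W.1 (P₁.pW_mem c)).1, b_smul_right,
          b_comm (P₁.pW c) P₁.f, (P₁.mem_W.1 (P₁.pW_mem c)).2, P₁.hvf, hcf, ← hl] at h1
        linear_combination h1
      rw [ap_smul, siegel_ap hg, b_comm P₁.f P₁.v, P₁.hvf, (P₁.mem_W.1 hxW.2).2, hxdef, q_smul]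
      conv_rhs => rw [e, hcf, ← hl]
      rw [show Q (P₁.pW c) = -l by linear_combination hq2]
      match_scalars <;> field_simp <;> ring
    have hd : B (B w₂ x' • P₁.f - ap g w₂) c = 0 := by
      refine fixed_orth (P := P) hB hk hk6 hcq (fun e0 => by rw [e0, b_zero_right] at hcf; exact zero_ne_one hcf)
        fun X hX H hH => ?_
      obtain ⟨h1, -, h3⟩ := hfix c hcW X hX H hH
      -- from the first radical
      have hH' := siegel_conj hH g'⁻¹
      rw [show ap g'⁻¹ c = P₁.v by rw [hc, ap_inv_ap], inv_inv] at hH'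
      have hXW' : ap g'⁻¹ X ∈ P.W := by
        refine P.mem_W.2 ⟨?_, ?_⟩
        · rw [← ap_b g', ap_ap_inv, t1]; exact (P.mem_W.1 hX).1
        · rw [← ap_b g', ap_ap_inv, (hfix _ hP₁f x' hx'.1 g' hg').2.1]; exact (P.mem_W.1 hX).2
      have hH'M := hUe _ hXW' _ hH'
      have c1 := siegel_conj hsg H
      rw [h1] at c1
      have htr1 : Tr P M₁ H (B w₂ x' • P₁.f - ap H (B w₂ x' • P₁.f)) := by
        refine ⟨_, siegel_sub hB P.hv hsg c1, ?_⟩
        have := mul_mem (mul_mem hsgM hH'M) (inv_mem hsgM)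
        rwa [show sg * g' * (g'⁻¹ * H * g') * (sg * g')⁻¹ = sg * (H * sg * H⁻¹)⁻¹ * H by group] at this
      -- from the second
      have hK := siegel_conj hH g⁻¹
      rw [show ap g⁻¹ c = l • P₁.f by rw [← hgc, ap_inv_ap], inv_inv] at hK
      have hXW'' : ap g⁻¹ X ∈ P.W := by
        refine P.mem_W.2 ⟨?_, ?_⟩
        · rw [← ap_b g, ap_ap_inv, u1]; exact (P.mem_W.1 hX).1
        · rw [← ap_b g, ap_ap_inv, (hfix _ hP₁vW x hxW.1 g hg).2.1]; exact (P.mem_W.1 hX).2
      obtain ⟨K, hKs⟩ := exists_siegel hB P₁.hf (v := ap g⁻¹ X) (by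
        have := hK.2.1
        rw [b_smul_left] at this
        exact (mul_eq_zero.1 this).resolve_left hl0)
      have hK' := siegel_smul hKs l hK
      obtain ⟨K', hK'e⟩ := hUf _ (P.W.smul_mem l hXW'') _ hK'
      obtain ⟨hK'1, hK'2⟩ := hK'e
      have c2 := siegel_conj hK'1 g
      rw [u1] at c2
      have htr2 : Tr P M₁ H (ap g w₂ - ap H (ap g w₂)) := by
        refine ⟨g * K' * g⁻¹, ?_, ?_⟩
        · rw [ap_sub, ← ap_mul g (g⁻¹ * H * g), show g * (g⁻¹ * H * g) = H * g by group, ap_mul] at c2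
          exact c2
        · have := mul_mem (mul_mem hgM hK'2) (inv_mem hgM)
          rwa [show g * (K' * (g⁻¹ * H * g)) * g⁻¹ = g * K' * g⁻¹ * H by group] at this
      have hu := hC₁.tr_unique
        (P.W.sub_mem (P.W.smul_mem _ hP₁f) (h3 _ (P.W.smul_mem _ hP₁f)))
        (P.W.sub_mem (u3 _ hw₂) (h3 _ (u3 _ hw₂))) htr1 htr2
      rw [ap_sub]
      linear_combination (norm := module) -hu
    have hgw : B (ap g w₂) c = 0 := by rw [← hgc, ap_b, b_smul_right, hbf', mul_zero]
    rwa [b_sub_left, hgw, sub_zero, b_smul_left, hcf, mul_one] at hd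
  have hw4 : ∀ x ∈ P.W ⊓ P₁.W, B w₂ x = 0 := by
    have hd4 : 3 ≤ Module.finrank F ↥(P.W ⊓ P₁.W) := by
      have h1 := Submodule.finrank_sup_add_finrank_inf_eq P.W P₁.W
      have h2 := Submodule.finrank_le (P.W ⊔ P₁.W)
      have h3 := P₁.finrank_W hB
      omega
    obtain ⟨w', hw'⟩ : ∃ w', w' = P₁.pW w₂ := ⟨_, rfl⟩
    have hw'U : w' ∈ P.W ⊓ P₁.W := hw' ▸
      ⟨P.W.sub_mem (P.W.sub_mem hw₂ (P.W.smul_mem _ hP₁vW)) (P.W.smul_mem _ hP₁f), P₁.pW_mem _⟩
    have hbb : ∀ x ∈ P.W ⊓ P₁.W, B w' x = B w₂ x := fun x hx => by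
      rw [hw', HP.pW, b_sub_left, b_sub_left, b_smul_left, b_smul_left, (P₁.mem_W.1 hx.2).1,
        (P₁.mem_W.1 hx.2).2, mul_zero, mul_zero, sub_zero, sub_zero]
    intro x hx
    rw [← hbb x hx]
    by_contra hne
    obtain ⟨u, hu, huq, hwu⟩ := exists_nonsingular_pairing hB hd4 hU1 hw'U
      fun e0 => hne (by rw [e0, b_zero_left])
    exact hwu (by rw [hbb u hu]; exact hpure u hu huq)
  have hUf' : ∀ x ∈ P.W, ∀ g, IsSiegel P₁.f x g → g ∈ M₁ := by
    intro x hx g hg
    obtain ⟨s, hs, hsM⟩ := hUf x hx g hg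
    have hz : w₂ - ap g w₂ = B w₂ x • P₁.f := by rw [siegel_ap hg, hbf']; module
    have hx0 : B w₂ x = 0 := by
      have e0 : x = P₁.pW x + B P₁.v x • P₁.f := by
        rw [HP.pW, hg.2.1, zero_smul, sub_zero]; abel
      rw [e0, b_add_right, b_smul_right, hbf', mul_zero, add_zero]
      exact hw4 _ ⟨P.W.sub_mem (P.W.sub_mem hx (P.W.smul_mem _ hP₁vW)) (P.W.smul_mem _ hP₁f), P₁.pW_mem x⟩
    rw [hz, hx0, zero_smul] at hs
    rwa [siegel_unique hs (siegel_one P.hv), one_mul] at hsM
  -- every radical of the complement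
  have hconjc : ∀ c ∈ P.W, ∀ x ∈ P.W, ∀ g ∈ M₁, IsSiegel c x g → ∀ d ∈ P.W,
      (∀ X ∈ P.W, ∀ h, IsSiegel d X h → h ∈ M₁) →
      ∀ X ∈ P.W, ∀ h, IsSiegel (ap g d) X h → h ∈ M₁ := by
    intro c hc x hx g hgM hg d hd hall X hX h hh
    obtain ⟨t1, t2, -⟩ := hfix c hc x hx g hg
    refine siegel_conj_mem hh hgM fun l hl => hall _ ?_ l (by rwa [ap_inv_ap] at hl)
    refine P.mem_W.2 ⟨?_, ?_⟩
    · rw [← ap_b g, ap_ap_inv, t1]; exact (P.mem_W.1 hX).1
    · rw [← ap_b g, ap_ap_inv, t2]; exact (P.mem_W.1 hX).2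
  have hsmul : ∀ d : ι → F, Q d = 0 → ∀ a : F, (∀ X ∈ P.W, ∀ h, IsSiegel d X h → h ∈ M₁) →
      ∀ X ∈ P.W, ∀ h, IsSiegel (a • d) X h → h ∈ M₁ := by
    intro d hdq a hall X hX h hh
    by_cases ha : a = 0
    · rw [ha, zero_smul] at hh
      rw [siegel_zero_eq_one hh]; exact one_mem _
    have hdX : B d X = 0 := by
      have := hh.2.1
      rw [b_smul_left] at this
      exact (mul_eq_zero.1 this).resolve_left ha
    obtain ⟨l, hl⟩ := exists_siegel hB hdq hdX
    exact hall _ (P.W.smul_mem a hX) h (siegel_smul hl a hh)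
  have hoff : ∀ (R : HP Q), R.v ∈ P.W → R.f ∈ P.W →
      (∀ X ∈ P.W, ∀ h, IsSiegel R.v X h → h ∈ M₁) → (∀ X ∈ P.W, ∀ h, IsSiegel R.f X h → h ∈ M₁) →
      ∀ c ∈ P.W, Q c = 0 → B R.v c ≠ 0 → ∀ X ∈ P.W, ∀ h, IsSiegel c X h → h ∈ M₁ := by
    intro R hRv hRf hallv hallf c hc hcq hne
    obtain ⟨l, hl⟩ : ∃ l, l = B R.v c := ⟨_, rfl⟩
    rw [← hl] at hne
    obtain ⟨x, hx⟩ : ∃ x, x = l⁻¹ • R.pW c := ⟨_, rfl⟩
    have hxW : x ∈ P.W := hx ▸ P.W.smul_mem _
      (P.W.sub_mem (P.W.sub_mem hc (P.W.smul_mem _ hRv)) (P.W.smul_mem _ hRf))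
    obtain ⟨hx1, hx2⟩ := R.mem_W.1 (hx ▸ R.W.smul_mem _ (R.pW_mem c) : x ∈ R.W)
    obtain ⟨g, hg⟩ := exists_siegel hB R.hv hx1
    have hgc : ap g (l • R.f) = c := by
      have e0 : c = R.pW c + B R.f c • R.v + B R.v c • R.f := by rw [HP.pW]; abel
      have hq2 : Q (R.pW c) + B R.f c * l = 0 := by
        have h1 : Q c = 0 := hcq
        rw [e0, q_add, q_add, q_smul, q_smul, R.hv, R.hf, b_add_left, b_smul_left, b_smul_right,
          b_smul_right, b_comm (R.pW c) R.v, (R.mem_W.1 (R.pW_mem c)).1, b_smul_right,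
          b_comm (R.pW c) R.f, (R.mem_W.1 (R.pW_mem c)).2, R.hvf, ← hl] at h1
        linear_combination h1
      rw [ap_smul, siegel_ap hg, b_comm R.f R.v, R.hvf, hx2, hx, q_smul]
      conv_rhs => rw [e0, ← hl]
      rw [show Q (R.pW c) = -(B R.f c * l) by linear_combination hq2]
      match_scalars <;> field_simp <;> ring
    intro X hX h hh
    rw [← hgc] at hh
    exact hconjc _ hRv x hxW g (hallv x hxW g hg) hg _ (P.W.smul_mem _ hRf) (hsmul _ R.hf l hallf) X hX h hh
  have hall : ∀ c ∈ P.W, Q c = 0 → c ≠ 0 → ∀ X ∈ P.W, ∀ h, IsSiegel c X h → h ∈ M₁ := by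
    intro c hc hcq hc0
    by_cases h1 : B P₁.v c = 0
    · by_cases h2 : B P₁.f c = 0
      · obtain ⟨x, hx, hcx⟩ : ∃ x ∈ P.W ⊓ P₁.W, B c x ≠ 0 := by
          by_contra hcon
          push Not at hcon
          exact hc0 (hU1 c ⟨hc, P₁.mem_W.2 ⟨h1, h2⟩⟩ hcon)
        obtain ⟨g, hg⟩ := exists_siegel hB P₁.hv (v := x) (P₁.mem_W.1 hx.2).1
        have hgM := hUe x hx.1 g hg
        obtain ⟨-, -, t3⟩ := hfix _ hP₁vW x hx.1 g hg
        have hne : B P₁.f (ap g c) ≠ 0 := by
          rw [siegel_ap hg, b_comm c P₁.v, h1]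
          simp only [zero_smul, add_zero, mul_zero, sub_zero, b_sub_right, b_smul_right, h2, P₁.hfv]
          intro e0
          exact hcx (by linear_combination -e0)
        have hgc := hoff P₂ hP₁f hP₁vW hUf' hUe (ap g c) (t3 c hc) (by rw [ap_q, hcq]) hne
        obtain ⟨g₂, hg₂⟩ := exists_siegel hB P₁.hv (v := -x) (by
          rw [← neg_one_smul F x, b_smul_right, (P₁.mem_W.1 hx.2).1, mul_zero])
        have hginv : g⁻¹ = g₂ := inv_eq_of_mul_eq_one_right (by
          have h5 := siegel_mul hg hg₂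
          rw [add_neg_cancel] at h5
          exact siegel_unique h5 (siegel_one P₁.hv))
        have h6 := hconjc _ hP₁vW (-x) (P.W.neg_mem hx.1) g₂
          (hginv ▸ inv_mem hgM) hg₂ (ap g c) (t3 c hc) hgc
        rwa [← hginv, ap_inv_ap] at h6
      · exact hoff P₂ hP₁f hP₁vW hUf' hUe c hc hcq h2
    · exact hoff P₁ hP₁vW hP₁f hUe hUf' c hc hcq h1
  refine ⟨hC₁.triv, fun g hg ⟨a, ha⟩ ⟨a', ha'⟩ => ?_⟩
  obtain ⟨z, hz, s, hs, hsM⟩ := hC₁.exists_tr hg ha
  have ha0 : a ≠ 0 := fun e0 => P.v_ne (ap_inj g (by rw [ha, e0, zero_smul, ap_zero]))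
  have ha'0 : a' ≠ 0 := fun e0 => by
    have h := ap_b g P.v P.f
    rw [ha, ha', e0, zero_smul, b_zero_right, P.hvf] at h
    exact zero_ne_one h
  have hz0 : z = 0 := P.nondeg hB z hz fun u hu => by
    -- fixed by every radical of the complement
    have hfixd : ∀ c ∈ P.W, Q c = 0 → c ≠ 0 → B z c = 0 := by
      intro c hc hcq hc0
      refine fixed_orth (P := P) hB hk hk6 hcq hc0 fun X hX H hH => ?_
      obtain ⟨h1, -, h3⟩ := hfix c hc X hX H hH
      have hH' := siegel_conj hH g⁻¹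
      rw [inv_inv] at hH'
      have hback : ∀ u ∈ P.W, ap g⁻¹ u ∈ P.W := fun u hu => by
        refine P.mem_W.2 ⟨?_, ?_⟩
        · have h := ap_b g P.v (ap g⁻¹ u)
          rw [ha, ap_ap_inv, b_smul_left, (P.mem_W.1 hu).1, mul_zero] at h
          exact h.symm
        · have h := ap_b g P.f (ap g⁻¹ u)
          rw [ha', ap_ap_inv, b_smul_left, (P.mem_W.1 hu).2, mul_zero] at h
          exact h.symm
      have hH'M := hall _ (hback c hc) (by rw [ap_q, hcq])
        (fun e0 => hc0 (ap_inj g⁻¹ (by rw [e0, ap_zero]))) _ (hback X hX) _ hH'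
      have hHM := hall c hc hcq hc0 X hX H hH
      have c1 := siegel_conj hs H
      rw [h1] at c1
      have h5 := siegel_sub hB P.hv hs c1
      have hm : s * (H * s * H⁻¹)⁻¹ ∈ M₁ := by
        have := mul_mem (mul_mem (mul_mem hsM hH'M) (inv_mem hsM)) (inv_mem hHM)
        rwa [show s * g * (g⁻¹ * H * g) * (s * g)⁻¹ * H⁻¹ = s * (H * s * H⁻¹)⁻¹ by group] at this
      exact (sub_eq_zero.1 (hC₁.triv _ ⟨P.W.sub_mem hz (h3 z hz), h5.2.1,
        fun k hk' => by rwa [siegel_unique hk' h5]⟩)).symm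
    obtain ⟨f', hf', hf'q, hef⟩ := exists_partner_in hB (P.nondeg hB) (P := ⊥) bot_le
      ⟨heW, fun p hp => by rw [(Submodule.mem_bot F).1 hp]; exact b_zero_left e⟩
      (fun h => he0 ((Submodule.mem_bot F).1 h)) heq
    have hsp := le_span_singular_in heW hf'.1 heq hf'q hef hu
    clear hu
    induction hsp using Submodule.span_induction with
    | mem w hw =>
        by_cases hw0 : w = 0
        · rw [hw0, b_zero_right]
        · exact hfixd w hw.1 hw.2 hw0
    | zero => exact b_zero_right _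
    | add u v _ _ hu hv => rw [b_add_right, hu, hv, add_zero]
    | smul a u _ hu => rw [b_smul_right, hu, mul_zero]
  rw [hz0] at hs
  rwa [siegel_unique hs (siegel_one P.hv), one_mul] at hsM

end CfsgLib.MinIndexOrth
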