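import Cfsg.Agent.Lib.MinIndexOrth.Local

/-!
From a point whose radical is not inside the subgroup: the target bound, a complement, or in dimension
eight a point with parameters of the critical size.
-/

set_option autoImplicit false
set_option linter.unusedSectionVars false

namespace CfsgLib.MinIndexOrth

open CfsgLib.Orth

variable {F : Type*} [Field F] [Finite F] {ι : Type} [Fintype ι] [DecidableEq ι]
variable {Q : QuadraticForm F (ι → F)}

local notation "B" => QuadraticMap.polar (DFunLike.coe Q)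
local notation "q" => Nat.card F

/-- Below this the annihilator is small. -/
def cutR (Fq k : ℕ) : ℕ := if k = 5 then Fq ^ 2 / 3 else if k = 6 then Fq ^ 2 else Fq ^ (k - 4) / 2

/-- The parameters are at most this many if the annihilator is not small. -/
def cutA (Fq k : ℕ) : ℕ := if k = 5 then Fq ^ 3 else if k = 6 then Fq ^ 4 / 2 else 2 * Fq ^ 4 - 1

/-- The parameters counted as few. -/
def cutX (Fq k : ℕ) : ℕ := if k = 6 ∨ (Fq = 2 ∧ k = 8) then Fq ^ (k / 2) / 2 else Fq ^ (k / 2)

/-- The arithmetic used at a point. -/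
structure Num (Fq k T : ℕ) : Prop where
  twice : T ≤ 2 * Fq ^ k
  dual : T * ((cutR Fq k - 1) * (cutR Fq k - 2)) ≤ cutR Fq k * C2 Fq k
  line : T * (Fq * Fq) ≤ Fq ^ k * L1 Fq k
  small : T * (cutX Fq k * ((cutX Fq k - 1) * (cutX Fq k - 2))) ≤ Fq ^ k * C2 Fq k
  space : if k = 5 then cutA Fq k - 1 < 2 * L2 Fq k else cutA Fq k - 1 < L2 Fq k

theorem Num.L2_pos {Fq k T : ℕ} (h : Num Fq k T) : 0 < L2 Fq k := by
  have := h.space
  split_ifs at this <;> omega

theorem dual_mono {T R r C : ℕ} (hr : 3 ≤ r) (hrR : r ≤ R) (h : T * ((R - 1) * (R - 2)) ≤ R * C) :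
    T * ((r - 1) * (r - 2)) ≤ r * C := by
  obtain ⟨a, rfl⟩ : ∃ a, r = a + 3 := ⟨r - 3, by omega⟩
  obtain ⟨b, rfl⟩ : ∃ b, R = a + 3 + b := ⟨R - (a + 3), by omega⟩
  have e1 : a + 3 + b - 1 = a + b + 2 := by omega
  have e2 : a + 3 + b - 2 = a + b + 1 := by omega
  rw [e1, e2] at h
  rw [show a + 3 - 1 = a + 2 by omega, show a + 3 - 2 = a + 1 by omega]
  refine Nat.le_of_mul_le_mul_left ?_ (show 0 < a + 3 + b by omega)
  have key : (a + 3 + b) * ((a + 2) * (a + 1)) ≤ (a + 3) * ((a + b + 2) * (a + b + 1)) := by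
    nlinarith [Nat.zero_le (a * b), Nat.zero_le (a * a * b), Nat.zero_le (a * b * b), Nat.zero_le (b * b)]
  calc (a + 3 + b) * (T * ((a + 2) * (a + 1))) = T * ((a + 3 + b) * ((a + 2) * (a + 1))) := by ring
    _ ≤ T * ((a + 3) * ((a + b + 2) * (a + b + 1))) := Nat.mul_le_mul_left _ key
    _ = (a + 3) * (T * ((a + b + 2) * (a + b + 1))) := by ring
    _ ≤ (a + 3) * ((a + 3 + b) * C) := Nat.mul_le_mul_left _ h
    _ = _ := by ring

theorem three_le_card (hB : Nondeg Q) (P : HP Q) (h5 : Module.finrank F P.W = 5) : 3 ≤ q := by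
  have h2 := two_ne_zero_of_five hB (P.nondeg hB) h5
  cases nonempty_fintype F
  have := FiniteField.odd_card_of_char_ne_two (F := F) fun h => h2 (by
    have := CharP.cast_eq_zero F (ringChar F)
    rwa [h, Nat.cast_ofNat] at this)
  have := two_le_card (F := F)
  rw [Nat.card_eq_fintype_card] at *
  omega

theorem cut_le (hB : Nondeg Q) (P : HP Q) {k : ℕ} (hk : Module.finrank F P.W = k) {n r α : ℕ}
    (hr : r ∣ q ^ n) (hR : cutR q k < r) (hrα : r * α ≤ q ^ k) : α ≤ cutA q k := by
  have hq := two_le_card (F := F)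
  cases nonempty_fintype F
  obtain ⟨p, _, a, hp, hpa⟩ := FiniteField.card' F
  have hpa' : q = p ^ (a : ℕ) := by rw [Nat.card_eq_fintype_card, hpa]
  obtain ⟨i, -, rfl⟩ := (Nat.dvd_prime_pow hp).1 (show r ∣ p ^ ((a : ℕ) * n) by rwa [pow_mul, ← hpa'])
  unfold cutR at hR
  unfold cutA
  split_ifs at hR ⊢ with h5 h6
  · subst h5
    have h2 := two_ne_zero_of_five hB (P.nondeg hB) hk
    have hp3 : 3 ≤ p := by
      by_contra h
      obtain rfl : p = 2 := by have := hp.two_le; omega
      exact h2 (by exact_mod_cast CharP.cast_eq_zero F 2)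
    have hi : 2 * (a : ℕ) ≤ i := by
      by_contra h
      have h1 : p ^ i * p ≤ q ^ 2 := by
        rw [← pow_succ, hpa', ← pow_mul]
        exact Nat.pow_le_pow_right hp.pos (by omega)
      have h3 : p ^ i * 3 ≤ q ^ 2 := (Nat.mul_le_mul_left _ hp3).trans h1
      exact absurd hR (Nat.not_lt.2 ((Nat.le_div_iff_mul_le (by norm_num)).2 h3))
    have h1 : q ^ 2 ≤ p ^ i := by
      rw [hpa', ← pow_mul]; exact Nat.pow_le_pow_right hp.pos (by omega)
    refine Nat.le_of_mul_le_mul_left ?_ (show 0 < q ^ 2 from pow_pos (by omega) _)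
    exact ((Nat.mul_le_mul_right _ h1).trans hrα).trans (le_of_eq (by ring))
  · subst h6
    have hi : 2 * (a : ℕ) < i := by
      by_contra h
      refine absurd hR (Nat.not_lt.2 ?_)
      rw [hpa', ← pow_mul]
      exact Nat.pow_le_pow_right hp.pos (by omega)
    have h1 : q ^ 2 * 2 ≤ p ^ i := by
      refine le_trans (Nat.mul_le_mul_left _ hp.two_le) ?_
      rw [hpa', ← pow_mul, ← pow_succ]
      exact Nat.pow_le_pow_right hp.pos (by omega)
    rw [Nat.le_div_iff_mul_le (by norm_num)]
    refine Nat.le_of_mul_le_mul_left ?_ (show 0 < q ^ 2 from pow_pos (by omega) _)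
    calc q ^ 2 * (α * 2) = q ^ 2 * 2 * α := by ring
      _ ≤ p ^ i * α := Nat.mul_le_mul_right _ h1
      _ ≤ q ^ 6 := hrα
      _ = _ := by ring
  · have h1 : q ^ (k - 4) < 2 * p ^ i := by
      have := Nat.lt_mul_div_succ (q ^ (k - 4)) (show 0 < 2 by norm_num)
      omega
    have h4 : 1 ≤ q ^ 4 := Nat.one_le_pow _ _ (by omega)
    rcases Nat.eq_zero_or_pos α with rfl | hα
    · omega
    suffices α < 2 * q ^ 4 by omega
    refine Nat.lt_of_mul_lt_mul_left (a := q ^ (k - 4)) ?_
    calc q ^ (k - 4) * α < 2 * p ^ i * α := Nat.mul_lt_mul_of_pos_right h1 hα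
      _ ≤ 2 * q ^ k := by rw [mul_assoc]; exact Nat.mul_le_mul_left _ hrα
      _ ≤ q ^ (k - 4) * (2 * q ^ 4) := by
        rw [mul_left_comm]
        exact Nat.mul_le_mul_left _ (by
          rw [← pow_add]; exact Nat.pow_le_pow_right (by omega) (by omega))

variable (M : Subgroup (Grp Q)) (hB : Nondeg Q) {k T : ℕ}

/-- A point with few parameters. -/
theorem few_cases (P : HP Q) (hk : Module.finrank F (ι → F) = k + 2) (hk5 : 5 ≤ k)
    (hN : Num q k T) (hα : Nat.card (P.A M hB) ≤ q ^ (k / 2)) :
    T ≤ M.relIndex (El Q) ∨ Compl P M hB ∨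
      ((k = 6 ∨ (q = 2 ∧ k = 8)) ∧ Nat.card (P.A M hB) = q ^ (k / 2)) := by
  classical
  set α := Nat.card (P.A M hB) with hαdef
  by_cases h0 : ∀ x ∈ P.A M hB, x = 0
  · rcases P.compl_or M hB hk h0 with h | h
    · exact Or.inr (Or.inl h)
    · exact Or.inl (hN.twice.trans h)
  push Not at h0
  obtain ⟨x, hx, hx0⟩ := h0
  have hα2 : 2 ≤ α := by
    by_contra h
    have hpos : 0 < α := Nat.card_pos
    exact hx0 (card_eq_one_iff.1 (show α = 1 by omega) x hx)
  have hS := P.stable_A M hB
  by_cases hline : ∀ y ∈ P.A M hB, y ∈ Submodule.span F {x}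
  · have hαq : α ≤ q := by
      refine (Nat.card_le_card_of_injective (fun y : P.A M hB =>
        (⟨(y : ι → F), hline y y.2⟩ : Submodule.span F {x})) fun a b e => ?_).trans (le_of_eq ?_)
      · exact Subtype.ext (congrArg (fun z : Submodule.span F {x} => (z : ι → F)) e)
      · rw [card_subspace, finrank_span_singleton hx0, pow_one]
    refine Or.inl (Nat.le_of_mul_le_mul_right ?_ (show 0 < α * (α - 1) from Nat.mul_pos (by omega) (by omega)))
    calc T * (α * (α - 1)) ≤ T * (q * q) := Nat.mul_le_mul_left _ (Nat.mul_le_mul hαq (by omega))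
      _ ≤ q ^ k * L1 q k := hN.line
      _ ≤ _ := hS.single hk hk5 hx hx0
  push Not at hline
  obtain ⟨y, hy, hyx⟩ := hline
  have hα3 : 3 ≤ α := by
    by_contra h
    have h2 : α = 2 := by omega
    obtain ⟨a, b, -, hab⟩ := Nat.card_eq_two_iff.1 (hαdef ▸ h2)
    have h1 : ∀ z : P.A M hB, z = a ∨ z = b := fun z => by
      have := hab.symm ▸ Set.mem_univ z
      simpa using this
    have hy0 : y ≠ 0 := fun e => hyx (e ▸ Submodule.zero_mem _)
    have hyx' : y ≠ x := fun e => hyx (e ▸ Submodule.mem_span_singleton_self _)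
    rcases h1 ⟨x, hx⟩ with e1 | e1 <;> rcases h1 ⟨y, hy⟩ with e2 | e2 <;>
      rcases h1 (0 : P.A M hB) with e3 | e3
    all_goals first
      | exact hyx' (congrArg Subtype.val (e2.trans e1.symm))
      | exact hx0 (congrArg Subtype.val (e1.trans e3.symm))
      | exact hy0 (congrArg Subtype.val (e2.trans e3.symm))
  by_cases hX : α ≤ cutX q k
  · refine Or.inl (Nat.le_of_mul_le_mul_right ?_
      (show 0 < α * ((α - 1) * (α - 2)) from Nat.mul_pos (by omega) (Nat.mul_pos (by omega) (by omega))))
    calc T * (α * ((α - 1) * (α - 2)))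
        ≤ T * (cutX q k * ((cutX q k - 1) * (cutX q k - 2))) :=
          Nat.mul_le_mul_left _ (Nat.mul_le_mul hX (Nat.mul_le_mul (by omega) (by omega)))
      _ ≤ q ^ k * C2 q k := hN.small
      _ ≤ _ := hS.pair hk hk5 hx hy hx0 hyx
  · unfold cutX at hX
    split_ifs at hX with h6
    · refine Or.inr (Or.inr ⟨h6, ?_⟩)
      cases nonempty_fintype F
      obtain ⟨p, _, a, hp, hpa⟩ := FiniteField.card' F
      have hpa' : q = p ^ (a : ℕ) := by rw [Nat.card_eq_fintype_card, hpa]
      have hdvd : α ∣ q ^ Module.finrank F (ι → F) := by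
        rw [hαdef, ← Module.natCard_eq_pow_finrank (K := F) (V := ι → F)]
        exact (P.A M hB).card_addSubgroup_dvd_card
      obtain ⟨i, -, hi⟩ := (Nat.dvd_prime_pow hp).1
        (show α ∣ p ^ ((a : ℕ) * Module.finrank F (ι → F)) by rwa [pow_mul, ← hpa'])
      refine le_antisymm hα ?_
      rw [hi, hpa', ← pow_mul]
      refine Nat.pow_le_pow_right hp.pos (Nat.le_of_not_lt fun hlt => hX ?_)
      rw [Nat.le_div_iff_mul_le (by norm_num), hi, hpa', ← pow_mul]
      refine (Nat.mul_le_mul_left _ hp.two_le).trans ?_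
      rw [← pow_succ]
      exact Nat.pow_le_pow_right hp.pos (by omega)
    · exact absurd hα hX

/-- From a point whose radical is outside the subgroup. -/
theorem point_cases (P : HP Q) (hk : Module.finrank F (ι → F) = k + 2) (hk5 : 5 ≤ k)
    (hN : Num q k T) (hne : ∃ x ∈ P.W, x ∉ P.A M hB) :
    T ≤ M.relIndex (El Q) ∨ ∃ P' : HP Q, Nat.card (P'.A M hB) ≤ q ^ (k / 2) := by
  classical
  have hU : Module.finrank F P.W = k := by have := P.finrank_W hB; omega
  have hq := two_le_card (F := F)
  by_cases h0 : Nat.card (P.A M hB) ≤ q ^ (k / 2)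
  · exact Or.inr ⟨P, h0⟩
  obtain ⟨a₀, ha₀, ha₀0⟩ : ∃ a ∈ P.A M hB, a ≠ 0 := by
    by_contra hc
    push Not at hc
    exact h0 (by rw [card_eq_one_iff.2 hc]; exact Nat.one_le_pow _ _ (by omega))
  set D := perp (Q := Q) P.W (P.A M hB) with hD
  have hDle := card_perp_le (P.nondeg hB) (A := P.A M hB) fun a ha => ha.1
  rw [← hD, card_subspace, hU] at hDle
  obtain ⟨x₁, hx₁, hx₁A⟩ := hne
  obtain ⟨w, hw, hwne⟩ := exists_perp_ne (P.nondeg hB) (A := P.A M hB) (fun a ha => ha.1) hx₁ hx₁A
  have hw0 : w ≠ 0 := fun e => hwne (by rw [e, b_zero_left, AddChar.map_zero_eq_one])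
  have hDstable : Stable P M hB D :=
    ⟨fun _ h => h.1, fun g _ hgv himg x hx => P.lin_perp M hB hgv himg hx⟩
  by_cases hD1 : ∀ y ∈ D, y ∈ Submodule.span F {w}
  · -- a hyperplane of parameters
    obtain ⟨h1, -⟩ := le_card_second hB (P.nondeg hB) hU (by omega) hw.1 hw0 1 0
    obtain ⟨⟨z, hzW, hzsp, hwz, hzq⟩⟩ : Nonempty {y : ι → F //
        y ∈ P.W ∧ y ∉ Submodule.span F {w} ∧ B w y = 1 ∧ Q y = 0} :=
      (Nat.card_pos_iff.1 (hN.L2_pos.trans_le h1)).1
    obtain ⟨P', hP'v, hP'f⟩ := P.exists_at hB hzW hzq (fun e => hzsp (e ▸ Submodule.zero_mem _))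
    refine Or.inr ⟨P', (P.card_at_of_hyp M hB hw.1 (fun x hx hwx =>
      mem_of_perp_le (P.nondeg hB) (A := P.A M hB) (fun a ha => ha.1) hD1 hx hwx) ⟨x₁, hx₁, hx₁A⟩
      (by rw [hP'v]; exact hzW) hP'f (by rw [hP'v, hwz]; exact one_ne_zero)).trans
      (Nat.pow_le_pow_right (by omega) (by omega))⟩
  push Not at hD1
  obtain ⟨w', hw', hww'⟩ := hD1
  have hD3 : 3 ≤ Nat.card D := by
    let f : Fin 3 → D := ![0, ⟨w, hw⟩, ⟨w', hw'⟩]
    have hf : Function.Injective f := by
      intro i j e
      have e' : ((f i : D) : ι → F) = f j := congrArg Subtype.val e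
      have h2 : w' ≠ 0 := fun e => hww' (e ▸ Submodule.zero_mem _)
      have h3 : w' ≠ w := fun e => hww' (e ▸ Submodule.mem_span_singleton_self _)
      fin_cases i <;> fin_cases j
      all_goals first
        | rfl
        | exact absurd e' hw0
        | exact absurd e'.symm hw0
        | exact absurd e' h2
        | exact absurd e'.symm h2
        | exact absurd e' h3
        | exact absurd e'.symm h3
    have := Nat.card_le_card_of_injective f hf
    rwa [Nat.card_eq_fintype_card, Fintype.card_fin] at this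
  by_cases hR : Nat.card D ≤ cutR q k
  · refine Or.inl (Nat.le_of_mul_le_mul_right ?_ (show 0 < (Nat.card D - 1) * (Nat.card D - 2) from
      Nat.mul_pos (by omega) (by omega)))
    refine (dual_mono hD3 hR hN.dual).trans ?_
    refine Nat.le_of_mul_le_mul_left ?_ (show 0 < Nat.card (P.A M hB) from Nat.card_pos)
    calc Nat.card (P.A M hB) * (Nat.card D * C2 q k) = Nat.card D * Nat.card (P.A M hB) * C2 q k := by ring
      _ ≤ q ^ k * C2 q k := Nat.mul_le_mul_right _ hDle
      _ ≤ M.relIndex (El Q) * (Nat.card (P.A M hB) * ((Nat.card D - 1) * (Nat.card D - 2))) :=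
          hDstable.pair hk hk5 hw hw' hw0 hww'
      _ = _ := by ring
  · -- few parameters: a neighbour whose line avoids them
    have hdvd : Nat.card D ∣ q ^ Module.finrank F (ι → F) := by
      rw [← Module.natCard_eq_pow_finrank (K := F) (V := ι → F)]
      exact D.card_addSubgroup_dvd_card
    have hcut := cut_le hB P hU hdvd (by omega) hDle
    obtain ⟨h1, -⟩ := le_card_second hB (P.nondeg hB) hU (by omega) ha₀.1 ha₀0 1 0
    set Z := {y : ι → F // y ∈ P.W ∧ y ∉ Submodule.span F {a₀} ∧ B a₀ y = 1 ∧ Q y = 0} with hZ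
    by_cases hmiss : ∃ z : Z, ∀ s : F, s • (z : ι → F) ∈ P.A M hB → s = 0
    · obtain ⟨⟨z, hzW, hzsp, hwz, hzq⟩, hm⟩ := hmiss
      obtain ⟨P', hP'v, hP'f⟩ := P.exists_at hB hzW hzq (fun e => hzsp (e ▸ Submodule.zero_mem _))
      exact Or.inr ⟨P', P.card_at_of_miss M hB hk (by rw [hP'v]; exact hzW) hP'f ha₀
        (by rw [hP'v, hwz]; exact one_ne_zero) fun s hs => hm s (by rw [hP'v] at hs; exact hs)⟩
    · exfalso
      push Not at hmiss
      choose s hs hs0 using hmiss
      have hval : ∀ z : Z, B a₀ (s z • (z : ι → F)) = s z := fun z => by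
        rw [b_smul_right, z.2.2.2.1, mul_one]
      have hne0 : ∀ z : Z, s z • (z : ι → F) ≠ 0 := fun z e => hs0 z (by
        rw [← hval z, e, b_zero_right])
      have hinj : ∀ z z' : Z, s z • (z : ι → F) = s z' • (z' : ι → F) → z = z' := fun z z' e => by
        have e2 : s z = s z' := by rw [← hval z, e, hval z']
        rw [e2] at e
        exact Subtype.ext (smul_right_injective _ (hs0 z') e)
      have hsp := hN.space
      split_ifs at hsp with h5
      · have h2 := two_ne_zero_of_five hB (P.nondeg hB) (by omega)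
        have key : Nat.card (Option (Bool × Z)) ≤ Nat.card (P.A M hB) := by
          refine Nat.card_le_card_of_injective (fun o => o.elim (0 : P.A M hB) fun p =>
            if p.1 then ⟨_, hs p.2⟩ else -⟨_, hs p.2⟩) ?_
          have hnv : ∀ p : Bool × Z, (((if p.1 then (⟨_, hs p.2⟩ : P.A M hB) else -⟨_, hs p.2⟩) : P.A M hB) : ι → F) =
              ((if p.1 then 1 else -1 : F) * s p.2) • (p.2 : ι → F) := by
            rintro ⟨_ | _, z⟩
            · show -(s z • (z : ι → F)) = _
              rw [if_neg Bool.false_ne_true, neg_one_mul, neg_smul]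
            · show s z • (z : ι → F) = _
              rw [if_pos rfl, one_mul]
          rintro (_ | p) (_ | p') e
          · rfl
          · have e' := (congrArg Subtype.val e).trans (hnv p')
            have e0 : (0 : ι → F) = ((if p'.1 then 1 else -1 : F) * s p'.2) • (p'.2 : ι → F) := e'
            have := congrArg (B a₀) e0.symm
            rw [b_smul_right, p'.2.2.2.2.1, mul_one, b_zero_right] at this
            exact absurd this (mul_ne_zero (by split_ifs <;> simp) (hs0 _))
          · have e' := (hnv p).symm.trans (congrArg Subtype.val e)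
            have e0 : ((if p.1 then 1 else -1 : F) * s p.2) • (p.2 : ι → F) = (0 : ι → F) := e'
            have := congrArg (B a₀) e0
            rw [b_smul_right, p.2.2.2.2.1, mul_one, b_zero_right] at this
            exact absurd this (mul_ne_zero (by split_ifs <;> simp) (hs0 _))
          · have e' := (hnv p).symm.trans ((congrArg Subtype.val e).trans (hnv p'))
            have h7 := congrArg (B a₀) e'
            rw [b_smul_right, b_smul_right, p.2.2.2.2.1, p'.2.2.2.2.1, mul_one, mul_one] at h7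
            rw [h7] at e'
            have hne' : (if p'.1 then (1 : F) else -1) * s p'.2 ≠ 0 :=
              mul_ne_zero (by split_ifs <;> simp) (hs0 _)
            have hz : p.2 = p'.2 := Subtype.ext (smul_right_injective _ hne' e')
            rw [hz] at h7
            refine congrArg some (Prod.ext ?_ hz)
            have h8 := mul_right_cancel₀ (hs0 _) h7
            by_contra hb
            cases hp : p.1 <;> cases hp' : p'.1 <;> simp [hp, hp'] at h8 hb <;>
              first | exact h2 (by linear_combination h8) | exact h2 (by linear_combination -h8)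
        rw [Finite.card_option, Nat.card_prod,
          Nat.card_eq_two_iff.2 ⟨true, false, by simp, by ext b; cases b <;> simp⟩] at key
        have hL : L2 q k ≤ Nat.card Z := h1
        omega
      · have key : Nat.card (Option Z) ≤ Nat.card (P.A M hB) := by
          refine Nat.card_le_card_of_injective
            (fun o => o.elim (0 : P.A M hB) fun z => ⟨_, hs z⟩) ?_
          rintro (_ | z) (_ | z') e
          · rfl
          · exact absurd (congrArg Subtype.val e).symm (hne0 z')
          · exact absurd (congrArg Subtype.val e) (hne0 z)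
          · exact congrArg some (hinj _ _ (congrArg Subtype.val e))
        rw [Finite.card_option] at key
        have hL : L2 q k ≤ Nat.card Z := h1
        omega

end CfsgLib.MinIndexOrth
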