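import Cfsg.Agent.Lib.MinIndexOrth.Exact
import Cfsg.Agent.Lib.MinIndexOrth.Reach

/-!
Dimension eight: orbits of totally singular subspaces of the complement of a point.
-/

set_option autoImplicit false
set_option linter.unusedSectionVars false

namespace CfsgLib.MinIndexOrth

open CfsgLib.Orth

variable {F : Type*} [Field F] [Finite F] {ι : Type} [Fintype ι] [DecidableEq ι]
variable {Q : QuadraticForm F (ι → F)}

local notation "B" => QuadraticMap.polar (DFunLike.coe Q)
local notation "q" => Nat.card F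

/-- The subspaces of dimension three in a complement of dimension six. -/
def o3 (Fq : ℕ) : ℕ := (Fq + 1) * (Fq ^ 2 + 1)

theorem lev_le_nonzero (U : Submodule F (ι → F)) :
    lev Q U 0 ≤ Nat.card {y : ι → F // y ∈ U ∧ y ≠ 0 ∧ Q y = 0} + 1 := by
  classical
  rw [← Finite.card_option]
  refine Nat.card_le_card_of_injective (fun x : {x : U // Q (x : ι → F) = 0} =>
    if h : (x : ι → F) = 0 then none else some ⟨_, x.1.2, h, x.2⟩) fun a b e => ?_
  dsimp only at e
  split_ifs at e with ha hb hb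
  · exact Subtype.ext (Subtype.ext (ha.trans hb.symm))
  · have e' := Option.some_injective _ e
    exact Subtype.ext (Subtype.ext (congrArg
      (fun z : {y : ι → F // y ∈ U ∧ y ≠ 0 ∧ Q y = 0} => (z : ι → F)) e'))

/-- Singular vectors and orthogonal pairs of them in a six-space with a half subspace. -/
theorem plus_six (hB : Nondeg Q) {U : Submodule F (ι → F)} (hU : NondegOn Q U)
    (hd : Module.finrank F U = 6) (hH : HasHalf Q U 3) :
    (q ^ 3 - 1) * (q ^ 2 + 1) ≤ Nat.card {y : ι → F // y ∈ U ∧ y ≠ 0 ∧ Q y = 0} ∧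
      ∀ x ∈ U, x ≠ 0 → Q x = 0 → q * ((q + 1) * (q ^ 2 - 1)) ≤
        Nat.card {y : ι → F // y ∈ U ∧ y ∉ Submodule.span F {x} ∧ B x y = 0 ∧ Q y = 0} := by
  classical
  have hq := two_le_card (F := F)
  have e3 := lev_plus hB hU (h := 3) hd hH
  have h2 : 1 ≤ q ^ 2 := Nat.one_le_pow _ _ (by omega)
  have h3 : 1 ≤ q ^ 3 := Nat.one_le_pow _ _ (by omega)
  have hl3 : lev Q U 0 + q ^ 2 = q ^ 5 + q ^ 3 :=
    Nat.eq_of_mul_eq_mul_left (show 0 < q by omega) (by linear_combination e3)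
  refine ⟨?_, fun x hx hx0 hxq => ?_⟩
  · have h1 := lev_le_nonzero (Q := Q) U
    zify [h3]
    have : (lev Q U 0 : ℤ) + (q : ℤ) ^ 2 = (q : ℤ) ^ 5 + (q : ℤ) ^ 3 := by exact_mod_cast hl3
    nlinarith
  obtain ⟨U', hle, hU', hd', hperp, hlev⟩ := exists_split hB hU hx hx0 hxq
  have hd4 : Module.finrank F U' = 4 := by omega
  have e := hlev 0
  rw [hd4] at e
  have hl2 : (lev Q U' 0 : ℤ) = (q : ℤ) ^ 3 + (q : ℤ) ^ 2 - q := by
    have hc : (lev Q U 0 : ℤ) + (q : ℤ) ^ 2 = (q : ℤ) ^ 5 + (q : ℤ) ^ 3 := by exact_mod_cast hl3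
    refine mul_left_cancel₀ (show (q : ℤ) ≠ 0 by exact_mod_cast (show q ≠ 0 by omega)) ?_
    linear_combination hc - e
  have hxU' : x ∉ U' := fun h' => hx0 (hU' x h' hperp)
  have h4 : q * Nat.card {y : ι → F // y ∈ U' ∧ y ≠ 0 ∧ Q y = 0} ≤
      Nat.card {y : ι → F // y ∈ U ∧ y ∉ Submodule.span F {x} ∧ B x y = 0 ∧ Q y = 0} := by
    rw [← Nat.card_prod]
    refine Nat.card_le_card_of_injective
      (fun p : F × {y : ι → F // y ∈ U' ∧ y ≠ 0 ∧ Q y = 0} => ⟨(p.2 : ι → F) + p.1 • x,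
        U.add_mem (hle p.2.2.1) (U.smul_mem _ hx), fun hsp => ?_, ?_, ?_⟩) fun a b e => ?_
    · refine p.2.2.2.1 (hU' _ p.2.2.1 fun z hz => ?_)
      obtain ⟨c, hc⟩ := Submodule.mem_span_singleton.1
        ((Submodule.add_mem_iff_left _ (Submodule.smul_mem _ p.1 (Submodule.mem_span_singleton_self x))).1 hsp)
      rw [← hc, b_smul_left, hperp z hz, mul_zero]
    · rw [b_add_right, hperp _ p.2.2.1, b_smul_right, b_self_zero hxq, mul_zero, add_zero]
    · rw [q_add, p.2.2.2.2, q_smul, hxq, b_smul_right, b_comm, hperp _ p.2.2.1]; ring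
    · have e' : (a.2 : ι → F) + a.1 • x = (b.2 : ι → F) + b.1 • x := congrArg Subtype.val e
      have h5 : (a.1 - b.1) • x ∈ U' := by
        rw [show (a.1 - b.1) • x = (b.2 : ι → F) - a.2 by linear_combination (norm := module) e']
        exact U'.sub_mem b.2.2.1 a.2.2.1
      have h6 : a.1 = b.1 := by
        by_contra hne
        exact hxU' ((Submodule.smul_mem_iff _ (sub_ne_zero.2 hne)).1 h5)
      rw [h6] at e'
      exact Prod.ext h6 (Subtype.ext (add_right_cancel e'))
  refine le_trans ?_ h4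
  have h5 := lev_le_nonzero (Q := Q) U'
  refine Nat.mul_le_mul_left _ ?_
  zify [h2]
  nlinarith

variable (P : HP Q) {hB : Nondeg Q} {k : ℕ}

/-- Pairs with given values spread over the orbit of a set containing one of them. -/
theorem HP.pair_orbit (hB : Nondeg Q) (hk : Module.finrank F (ι → F) = k + 2) (hk6 : 6 ≤ k)
    {D : Set (ι → F)} (hD : ∀ x ∈ D, x ∈ P.W) {x y : ι → F} (hx : x ∈ D) (hy : y ∈ D) (hx0 : x ≠ 0)
    (hyx : y ∉ Submodule.span F {x}) :
    Nat.card (gram P.W Q x y) ≤ Nat.card (P.orbitSet D) *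
      Nat.card ↥(gram P.W Q x y ∩ {t | t 0 ∈ D ∧ t 1 ∈ D}) := by
  refine P.set_orbit hD _ (fun t ht i => ?_) (fun g hg hgv himg t ht => ?_) _ fun o ho => ?_
  · fin_cases i
    exacts [ht.1.1.1, ht.1.2.1]
  · obtain ⟨⟨⟨a1, a2, a3⟩, b1, b2, b3, b4⟩, c1, c2⟩ := ht
    refine ⟨⟨⟨P.lin_mem _ _, fun e => a2 ?_, (P.lin_q hgv a1).trans a3⟩, P.lin_mem _ _, fun hsp => b2 ?_,
      (P.lin_b hgv a1 b1).trans b3, (P.lin_q hgv b1).trans b4⟩, himg ▸ ⟨_, c1, rfl⟩,
      himg ▸ ⟨_, c2, rfl⟩⟩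
    · rw [← P.lin_inv hgv a1]
      show P.lin g⁻¹ (P.lin g (t 0)) = 0
      rw [show P.lin g (t 0) = 0 from e, HP.lin, ap_zero, HP.pW, b_zero_right, b_zero_right,
        zero_smul, zero_smul, sub_zero, sub_zero]
    · obtain ⟨c, hc⟩ := Submodule.mem_span_singleton.1 hsp
      refine Submodule.mem_span_singleton.2 ⟨c, ?_⟩
      have hc' : c • P.lin g (t 0) = P.lin g (t 1) := hc
      rw [← P.lin_inv hgv b1, ← hc',
        show P.lin g⁻¹ (c • P.lin g (t 0)) = c • P.lin g⁻¹ (P.lin g (t 0)) by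
          rw [HP.lin, ap_smul, P.pW_smul]; rfl]
      exact congrArg (c • ·) (P.lin_inv hgv a1).symm
  · obtain ⟨g, hg, a1, -, a3, a4⟩ := P.exists_move_two hB hk (by omega) (hD _ hx) (hD _ hy) ho.1.1
      ho.2.1 hx0 ho.1.2.1 hyx ho.2.2.1 ho.1.2.2.symm ho.2.2.2.2.symm ho.2.2.2.1.symm (Or.inl hk6)
    refine ⟨g, hg, a1, ![x, y], ⟨⟨⟨hD _ hx, hx0, rfl⟩, hD _ hy, hyx, rfl, rfl⟩, hx, hy⟩,
      funext fun i => ?_⟩
    fin_cases i
    · show o 0 = P.lin g x
      rw [HP.lin, a3, P.pW_of_mem ho.1.1]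
    · show o 1 = P.lin g y
      rw [HP.lin, a4, P.pW_of_mem ho.2.1]

/-- Pairs inside a set: the first among some vectors, the second among some others. -/
theorem card_pairs_le {T : Set (Fin 2 → ι → F)} {p : (ι → F) → Prop}
    {r : (ι → F) → (ι → F) → Prop} {a b : ℕ} (hp : ∀ t ∈ T, p (t 0) ∧ r (t 0) (t 1))
    (ha : Nat.card {x // p x} ≤ a) (hb : ∀ x, p x → Nat.card {y // r x y} ≤ b) :
    Nat.card T ≤ a * b := by
  classical
  cases nonempty_fintype F
  calc Nat.card T ≤ Nat.card ((x : {x // p x}) × {y // r x y}) :=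
        Nat.card_le_card_of_injective (fun t => ⟨⟨_, (hp t.1 t.2).1⟩, ⟨_, (hp t.1 t.2).2⟩⟩)
          fun s t e => Subtype.ext (funext fun i => by
            fin_cases i
            · exact congrArg (fun z => (z.1 : ι → F)) e
            · exact congrArg (fun z => (z.2 : ι → F)) e)
    _ = ∑ x : {x // p x}, Nat.card {y // r x y} := Nat.card_sigma
    _ ≤ ∑ _x : {x // p x}, b := Finset.sum_le_sum fun x _ => hb x x.2
    _ = Nat.card {x // p x} * b := by
        rw [Finset.sum_const, Finset.card_univ, smul_eq_mul, Nat.card_eq_fintype_card]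
    _ ≤ a * b := Nat.mul_le_mul_right _ ha

theorem card_mem_le (X : Submodule F (ι → F)) (x : ι → F) (hx : x ∈ X) :
    Nat.card {y : ι → F // y ∈ X ∧ y ∉ Submodule.span F {x}} + Nat.card (Submodule.span F {x}) ≤
      Nat.card X := by
  rw [← Nat.card_sum]
  refine Nat.card_le_card_of_injective (Sum.elim (fun y => (⟨y.1, y.2.1⟩ : X))
    fun y => ⟨y.1, (Submodule.span_singleton_le_iff_mem _ _).2 hx y.2⟩) ?_
  rintro (a | a) (b | b) e <;>
    have e' := congrArg (fun z : X => (z : ι → F)) e <;> simp only [Sum.elim_inl, Sum.elim_inr] at e'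
  · exact congrArg Sum.inl (Subtype.ext e')
  · exact absurd (e' ▸ b.2) a.2.2
  · exact absurd (e'.symm ▸ a.2) b.2.2
  · exact congrArg Sum.inr (Subtype.ext e')

/-- A totally singular subspace of the complement has at least `o3` images. -/
theorem HP.o3_le_orbit (hB : Nondeg Q) (hk : Module.finrank F (ι → F) = 6 + 2)
    (hH : HasHalf Q P.W 3) {X : Submodule F (ι → F)} (hX : X ≤ P.W) (hXq : ∀ x ∈ X, Q x = 0)
    (hX0 : X ≠ ⊥) : o3 q ≤ Nat.card (P.orbitSet (X : Set (ι → F))) := by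
  classical
  have hq := two_le_card (F := F)
  have hW : Module.finrank F P.W = 6 := by have := P.finrank_W hB; omega
  obtain ⟨c1, c2⟩ := plus_six hB (P.nondeg hB) hW hH
  have hd : Module.finrank F X ≤ 3 := by
    have hs : X ⊔ Submodule.span F {P.v} ≤ orth Q (X ⊔ Submodule.span F {P.v}) := by
      refine le_orth_of_singular fun w hw => ?_
      obtain ⟨a, ha, b, hb, rfl⟩ := Submodule.mem_sup.1 hw
      obtain ⟨s, rfl⟩ := Submodule.mem_span_singleton.1 hb
      rw [q_add, hXq a ha, q_smul, P.hv, b_smul_right, b_comm, (P.mem_W.1 (hX ha)).1]; ring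
    have h1 := two_mul_finrank_le hB hs
    have h2 : X ⊓ Submodule.span F {P.v} = ⊥ := (Submodule.eq_bot_iff _).2 fun x hx => by
      obtain ⟨s, rfl⟩ := Submodule.mem_span_singleton.1 hx.2
      have := (P.mem_W.1 (hX hx.1)).2
      rw [b_smul_right, P.hfv, mul_one] at this
      rw [this, zero_smul]
    have h3 := Submodule.finrank_sup_add_finrank_inf_eq X (Submodule.span F {P.v})
    rw [h2, finrank_bot, finrank_span_singleton P.v_ne] at h3
    omega
  have hcard : Nat.card X ≤ q ^ 3 := by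
    rw [card_subspace]; exact Nat.pow_le_pow_right (by omega) hd
  obtain ⟨x, hx, hx0⟩ := X.exists_mem_ne_zero_of_ne_bot hX0
  have h1 : 1 ≤ q := by omega
  have h2 : 1 ≤ q ^ 2 := Nat.one_le_pow _ _ (by omega)
  have h3 : 1 ≤ q ^ 3 := Nat.one_le_pow _ _ (by omega)
  by_cases hline : ∀ y ∈ X, y ∈ Submodule.span F {x}
  · set T : Set (Unit → ι → F) := {t | t () ∈ X ∧ t () ≠ 0}
    set O : Set (Unit → ι → F) := {t | t () ∈ P.W ∧ t () ≠ 0 ∧ Q (t ()) = 0}
    have e := P.set_orbit (D := (X : Set (ι → F))) (fun z hz => hX hz) T (fun t ht i => hX ht.1)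
      (fun g hg hgv himg t ht => ⟨show P.lin g (t ()) ∈ (X : Set (ι → F)) from
        himg ▸ ⟨_, ht.1, rfl⟩, fun e => ht.2 (by
        rw [← P.lin_inv hgv (hX ht.1)]
        show P.lin g⁻¹ (P.lin g (t ())) = 0
        rw [show P.lin g (t ()) = 0 from e, HP.lin, ap_zero, HP.pW, b_zero_right, b_zero_right,
          zero_smul, zero_smul, sub_zero, sub_zero])⟩) O (fun o ho => by
      obtain ⟨g, hg, g1, -, g3⟩ := P.exists_move_one hB hk (by omega) (hX hx) ho.1 hx0 ho.2.1
        ((hXq x hx).trans ho.2.2.symm)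
      exact ⟨g, hg, g1, fun _ => x, ⟨hx, hx0⟩, funext fun i => by
        show o i = P.lin g x
        rw [HP.lin, g3, P.pW_of_mem ho.1]⟩)
    have hO : (q ^ 3 - 1) * (q ^ 2 + 1) ≤ Nat.card O :=
      c1.trans (Nat.card_le_card_of_injective (fun y => (⟨fun _ => y.1, y.2⟩ : O))
        fun a b e => Subtype.ext (congrFun (congrArg Subtype.val e) ()))
    have hT : Nat.card T + 1 ≤ q := by
      rw [← Finite.card_option]
      calc _ ≤ Nat.card (Submodule.span F {x}) := by
            refine Nat.card_le_card_of_injective (fun o => o.elim (0 : Submodule.span F {x})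
              fun t => ⟨_, hline _ t.2.1⟩) ?_
            rintro (_ | a) (_ | b) e
            · rfl
            · exact absurd (congrArg Subtype.val e).symm b.2.2
            · exact absurd (congrArg Subtype.val e) a.2.2
            · exact congrArg some (Subtype.ext (funext fun i => congrArg Subtype.val e))
        _ = q := by rw [card_subspace, finrank_span_singleton hx0, pow_one]
    refine Nat.le_of_mul_le_mul_right ?_ (show 0 < q - 1 by omega)
    refine le_trans ?_ ((hO.trans e).trans (Nat.mul_le_mul_left _ (show Nat.card T ≤ q - 1 by omega)))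
    rw [o3]
    zify [h1, h3]
    nlinarith [mul_le_mul hq hq (Nat.zero_le _) (Nat.zero_le _)]
  push Not at hline
  obtain ⟨y, hy, hyx⟩ := hline
  have hgr : (q ^ 3 - 1) * (q ^ 2 + 1) * (q * ((q + 1) * (q ^ 2 - 1))) ≤
      Nat.card (gram P.W Q x y) :=
    card_pairs (fun a => a ∈ P.W ∧ a ≠ 0 ∧ Q a = Q x)
      (fun a b => b ∈ P.W ∧ b ∉ Submodule.span F {a} ∧ B a b = B x y ∧ Q b = Q y) _ _
      (by rw [hXq x hx]; exact c1) fun a ha => by
        rw [show B x y = 0 from le_orth_of_singular hXq hy x hx, hXq y hy]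
        exact c2 a ha.1 ha.2.1 (ha.2.2.trans (hXq x hx))
  have hT : Nat.card ↥(gram P.W Q x y ∩ {t | t 0 ∈ (X : Set (ι → F)) ∧ t 1 ∈ (X : Set (ι → F))}) ≤
      (q ^ 3 - 1) * (q ^ 3 - q) := by
    refine card_pairs_le (p := fun a => a ∈ X ∧ a ≠ 0)
      (r := fun a b => b ∈ X ∧ b ∉ Submodule.span F {a})
      (fun t ht => ⟨⟨ht.2.1, ht.1.1.2.1⟩, ht.2.2, ht.1.2.2.1⟩) ?_ fun a ha => ?_
    · have : Nat.card {a : ι → F // a ∈ X ∧ a ≠ 0} + 1 ≤ Nat.card X := by
        rw [← Finite.card_option]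
        refine Nat.card_le_card_of_injective (fun o => o.elim (0 : X) fun a => ⟨a.1, a.2.1⟩) ?_
        rintro (_ | a) (_ | b) e
        · rfl
        · exact absurd (congrArg Subtype.val e).symm b.2.2
        · exact absurd (congrArg Subtype.val e) a.2.2
        · exact congrArg some (Subtype.ext (show (a : ι → F) = b from
            congrArg (fun z : X => (z : ι → F)) e))
      omega
    · have := card_mem_le X a ha.1
      rw [card_subspace (Submodule.span F {a}), finrank_span_singleton ha.2, pow_one] at this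
      omega
  have e := hgr.trans ((P.pair_orbit hB hk le_rfl (D := (X : Set (ι → F))) (fun z hz => hX hz) hx hy
    hx0 hyx).trans (Nat.mul_le_mul_left _ hT))
  refine Nat.le_of_mul_le_mul_right ?_ (show 0 < (q ^ 3 - 1) * (q ^ 3 - q) from Nat.mul_pos
    (by nlinarith [show q ^ 3 - 1 + 1 = q ^ 3 by omega, Nat.pow_le_pow_left hq 3])
    (Nat.sub_pos_of_lt (by nlinarith [Nat.pow_le_pow_left hq 2])))
  refine le_trans (le_of_eq ?_) e
  have hq3 : q ≤ q ^ 3 := Nat.le_self_pow (by norm_num) _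
  rw [o3]
  zify [h2, h3, hq3]
  ring

end CfsgLib.MinIndexOrth
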