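import Cfsg.Agent.Lib.MinIndexOrth.Tool
import Cfsg.Agent.Lib.Classical.OrthFix

/-!
Elements of `Ω` fixing a hyperbolic pair that move given vectors of its orthogonal, and the torus of
the pair.
-/

set_option autoImplicit false
set_option linter.unusedSectionVars false

namespace CfsgLib.MinIndexOrth

open CfsgLib.Orth

variable {F : Type*} [Field F] [Finite F] {ι : Type} [Fintype ι] [DecidableEq ι]
variable {Q : QuadraticForm F (ι → F)}

local notation "B" => QuadraticMap.polar (DFunLike.coe Q)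
local notation "q" => Nat.card F

theorem mem_El_of_omega (hB : Nondeg Q) (hn : 5 ≤ Module.finrank F (ι → F)) {g : Grp Q}
    (h : g ∈ Cfsg.Omega F ⇑Q) : g ∈ El Q := by rwa [omega_eq_El hB hn] at h

theorem quot_sq (hB : Nondeg Q) (hn : 5 ≤ Module.finrank F (ι → F))
    (a : Grp Q ⧸ Cfsg.Omega F ⇑Q) : a * a = 1 := by
  induction a using QuotientGroup.induction_on with
  | H g => rw [← QuotientGroup.mk_mul, QuotientGroup.eq_one_iff]; exact sq_mem_omega hB hn g

theorem quot_comm (a b : Grp Q ⧸ Cfsg.Omega F ⇑Q) : a * b = b * a := by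
  induction a using QuotientGroup.induction_on with
  | H g => induction b using QuotientGroup.induction_on with
    | H h => exact mk_mul_comm g h

variable (P : HP Q)

/-- The torus of the pair. -/
theorem HP.exists_torus (hB : Nondeg Q) (hn : 5 ≤ Module.finrank F (ι → F)) {c : F} (hc : c ≠ 0) :
    ∃ g ∈ El Q, ap g P.v = (c * c) • P.v ∧ ap g P.f = (c * c)⁻¹ • P.f ∧
      ∀ x ∈ P.W, ap g x = x := by
  let L : (ι → F) →ₗ[F] (ι → F) :=
    { toFun := fun x => P.pW x + (c * B P.f x) • P.v + (c⁻¹ * B P.v x) • P.f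
      map_add' := fun x y => by simp only [P.pW_add, b_add_right]; module
      map_smul' := fun a x => by simp only [P.pW_smul, b_smul_right, RingHom.id_apply]; module }
  obtain ⟨g, hg⟩ := exists_iso hB L fun x => by
    have h1 := P.mem_W.1 (P.pW_mem x)
    have e : x = P.pW x + B P.f x • P.v + B P.v x • P.f := by rw [HP.pW]; abel
    conv_rhs => rw [e]
    show Q (P.pW x + (c * B P.f x) • P.v + (c⁻¹ * B P.v x) • P.f) = _
    rw [q_add, q_add, q_add (P.pW x + B P.f x • P.v), q_add (P.pW x)]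
    simp only [q_smul, P.hv, P.hf, b_add_left, b_smul_left, b_smul_right, P.hvf,
      b_comm (P.pW x) P.v, b_comm (P.pW x) P.f, h1.1, h1.2]
    field_simp
    ring
  have hv : ap g P.v = c • P.v := by
    rw [hg]
    show P.pW P.v + _ + _ = _
    rw [P.pW_v, P.hfv, b_self_zero P.hv, mul_one, mul_zero, zero_smul, zero_add, add_zero]
  have hf : ap g P.f = c⁻¹ • P.f := by
    rw [hg]
    show P.pW P.f + _ + _ = _
    have : P.pW P.f = 0 := by
      rw [HP.pW, b_self_zero P.hf, P.hvf, one_smul, zero_smul, sub_zero, sub_self]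
    rw [this, P.hvf, b_self_zero P.hf, mul_one, mul_zero, zero_smul, zero_add, zero_add]
  refine ⟨g * g, mem_El_of_omega hB hn (sq_mem_omega hB hn g), ?_, ?_, fun x hx => ?_⟩
  · rw [ap_mul, hv, ap_smul, hv, smul_smul]
  · rw [ap_mul, hf, ap_smul, hf, smul_smul, mul_inv]
  · have h1 : ap g x = x := by
      rw [hg]
      show P.pW x + _ + _ = _
      rw [(P.mem_W.1 hx).1, (P.mem_W.1 hx).2, mul_zero, mul_zero, zero_smul, zero_smul, add_zero,
        add_zero, P.pW_of_mem hx]
    rw [ap_mul, h1, h1]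

/-- The parametrisation of the span of the pair and some vectors of the complement. -/
def HP.frame {j : ℕ} (x : Fin j → ι → F) : (F × F × (Fin j → F)) →ₗ[F] (ι → F) where
  toFun c := c.1 • P.v + c.2.1 • P.f + ∑ i, c.2.2 i • x i
  map_add' a b := by
    simp only [Prod.fst_add, Prod.snd_add, Pi.add_apply, add_smul, Finset.sum_add_distrib]
    abel
  map_smul' a b := by
    simp only [Prod.smul_fst, Prod.smul_snd, Pi.smul_apply, smul_eq_mul, RingHom.id_apply, mul_smul,
      smul_add, Finset.smul_sum]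

theorem HP.frame_apply {j : ℕ} (x : Fin j → ι → F) (c : F × F × (Fin j → F)) :
    P.frame x c = c.1 • P.v + c.2.1 • P.f + ∑ i, c.2.2 i • x i := rfl

theorem HP.sum_mem {j : ℕ} {x : Fin j → ι → F} (hx : ∀ i, x i ∈ P.W) (c : Fin j → F) :
    ∑ i, c i • x i ∈ P.W := Submodule.sum_mem _ fun i _ => P.W.smul_mem _ (hx i)

theorem HP.frame_q {j : ℕ} {x : Fin j → ι → F} (hx : ∀ i, x i ∈ P.W) (c : F × F × (Fin j → F)) :
    Q (P.frame x c) = c.1 * c.2.1 + Q (∑ i, c.2.2 i • x i) := by
  have h1 := P.mem_W.1 (P.sum_mem hx c.2.2)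
  rw [P.frame_apply, q_add, q_add]
  simp only [q_smul, P.hv, P.hf, b_add_left, b_smul_left, b_smul_right, P.hvf, h1.1, h1.2]
  ring

theorem HP.frame_injective {j : ℕ} {x : Fin j → ι → F} (hx : ∀ i, x i ∈ P.W)
    (hi : LinearIndependent F x) : Function.Injective (P.frame x) := by
  refine (injective_iff_map_eq_zero _).2 fun c hc => ?_
  obtain ⟨a, b, d⟩ := c
  rw [P.frame_apply] at hc
  simp only at hc
  have h1 := P.mem_W.1 (P.sum_mem hx d)
  have e1 := congrArg (B P.v) hc
  have e2 := congrArg (B P.f) hc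
  rw [b_add_right, b_add_right, b_smul_right, b_smul_right, b_self_zero P.hv, P.hvf, h1.1,
    b_zero_right] at e1
  rw [b_add_right, b_add_right, b_smul_right, b_smul_right, b_self_zero P.hf, P.hfv, h1.2,
    b_zero_right] at e2
  have ha : a = 0 := by linear_combination e2
  have hb : b = 0 := by linear_combination e1
  rw [ha, hb, zero_smul, zero_smul, zero_add, zero_add] at hc
  have hd := Fintype.linearIndependent_iff.1 hi d hc
  rw [ha, hb, show d = 0 from funext hd]
  rfl

/-- An isometry with given values, in all of the orthogonal group. -/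
theorem HP.exists_witt (hB : Nondeg Q) {j : ℕ} {x y : Fin j → ι → F} (hx : ∀ i, x i ∈ P.W)
    (hy : ∀ i, y i ∈ P.W) (hxi : LinearIndependent F x) (hyi : LinearIndependent F y)
    (hq : ∀ c : Fin j → F, Q (∑ i, c i • y i) = Q (∑ i, c i • x i)) :
    ∃ g : Grp Q, ap g P.v = P.v ∧ ap g P.f = P.f ∧ ∀ i, ap g (x i) = y i := by
  classical
  let e := LinearEquiv.ofInjective (P.frame x) (P.frame_injective hx hxi)
  let e' := LinearEquiv.ofInjective (P.frame y) (P.frame_injective hy hyi)
  obtain ⟨g₀, hg₀, hgX⟩ := Classical.Witt.witt_quadratic Q (bilin_nondeg hB) _ _ (e.symm.trans e')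
    fun z => by
      obtain ⟨c, rfl⟩ := e.surjective z
      rw [LinearEquiv.trans_apply, LinearEquiv.symm_apply_apply]
      show Q (P.frame y c) = Q (P.frame x c)
      rw [P.frame_q hy, P.frame_q hx, hq]
  obtain ⟨g, hg⟩ := exists_iso hB g₀.toLinearMap hg₀
  have key : ∀ c, ap g (P.frame x c) = P.frame y c := fun c => by
    rw [hg]
    have := hgX (e c)
    rw [LinearEquiv.trans_apply, LinearEquiv.symm_apply_apply] at this
    exact this
  refine ⟨g, ?_, ?_, fun i => ?_⟩
  · have := key (1, 0, 0)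
    simpa [HP.frame_apply] using this
  · have := key (0, 1, 0)
    simpa [HP.frame_apply] using this
  · have := key (0, 0, Pi.single i 1)
    simpa [HP.frame_apply, Pi.single_apply] using this

/-- The part of the frame inside its orthogonal lies in the span of the vectors. -/
theorem HP.rad_le {j : ℕ} (x : Fin j → ι → F) (hx : ∀ i, x i ∈ P.W) :
    orth Q (LinearMap.range (P.frame x)) ⊓ LinearMap.range (P.frame x) ≤
      Submodule.span F (Set.range x) ⊓ orth Q (Submodule.span F (Set.range x)) := by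
  rintro z ⟨hz, c, rfl⟩
  have h1 := P.mem_W.1 (P.sum_mem hx c.2.2)
  have e1 := hz P.v ⟨(1, 0, 0), by simp [HP.frame_apply]⟩
  have e2 := hz P.f ⟨(0, 1, 0), by simp [HP.frame_apply]⟩
  change B P.v (P.frame x c) = 0 at e1
  change B P.f (P.frame x c) = 0 at e2
  rw [P.frame_apply, b_add_right, b_add_right, b_smul_right, b_smul_right, b_self_zero P.hv,
    P.hvf, h1.1] at e1
  rw [P.frame_apply, b_add_right, b_add_right, b_smul_right, b_smul_right, b_self_zero P.hf,
    P.hfv, h1.2] at e2
  have ha : c.1 = 0 := by linear_combination e2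
  have hb : c.2.1 = 0 := by linear_combination e1
  have hmem : P.frame x c ∈ Submodule.span F (Set.range x) := by
    rw [P.frame_apply, ha, hb, zero_smul, zero_smul, zero_add, zero_add]
    exact Submodule.sum_mem _ fun i _ => Submodule.smul_mem _ _ (Submodule.subset_span ⟨i, rfl⟩)
  refine ⟨hmem, mem_orth_span.2 ?_⟩
  rintro _ ⟨i, rfl⟩
  exact hz _ ⟨(0, 0, Pi.single i 1), by simp [HP.frame_apply, Pi.single_apply]⟩

/-- An element of `Ω` with given values, if the orthogonal of the vectors has room. -/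
theorem HP.exists_move_three (hB : Nondeg Q) {k : ℕ} (hk : Module.finrank F (ι → F) = k + 2) (hk3 : 3 ≤ k)
    {j : ℕ} {x y : Fin j → ι → F} (hx : ∀ i, x i ∈ P.W)
    (hy : ∀ i, y i ∈ P.W) (hxi : LinearIndependent F x) (hyi : LinearIndependent F y)
    (hq : ∀ c : Fin j → F, Q (∑ i, c i • y i) = Q (∑ i, c i • x i))
    (hroom : Module.finrank F ↥(Submodule.span F (Set.range x) ⊓
      orth Q (Submodule.span F (Set.range x))) + j + 2 ≤ k) :
    ∃ g ∈ El Q, ap g P.v = P.v ∧ ap g P.f = P.f ∧ ∀ i, ap g (x i) = y i := by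
  obtain ⟨g, hgv, hgf, hgx⟩ := P.exists_witt hB hx hy hxi hyi hq
  have hu : Univ Q (orth Q (LinearMap.range (P.frame x))) := by
    refine univ_of_dim ?_
    rw [orth_orth hB]
    have h1 := Submodule.finrank_mono (P.rad_le x hx)
    have h2 := finrank_orth hB (LinearMap.range (P.frame x))
    rw [LinearMap.finrank_range_of_inj (P.frame_injective hx hxi), Module.finrank_prod,
      Module.finrank_prod, Module.finrank_self, Module.finrank_fin_fun, hk] at h2
    omega
  obtain ⟨h, hf, hm⟩ := exists_adjust hB (by omega) hu g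
  have hfix : ∀ c, ap h (P.frame x c) = P.frame x c := fun c =>
    hf _ fun r hr => by rw [b_comm]; exact hr _ ⟨c, rfl⟩
  refine ⟨g * h, mem_El_of_omega hB (by omega) hm, ?_, ?_, fun i => ?_⟩
  · have := hfix (1, 0, 0)
    simp only [HP.frame_apply, one_smul, zero_smul, Pi.zero_apply, Finset.sum_const_zero,
      add_zero] at this
    rw [ap_mul, this, hgv]
  · have := hfix (0, 1, 0)
    simp only [HP.frame_apply, one_smul, zero_smul, Pi.zero_apply, Finset.sum_const_zero,
      add_zero, zero_add] at this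
    rw [ap_mul, this, hgf]
  · have := hfix (0, 0, Pi.single i 1)
    simp only [HP.frame_apply, zero_smul, zero_add] at this
    rw [Fintype.sum_eq_single i (fun l hl => by rw [Pi.single_eq_of_ne hl, zero_smul]),
      Pi.single_eq_same, one_smul] at this
    rw [ap_mul, this, hgx]

/-- An element of `Ω` with given values, in dimension seven or more. -/
theorem HP.exists_move (hB : Nondeg Q) {k : ℕ} (hk : Module.finrank F (ι → F) = k + 2) (hk5 : 5 ≤ k)
    {j : ℕ} {x y : Fin j → ι → F} (hx : ∀ i, x i ∈ P.W)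
    (hy : ∀ i, y i ∈ P.W) (hxi : LinearIndependent F x) (hyi : LinearIndependent F y)
    (hq : ∀ c : Fin j → F, Q (∑ i, c i • y i) = Q (∑ i, c i • x i))
    (hroom : Module.finrank F ↥(Submodule.span F (Set.range x) ⊓
      orth Q (Submodule.span F (Set.range x))) + j + 2 ≤ k) :
    ∃ g ∈ El Q, ap g P.v = P.v ∧ ap g P.f = P.f ∧ ∀ i, ap g (x i) = y i :=
  P.exists_move_three hB hk (by omega) hx hy hxi hyi hq hroom

theorem finrank_span_le {j : ℕ} (x : Fin j → ι → F) :
    Module.finrank F (Submodule.span F (Set.range x)) ≤ j :=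
  (finrank_range_le_card x).trans (by rw [Fintype.card_fin])

/-- Transitivity on non-zero vectors of the complement with a given value. -/
theorem HP.exists_move_one (hB : Nondeg Q) {k : ℕ} (hk : Module.finrank F (ι → F) = k + 2)
    (hk5 : 5 ≤ k) {x y : ι → F} (hx : x ∈ P.W) (hy : y ∈ P.W) (hx0 : x ≠ 0) (hy0 : y ≠ 0)
    (h : Q x = Q y) : ∃ g ∈ El Q, ap g P.v = P.v ∧ ap g P.f = P.f ∧ ap g x = y := by
  obtain ⟨g, hg, h1, h2, h3⟩ := P.exists_move hB hk hk5 (x := ![x]) (y := ![y])
    (by intro i; fin_cases i; exact hx) (by intro i; fin_cases i; exact hy)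
    (LinearIndependent.of_subsingleton 0 hx0) (LinearIndependent.of_subsingleton 0 hy0)
    (fun c => by simp [q_smul, h]) (by
      have h1 := Submodule.finrank_mono (inf_le_left : Submodule.span F (Set.range ![x]) ⊓
        orth Q (Submodule.span F (Set.range ![x])) ≤ _)
      have h2 := finrank_span_le (F := F) ![x]
      omega)
  exact ⟨g, hg, h1, h2, h3 0⟩

theorem pair_indep {x y : ι → F} (hx0 : x ≠ 0) (hyx : y ∉ Submodule.span F {x}) :
    LinearIndependent F ![x, y] :=
  (LinearIndependent.pair_iff' hx0).2 fun a e => hyx (Submodule.mem_span_singleton.2 ⟨a, e⟩)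

theorem pair_q {x y x' y' : ι → F} (hx : Q x = Q x') (hy : Q y = Q y') (hxy : B x y = B x' y')
    (c : Fin 2 → F) : Q (∑ i, c i • ![x', y'] i) = Q (∑ i, c i • ![x, y] i) := by
  simp only [Fin.sum_univ_two, Matrix.cons_val_zero, Matrix.cons_val_one, q_add, q_smul,
    b_smul_left, b_smul_right, hx, hy, hxy]

/-- Transitivity on pairs with given values, unless the dimension is five and they are singular
orthogonal vectors. -/
theorem HP.exists_move_two (hB : Nondeg Q) {k : ℕ} (hk : Module.finrank F (ι → F) = k + 2)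
    (hk5 : 5 ≤ k) {x y x' y' : ι → F} (hx : x ∈ P.W) (hy : y ∈ P.W) (hx' : x' ∈ P.W)
    (hy' : y' ∈ P.W) (hx0 : x ≠ 0) (hx'0 : x' ≠ 0) (hyx : y ∉ Submodule.span F {x})
    (hyx' : y' ∉ Submodule.span F {x'}) (h1 : Q x = Q x') (h2 : Q y = Q y') (h3 : B x y = B x' y')
    (hroom : 6 ≤ k ∨ B x x ≠ 0 ∨ B x y ≠ 0 ∨ B y y ≠ 0) :
    ∃ g ∈ El Q, ap g P.v = P.v ∧ ap g P.f = P.f ∧ ap g x = x' ∧ ap g y = y' := by
  obtain ⟨g, hg, g1, g2, g3⟩ := P.exists_move hB hk hk5 (x := ![x, y]) (y := ![x', y'])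
    (by intro i; fin_cases i; exacts [hx, hy]) (by intro i; fin_cases i; exacts [hx', hy'])
    (pair_indep hx0 hyx) (pair_indep hx'0 hyx') (pair_q h1 h2 h3) (by
      have hS := finrank_span_le (F := F) ![x, y]
      set S := Submodule.span F (Set.range ![x, y]) with hSdef
      have h4 := Submodule.finrank_mono (inf_le_left : S ⊓ orth Q S ≤ S)
      rcases hroom with h | h
      · omega
      · have hlt : S ⊓ orth Q S < S := lt_of_le_of_ne inf_le_left fun e => by
          have hxS : x ∈ S := Submodule.subset_span ⟨0, rfl⟩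
          have hyS : y ∈ S := Submodule.subset_span ⟨1, rfl⟩
          have ho : S ≤ orth Q S := inf_eq_left.1 e
          rcases h with h | h | h
          · exact h (ho hxS x hxS)
          · exact h (ho hyS x hxS)
          · exact h (ho hyS y hyS)
        have := Submodule.finrank_lt_finrank_of_lt hlt
        omega)
  exact ⟨g, hg, g1, g2, g3 0, g3 1⟩

/-- Orthogonal singular pairs in dimension five: two orbits at most, exchanged by a scalar. -/
theorem HP.exists_move_line (hB : Nondeg Q) {k : ℕ} (hk : Module.finrank F (ι → F) = k + 2)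
    (hk5 : k = 5) (h2 : (2 : F) ≠ 0) {ν : F} (hν : ¬ IsSquare ν) {x y x' y' : ι → F}
    (hx : x ∈ P.W) (hy : y ∈ P.W) (hx' : x' ∈ P.W)
    (hy' : y' ∈ P.W) (hx0 : x ≠ 0) (hx'0 : x' ≠ 0) (hyx : y ∉ Submodule.span F {x})
    (hyx' : y' ∉ Submodule.span F {x'}) (hqx : Q x = 0) (hqy : Q y = 0) (hxy : B x y = 0)
    (hqx' : Q x' = 0) (hqy' : Q y' = 0) (hxy' : B x' y' = 0) :
    ∃ g ∈ El Q, ap g P.v = P.v ∧ ap g P.f = P.f ∧ ap g y = y' ∧
      (ap g x = x' ∨ ap g x = ν⁻¹ • x') := by
  classical
  have hn : 5 ≤ Module.finrank F (ι → F) := by omega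
  obtain ⟨g, hgv, hgf, hgx⟩ := P.exists_witt hB (x := ![x, y]) (y := ![x', y'])
    (by intro i; fin_cases i; exacts [hx, hy]) (by intro i; fin_cases i; exacts [hx', hy'])
    (pair_indep hx0 hyx) (pair_indep hx'0 hyx') (pair_q (hqx.trans hqx'.symm) (hqy.trans hqy'.symm)
      (hxy.trans hxy'.symm))
  have hν0 : ν ≠ 0 := fun e => hν (e ▸ ⟨0, by rw [mul_zero]⟩)
  -- a partner of the first vector and an anisotropic vector orthogonal to everything
  have hW := P.nondeg hB
  obtain ⟨x₁, hx₁, hx₁q, hxx₁⟩ := exists_partner_in hB hW (P := Submodule.span F {y})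
    ((Submodule.span_singleton_le_iff_mem _ _).2 hy) (s := x) ⟨hx, fun p hp => by
      obtain ⟨t, rfl⟩ := Submodule.mem_span_singleton.1 hp
      show B (t • y) x = 0
      rw [b_smul_left, b_comm, hxy, mul_zero]⟩ (fun h => hyx (by
      obtain ⟨t, rfl⟩ := Submodule.mem_span_singleton.1 h
      have ht : t ≠ 0 := fun e => hx0 (by rw [e, zero_smul])
      exact Submodule.mem_span_singleton.2 ⟨t⁻¹, by rw [smul_smul, inv_mul_cancel₀ ht, one_smul]⟩)) hqx
  have hyx₁ : B y x₁ = 0 := hx₁.2 y (Submodule.mem_span_singleton_self y)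
  set X := LinearMap.range (P.frame ![x, y]) with hX
  obtain ⟨z, hz, hzq⟩ : ∃ z ∈ orth Q X, Q z ≠ 0 := by
    by_contra hc
    push Not at hc
    have h3 := two_mul_finrank_le hB (le_orth_of_singular hc)
    have h4 := finrank_orth hB X
    rw [hX, LinearMap.finrank_range_of_inj (P.frame_injective (by
      intro i; fin_cases i; exacts [hx, hy]) (pair_indep hx0 hyx)), Module.finrank_prod,
      Module.finrank_prod, Module.finrank_self, Module.finrank_fin_fun, hk] at h4
    rw [← hX] at h4
    -- the radical of the orthogonal is the span of the two vectors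
    have hle : orth Q X ≤ orth Q X ⊓ X := fun w hw =>
      ⟨hw, orth_orth hB X ▸ orth_le (le_refl _) (le_orth_of_singular hc hw)⟩
    have h5 := Submodule.finrank_mono ((hle.trans (P.rad_le _ (by
      intro i; fin_cases i; exacts [hx, hy]))).trans inf_le_left)
    have h6 := finrank_span_le (F := F) ![x, y]
    omega
  have hzfix : ∀ c, B z (P.frame ![x, y] c) = 0 := fun c => by rw [b_comm]; exact hz _ ⟨c, rfl⟩
  obtain ⟨rz, hrz⟩ := exists_refl hB hzq
  have hq1 : Q (x - x₁) = -1 := by rw [q_sub, hqx, hx₁q, hxx₁]; ring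
  have hq2 : Q (x - ν • x₁) = -ν := by
    rw [q_sub, q_smul, hqx, hx₁q, b_smul_right, hxx₁]; ring
  obtain ⟨r1, hr1⟩ := exists_refl hB (v := x - x₁) (by rw [hq1]; exact neg_ne_zero.2 one_ne_zero)
  obtain ⟨r2, hr2⟩ := exists_refl hB (v := x - ν • x₁) (by rw [hq2]; exact neg_ne_zero.2 hν0)
  have hp : ap (r2 * r1) x = ν⁻¹ • x ∧ ap (r2 * r1) P.v = P.v ∧ ap (r2 * r1) P.f = P.f ∧
      ap (r2 * r1) y = y := by
    refine ⟨?_, ?_, ?_, ?_⟩
    · rw [ap_mul, hr1.2, hq1, show B (x - x₁) x = -1 by
        rw [b_sub_left, b_self_zero hqx, b_comm x₁ x, hxx₁, zero_sub]]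
      rw [hr2.2, hq2]
      simp only [b_sub_left, b_sub_right, b_smul_left, b_smul_right, b_self_zero hqx,
        b_self_zero hx₁q, b_comm x₁ x, hxx₁]
      match_scalars
      · field_simp; ring
      · field_simp; ring
    all_goals
      rw [ap_mul, hr1.2, hr2.2]
      simp only [b_sub_left, b_sub_right, b_smul_left, b_smul_right, b_comm x P.v, b_comm x P.f,
        b_comm x₁ P.v, b_comm x₁ P.f, (P.mem_W.1 hx).1, (P.mem_W.1 hx).2, (P.mem_W.1 hx₁.1).1,
        (P.mem_W.1 hx₁.1).2, b_comm x₁ y, hyx₁, hxy]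
      module
  set G := Grp Q ⧸ Cfsg.Omega F ⇑Q
  set R : G := (rz : G) with hR
  set E : G := ((r2 * r1 : Grp Q) : G) with hE
  have hcl : ∀ (a : F) (v : ι → F) (r : Grp Q), IsRefl v r → Q v = a →
      ∃ i j : ℕ, (r : G) = R ^ i * E ^ j := by
    intro a v r hr hva
    by_cases hs : IsSquare (Q z * Q v)
    · exact ⟨1, 0, by rw [pow_one, pow_zero, mul_one]; exact (refl_coset hB hn hrz hr hs).symm⟩
    · refine ⟨1, 1, ?_⟩
      rw [pow_one, pow_one, hE, QuotientGroup.mk_mul]
      have hm : ∀ a b : F, a ≠ 0 → b ≠ 0 → (IsSquare (a * b) ↔ (IsSquare a ↔ IsSquare b)) :=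
        fun a b ha hb => (isSquare_mul_iff ha).trans (by simp [hb])
      by_cases h1 : IsSquare (Q z * Q (x - x₁))
      · rw [← refl_coset hB hn hrz hr1 h1, hR, quot_comm, mul_assoc, quot_sq hB hn, mul_one]
        refine (refl_coset hB hn hr2 hr ?_).symm
        rw [hq2, hm _ _ (neg_ne_zero.2 hν0) hr.1]
        rw [hm _ _ hzq hr.1] at hs
        rw [hq1, hm _ _ hzq (neg_ne_zero.2 one_ne_zero)] at h1
        rw [show -ν = -1 * ν by ring, hm _ _ (neg_ne_zero.2 one_ne_zero) hν0]
        tauto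
      · have h3 : IsSquare (Q z * Q (x - ν • x₁)) := by
          rw [hq1, hm _ _ hzq (neg_ne_zero.2 one_ne_zero)] at h1
          rw [hq2, hm _ _ hzq (neg_ne_zero.2 hν0), show -ν = -1 * ν by ring,
            hm _ _ (neg_ne_zero.2 one_ne_zero) hν0]
          tauto
        rw [← refl_coset hB hn hrz hr2 h3, hR, ← mul_assoc, quot_sq hB hn, one_mul]
        refine (refl_coset hB hn hr1 hr ?_).symm
        rw [hq1, hm _ _ (neg_ne_zero.2 one_ne_zero) hr.1]
        rw [hm _ _ hzq hr.1] at hs
        rw [hq1, hm _ _ hzq (neg_ne_zero.2 one_ne_zero)] at h1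
        tauto
  have hall : ∀ g : Grp Q, ∃ i j : ℕ, (g : G) = R ^ i * E ^ j := by
    intro g
    have hg : g ∈ Refl Q := by rw [refl_eq_top hB (by omega)]; trivial
    induction hg using Subgroup.closure_induction with
    | mem s hs => obtain ⟨v, hs⟩ := hs; exact hcl _ v s hs rfl
    | one => exact ⟨0, 0, by simp⟩
    | mul a b _ _ ha hb =>
        obtain ⟨i, j, ea⟩ := ha
        obtain ⟨i', j', eb⟩ := hb
        exact ⟨i + i', j + j', by
          rw [QuotientGroup.mk_mul, ea, eb, pow_add, pow_add, mul_assoc, ← mul_assoc (E ^ j),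
            quot_comm (E ^ j) (R ^ i')]
          group⟩
    | inv a _ ha =>
        obtain ⟨i, j, ea⟩ := ha
        exact ⟨i, j, by rw [QuotientGroup.mk_inv, inv_eq_of_mul_eq_one_right (quot_sq hB hn _), ea]⟩
  obtain ⟨i, j, hij⟩ := hall g
  have hfr : ∀ w, (B z w = 0) → ap (rz ^ i) w = w := fun w hw => by
    clear hij
    induction i with
    | zero => rw [pow_zero, ap_one]
    | succ t ih => rw [pow_succ, ap_mul, refl_fix hrz hw, ih]
  have hzv : B z P.v = 0 := by simpa [HP.frame_apply] using hzfix (1, 0, 0)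
  have hzf : B z P.f = 0 := by simpa [HP.frame_apply] using hzfix (0, 1, 0)
  have hzx : B z x = 0 := by simpa [HP.frame_apply] using hzfix (0, 0, ![1, 0])
  have hzy : B z y = 0 := by simpa [HP.frame_apply] using hzfix (0, 0, ![0, 1])
  have hj2 : E ^ j = E ^ (j % 2) := by
    conv_lhs => rw [← Nat.div_add_mod j 2, pow_add, pow_mul, sq, quot_sq hB hn, one_pow, one_mul]
  have hmem : g * (rz ^ i * (r2 * r1) ^ (j % 2)) ∈ El Q := by
    refine mem_El_of_omega hB hn ((QuotientGroup.eq_one_iff _).1 ?_)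
    rw [QuotientGroup.mk_mul, QuotientGroup.mk_mul, QuotientGroup.mk_pow, QuotientGroup.mk_pow, hij,
      hj2]
    exact quot_sq hB hn _
  have gx := hgx 0
  have gy := hgx 1
  simp only [Matrix.cons_val_zero, Matrix.cons_val_one] at gx gy
  refine ⟨_, hmem, ?_, ?_, ?_, ?_⟩
  all_goals
    rcases Nat.mod_two_eq_zero_or_one j with h | h <;>
      simp only [h, pow_zero, pow_one, mul_one, ap_mul g, ap_mul (rz ^ i), hp.1, hp.2.1, hp.2.2.1,
        hp.2.2.2, ap_smul, hfr _ hzv, hfr _ hzf, hfr _ hzx, hfr _ hzy, hgv, hgf, gx, gy]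
  · exact Or.inl trivial
  · exact Or.inr trivial

end CfsgLib.MinIndexOrth
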