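import Cfsg.Agent.Lib.MinIndexOrth.Levels
import Cfsg.Agent.Lib.MinIndexOrth.Moves
import Cfsg.Agent.Lib.Classical.Forms

/-!
Index bounds from vectors and pairs of vectors in a set attached to the parameters.
-/

set_option autoImplicit false
set_option linter.unusedSectionVars false

namespace CfsgLib.MinIndexOrth

open CfsgLib.Orth

variable {F : Type*} [Field F] [Finite F] {ι : Type} [Fintype ι] [DecidableEq ι]
variable {Q : QuadraticForm F (ι → F)}

local notation "B" => QuadraticMap.polar (DFunLike.coe Q)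
local notation "q" => Nat.card F

/-- A set of vectors of the complement carried along with the parameters. -/
structure Stable (P : HP Q) (M : Subgroup (Grp Q)) (hB : Nondeg Q) (S : AddSubgroup (ι → F)) : Prop where
  le : ∀ x ∈ S, x ∈ P.W
  inv : ∀ g ∈ El Q, ap g P.v = P.v → P.img M hB g = (P.A M hB : Set (ι → F)) →
    ∀ x ∈ S, P.lin g x ∈ S

theorem HP.stable_A (P : HP Q) (M : Subgroup (Grp Q)) (hB : Nondeg Q) :
    Stable P M hB (P.A M hB) :=
  ⟨fun _ h => h.1, fun g _ _ himg x hx => by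
    rw [← SetLike.mem_coe, ← himg]; exact ⟨x, hx, rfl⟩⟩

theorem card_pairs (p : (ι → F) → Prop) (r : (ι → F) → (ι → F) → Prop) (a b : ℕ)
    (ha : a ≤ Nat.card {x // p x}) (hb : ∀ x, p x → b ≤ Nat.card {y // r x y}) :
    a * b ≤ Nat.card {o : Fin 2 → ι → F | p (o 0) ∧ r (o 0) (o 1)} := by
  classical
  cases nonempty_fintype F
  have h : Nat.card ((x : {x // p x}) × {y // r x y}) ≤
      Nat.card {o : Fin 2 → ι → F | p (o 0) ∧ r (o 0) (o 1)} := by
    refine Nat.card_le_card_of_injective (fun s => ⟨![s.1.1, s.2.1], ?_⟩) fun s s' e => ?_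
    · exact ⟨s.1.2, s.2.2⟩
    · obtain ⟨⟨x, hx⟩, y, hy⟩ := s
      obtain ⟨⟨x', hx'⟩, y', hy'⟩ := s'
      have e1 : (![x, y] : Fin 2 → ι → F) = ![x', y'] := congrArg Subtype.val e
      obtain rfl : x = x' := congrFun e1 0
      obtain rfl : y = y' := congrFun e1 1
      rfl
  refine le_trans ?_ h
  rw [Nat.card_sigma]
  calc a * b ≤ Nat.card {x // p x} * b := Nat.mul_le_mul_right _ ha
    _ = ∑ _x : {x // p x}, b := by
        rw [Finset.sum_const, Finset.card_univ, smul_eq_mul, Nat.card_eq_fintype_card]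
    _ ≤ _ := Finset.sum_le_sum fun x _ => hb x x.2

variable {P : HP Q} {M : Subgroup (Grp Q)} {hB : Nondeg Q} {S : AddSubgroup (ι → F)}

/-- The index against one non-zero vector of a stable set. -/
theorem Stable.single (h : Stable P M hB S) {k : ℕ} (hk : Module.finrank F (ι → F) = k + 2)
    (hk5 : 5 ≤ k) {x : ι → F} (hx : x ∈ S) (hx0 : x ≠ 0) :
    q ^ k * L1 q k ≤ M.relIndex (El Q) * (Nat.card (P.A M hB) * (Nat.card S - 1)) := by
  classical
  set T : Set (Unit → ι → F) := {t | t () ∈ S ∧ t () ≠ 0 ∧ Q (t ()) = Q x} with hT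
  set O : Set (Unit → ι → F) := {t | t () ∈ P.W ∧ t () ≠ 0 ∧ Q (t ()) = Q x} with hO
  have h1 := P.index_tuple M hB T (fun t ht i => h.le _ ht.1) (fun g hg hgv himg t ht =>
    ⟨h.inv g hg hgv himg _ ht.1, fun e => ht.2.1 (by
      rw [← P.lin_inv hgv (h.le _ ht.1)]
      show P.lin g⁻¹ (P.lin g (t ())) = 0
      rw [show P.lin g (t ()) = 0 from e, HP.lin, ap_zero, HP.pW, b_zero_right, b_zero_right,
        zero_smul, zero_smul, sub_zero, sub_zero]), by rw [P.lin_q hgv (h.le _ ht.1)]; exact ht.2.2⟩)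
    O (fun o ho => by
      obtain ⟨g, hg, g1, -, g3⟩ := P.exists_move_one hB hk hk5 (h.le _ hx) ho.1 hx0 ho.2.1 ho.2.2.symm
      exact ⟨g, hg, g1, fun _ => x, ⟨hx, hx0, rfl⟩, funext fun i => by
        show o i = P.lin g x
        rw [HP.lin, g3, P.pW_of_mem ho.1]⟩)
  rw [P.card_W hB hk] at h1
  have hL : L1 q k ≤ Nat.card O := by
    refine (le_card_first hB (P.nondeg hB) (k := k) (by have := P.finrank_W hB; omega) (by omega)
      (Q x)).1.trans (Nat.card_le_card_of_injective
        (fun y => (⟨fun _ => y.1, y.2⟩ : O)) fun a b e => Subtype.ext ?_)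
    exact congrFun (congrArg Subtype.val e) ()
  have hT' : Nat.card T ≤ Nat.card S - 1 := by
    have : Nat.card T + 1 ≤ Nat.card S := by
      rw [← Finite.card_option]
      refine Nat.card_le_card_of_injective
        (fun o => o.elim (⟨0, S.zero_mem⟩ : S) fun t => ⟨t.1 (), t.2.1⟩) ?_
      rintro (_ | a) (_ | b) e
      · rfl
      · exact absurd (congrArg Subtype.val e).symm b.2.2.1
      · exact absurd (congrArg Subtype.val e) a.2.2.1
      · exact congrArg some (Subtype.ext (funext fun i => congrArg Subtype.val e))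
    omega
  exact (Nat.mul_le_mul_left _ hL).trans (h1.trans (Nat.mul_le_mul_left _ (Nat.mul_le_mul_left _ hT')))

/-- A lower bound for the orbit of a pair. -/
def C2 (Fq k : ℕ) : ℕ :=
  if k = 5 then min (L1 Fq k * L2 Fq k) ((Fq ^ 4 - 1) * (Fq ^ 3 - Fq) / 2) else L1 Fq k * L2 Fq k

/-- The pairs with the values of a given one. -/
def gram (U : Submodule F (ι → F)) (Q : QuadraticForm F (ι → F)) (x y : ι → F) :
    Set (Fin 2 → ι → F) :=
  {o | (o 0 ∈ U ∧ o 0 ≠ 0 ∧ Q (o 0) = Q x) ∧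
    (o 1 ∈ U ∧ o 1 ∉ Submodule.span F {o 0} ∧ QuadraticMap.polar (DFunLike.coe Q) (o 0) (o 1) =
      QuadraticMap.polar (DFunLike.coe Q) x y ∧ Q (o 1) = Q y)}

theorem gram_count (hB : Nondeg Q) {U : Submodule F (ι → F)} (hU : NondegOn Q U) {k : ℕ}
    (hk : Module.finrank F U = k) (hk3 : 3 ≤ k) (x y : ι → F) :
    L1 q k * L2 q k ≤ Nat.card (gram U Q x y) ∧
      (k = 5 → Q x = 0 → B x y = 0 → Q y = 0 → (q ^ 4 - 1) * (q ^ 3 - q) ≤ Nat.card (gram U Q x y)) := by
  refine ⟨card_pairs (fun a => a ∈ U ∧ a ≠ 0 ∧ Q a = Q x)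
    (fun a b => b ∈ U ∧ b ∉ Submodule.span F {a} ∧ B a b = B x y ∧ Q b = Q y) _ _
    (le_card_first hB hU hk (by omega) _).1 (fun a ha => (le_card_second hB hU hk hk3 ha.1 ha.2.1 _ _).1),
    fun h5 hx hxy hy => card_pairs (fun a => a ∈ U ∧ a ≠ 0 ∧ Q a = Q x)
    (fun a b => b ∈ U ∧ b ∉ Submodule.span F {a} ∧ B a b = B x y ∧ Q b = Q y) _ _ ?_ ?_⟩
  · have := (le_card_first hB hU hk (by omega) 0).2 (h5 ▸ ⟨2, rfl⟩)
    rw [h5] at this
    rw [hx]
    exact this
  · intro a ha
    have := (le_card_second hB hU hk hk3 ha.1 ha.2.1 (B x y) (Q y)).2 (ha.2.2.trans hx) hxy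
      (h5 ▸ ⟨2, rfl⟩) hy
    rwa [h5] at this

theorem exists_nonsquare (h2 : (2 : F) ≠ 0) : ∃ ν : F, ¬ IsSquare ν := by
  cases nonempty_fintype F
  exact FiniteField.exists_nonsquare fun h => h2 (by
    have := CharP.cast_eq_zero F (ringChar F)
    rwa [h, Nat.cast_ofNat] at this)

theorem two_ne_zero_of_five (hB : Nondeg Q) {U : Submodule F (ι → F)} (hU : NondegOn Q U)
    (h5 : Module.finrank F U = 5) : (2 : F) ≠ 0 := by
  intro h2
  haveI : FiniteDimensional F U := inferInstance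
  have hn : ∀ a : U, (∀ b : U, QuadraticMap.polarBilin (Q.comp U.subtype) a b = 0) → a = 0 :=
    fun a ha => Subtype.ext (hU a a.2 fun b hb => ha ⟨b, hb⟩)
  obtain ⟨m, b, -⟩ := CfsgLib.Forms.exists_symplectic_basis_nondeg
    (QuadraticMap.polarBilin (Q.comp U.subtype))
    (fun a => by
      rw [QuadraticMap.polarBilin_apply_apply, QuadraticMap.polar_self, nsmul_eq_mul, Nat.cast_ofNat,
        h2, zero_mul]) hn
  have := Module.finrank_eq_card_basis b
  rw [h5, Fintype.card_sum, Fintype.card_fin] at this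
  omega

/-- The index against two independent vectors of a stable set. -/
theorem Stable.pair (h : Stable P M hB S) {k : ℕ} (hk : Module.finrank F (ι → F) = k + 2)
    (hk5 : 5 ≤ k) {x y : ι → F} (hx : x ∈ S) (hy : y ∈ S) (hx0 : x ≠ 0)
    (hyx : y ∉ Submodule.span F {x}) :
    q ^ k * C2 q k ≤
      M.relIndex (El Q) * (Nat.card (P.A M hB) * ((Nat.card S - 1) * (Nat.card S - 2))) := by
  classical
  have hU : Module.finrank F P.W = k := by have := P.finrank_W hB; omega
  set T : Set (Fin 2 → ι → F) := gram P.W Q x y ∩ {t | t 0 ∈ S ∧ t 1 ∈ S} with hT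
  obtain ⟨O, hOsub, hOcard, hO⟩ : ∃ O : Set (Fin 2 → ι → F), O ⊆ gram P.W Q x y ∧ C2 q k ≤ Nat.card O ∧
      ∀ o ∈ O, ∃ g ∈ El Q, ap g P.v = P.v ∧ ap g x = o 0 ∧ ap g y = o 1 := by
    obtain ⟨g1, g5⟩ := gram_count hB (P.nondeg hB) hU (by omega) x y
    by_cases hroom : 6 ≤ k ∨ B x x ≠ 0 ∨ B x y ≠ 0 ∨ B y y ≠ 0
    · refine ⟨_, subset_rfl, le_trans ?_ g1, fun o ho => ?_⟩
      · rw [C2]; split_ifs; exacts [min_le_left _ _, le_rfl]
      obtain ⟨g, hg, a1, -, a3, a4⟩ := P.exists_move_two hB hk hk5 (h.le _ hx) (h.le _ hy) ho.1.1 ho.2.1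
        hx0 ho.1.2.1 hyx ho.2.2.1 ho.1.2.2.symm ho.2.2.2.2.symm ho.2.2.2.1.symm hroom
      exact ⟨g, hg, a1, a3, a4⟩
    · push Not at hroom
      obtain ⟨h6, hxx, hxy, hyy⟩ := hroom
      obtain rfl : k = 5 := by omega
      have h2 := two_ne_zero_of_five hB (P.nondeg hB) hU
      rw [b_self] at hxx hyy
      have hqx := (mul_eq_zero.1 hxx).resolve_left h2
      have hqy := (mul_eq_zero.1 hyy).resolve_left h2
      obtain ⟨ν, hν⟩ := exists_nonsquare h2
      have hν0 : ν ≠ 0 := fun e => hν (e ▸ ⟨0, by rw [mul_zero]⟩)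
      refine ⟨{o | o ∈ gram P.W Q x y ∧ ∃ g ∈ El Q, ap g P.v = P.v ∧ ap g x = o 0 ∧ ap g y = o 1},
        fun o ho => ho.1, ?_, fun o ho => ho.2⟩
      rw [C2, if_pos rfl]
      refine (min_le_right _ _).trans (Nat.div_le_of_le_mul ?_)
      refine (g5 rfl hqx hxy hqy).trans ?_
      set O' := {o | o ∈ gram P.W Q x y ∧ ∃ g ∈ El Q, ap g P.v = P.v ∧ ap g x = o 0 ∧ ap g y = o 1}
      have key : ∀ o ∈ gram P.W Q x y, o ∈ O' ∨ ![ν⁻¹ • o 0, o 1] ∈ O' := by
        intro o ho
        obtain ⟨g, hg, a1, -, a3, a4⟩ := P.exists_move_line hB hk rfl h2 hν (h.le _ hx) (h.le _ hy)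
          ho.1.1 ho.2.1 hx0 ho.1.2.1 hyx ho.2.2.1 hqx hqy hxy (ho.1.2.2.trans hqx)
          (ho.2.2.2.2.trans hqy) (ho.2.2.2.1.trans hxy)
        rcases a4 with a4 | a4
        · exact Or.inl ⟨ho, g, hg, a1, a4, a3⟩
        · refine Or.inr ⟨⟨⟨P.W.smul_mem _ ho.1.1, smul_ne_zero (inv_ne_zero hν0) ho.1.2.1, ?_⟩,
            ho.2.1, ?_, ?_, ho.2.2.2.2⟩, g, hg, a1, a4, a3⟩
          · show Q (ν⁻¹ • o 0) = Q x
            rw [q_smul, ho.1.2.2, hqx, mul_zero]
          · show o 1 ∉ Submodule.span F {ν⁻¹ • o 0}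
            rw [Submodule.span_singleton_smul_eq (inv_ne_zero hν0).isUnit]
            exact ho.2.2.1
          · show B (ν⁻¹ • o 0) (o 1) = B x y
            rw [b_smul_left, ho.2.2.2.1, hxy, mul_zero]
      have e2 : 2 * Nat.card O' = Nat.card (Bool × O') := by
        rw [Nat.card_prod, Nat.card_eq_two_iff.2 ⟨true, false, by simp, by ext b; cases b <;> simp⟩]
      rw [e2]
      refine Nat.card_le_card_of_injective (fun o => if ho : o.1 ∈ O' then (true, ⟨o.1, ho⟩)
        else (false, ⟨_, (key o.1 o.2).resolve_left ho⟩)) fun a b e => ?_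
      dsimp only at e
      split_ifs at e with ha hb
      · exact Subtype.ext (congrArg (fun z : Bool × O' => (z.2 : Fin 2 → ι → F)) e)
      · exact absurd (congrArg Prod.fst e) (by simp)
      · exact absurd (congrArg Prod.fst e) (by simp)
      · have e' := congrArg (fun z : Bool × O' => (z.2 : Fin 2 → ι → F)) e
        refine Subtype.ext (funext fun i => ?_)
        fin_cases i
        · exact smul_right_injective _ (inv_ne_zero hν0) (congrFun e' 0)
        · exact congrFun e' 1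
  have h1 := P.index_tuple M hB T (fun t ht i => by
      fin_cases i
      exacts [ht.1.1.1, ht.1.2.1]) (fun g hg hgv himg t ht => ?_) O (fun o ho => ?_)
  · rw [P.card_W hB hk] at h1
    refine (Nat.mul_le_mul_left _ hOcard).trans (h1.trans (Nat.mul_le_mul_left _ (Nat.mul_le_mul_left _ ?_)))
    cases nonempty_fintype F
    -- the first vector is non-zero and the second is neither zero nor the first
    let f : T → {a : S // a ≠ 0} := fun t => ⟨⟨t.1 0, t.2.2.1⟩, fun e => t.2.1.1.2.1 (congrArg Subtype.val e)⟩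
    have hfib : ∀ a, Nat.card {t : T // f t = a} ≤ Nat.card S - 2 := by
      intro a
      have : Nat.card {t : T // f t = a} + 2 ≤ Nat.card S := by
        have e2 : Nat.card {t : T // f t = a} + 2 = Nat.card ({t : T // f t = a} ⊕ Bool) := by
          rw [Nat.card_sum, Nat.card_eq_two_iff.2 ⟨true, false, by simp, by ext b; cases b <;> simp⟩]
        rw [e2]
        have ht0 : ∀ t : {t : T // f t = a}, (t.1 : Fin 2 → ι → F) 0 = ((a.1 : S) : ι → F) := fun t =>
          congrArg (fun z : {a : S // a ≠ 0} => ((z.1 : S) : ι → F)) t.2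
        have hne : ∀ t : {t : T // f t = a}, (t.1 : Fin 2 → ι → F) 1 ∉
            Submodule.span F {((a.1 : S) : ι → F)} := fun t => by
          rw [← ht0 t]; exact t.1.2.1.2.2.1
        refine Nat.card_le_card_of_injective (fun z => z.elim (fun t => (⟨_, t.1.2.2.2⟩ : S))
          fun b => if b then 0 else a.1) ?_
        rintro (s | (_ | _)) (t | (_ | _)) e
        · refine congrArg Sum.inl (Subtype.ext (Subtype.ext (funext fun i => ?_)))
          fin_cases i
          · exact (ht0 s).trans (ht0 t).symm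
          · exact congrArg Subtype.val e
        · exact (hne s (by rw [show (s.1 : Fin 2 → ι → F) 1 = ((a.1 : S) : ι → F) from congrArg Subtype.val e]; exact Submodule.mem_span_singleton_self _)).elim
        · exact (hne s (by rw [show (s.1 : Fin 2 → ι → F) 1 = 0 from congrArg Subtype.val e]; exact Submodule.zero_mem _)).elim
        · exact (hne t (by rw [show (t.1 : Fin 2 → ι → F) 1 = ((a.1 : S) : ι → F) from (congrArg Subtype.val e).symm]; exact Submodule.mem_span_singleton_self _)).elim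
        · rfl
        · exact absurd e a.2
        · exact (hne t (by rw [show (t.1 : Fin 2 → ι → F) 1 = 0 from (congrArg Subtype.val e).symm]; exact Submodule.zero_mem _)).elim
        · exact absurd e.symm a.2
        · rfl
      omega
    have hS : Nat.card {a : S // a ≠ 0} ≤ Nat.card S - 1 := by
      have : Nat.card {a : S // a ≠ 0} + 1 ≤ Nat.card S := by
        rw [← Finite.card_option]
        refine Nat.card_le_card_of_injective (fun o => o.elim (0 : S) Subtype.val) ?_
        rintro (_ | a) (_ | b) e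
        · rfl
        · exact absurd e.symm b.2
        · exact absurd e a.2
        · exact congrArg some (Subtype.ext e)
      omega
    calc Nat.card T = Nat.card ((a : {a : S // a ≠ 0}) × {t : T // f t = a}) :=
          (Nat.card_congr (Equiv.sigmaFiberEquiv f)).symm
      _ = ∑ a, Nat.card {t : T // f t = a} := Nat.card_sigma
      _ ≤ ∑ _a : {a : S // a ≠ 0}, (Nat.card S - 2) := Finset.sum_le_sum fun a _ => hfib a
      _ = Nat.card {a : S // a ≠ 0} * (Nat.card S - 2) := by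
          rw [Finset.sum_const, Finset.card_univ, smul_eq_mul, Nat.card_eq_fintype_card (α := {a : S // a ≠ 0})]
      _ ≤ _ := Nat.mul_le_mul_right _ hS
  · obtain ⟨⟨⟨a1, a2, a3⟩, b1, b2, b3, b4⟩, c1, c2⟩ := ht
    refine ⟨⟨⟨P.lin_mem _ _, fun e => a2 ?_, (P.lin_q hgv a1).trans a3⟩, P.lin_mem _ _, fun hsp => b2 ?_,
      (P.lin_b hgv a1 b1).trans b3, (P.lin_q hgv b1).trans b4⟩, h.inv g hg hgv himg _ c1,
      h.inv g hg hgv himg _ c2⟩
    · rw [← P.lin_inv hgv a1]
      show P.lin g⁻¹ (P.lin g (t 0)) = 0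
      rw [show P.lin g (t 0) = 0 from e, HP.lin, ap_zero, HP.pW, b_zero_right, b_zero_right,
        zero_smul, zero_smul, sub_zero, sub_zero]
    · obtain ⟨c, hc⟩ := Submodule.mem_span_singleton.1 hsp
      refine Submodule.mem_span_singleton.2 ⟨c, ?_⟩
      have hc' : c • P.lin g (t 0) = P.lin g (t 1) := hc
      rw [← P.lin_inv hgv b1, ← hc']
      rw [show P.lin g⁻¹ (c • P.lin g (t 0)) = c • P.lin g⁻¹ (P.lin g (t 0)) by
        rw [HP.lin, ap_smul, P.pW_smul]; rfl]
      exact congrArg (c • ·) (P.lin_inv hgv a1).symm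
  · obtain ⟨g, hg, a1, a3, a4⟩ := hO o ho
    have ho' := hOsub ho
    refine ⟨g, hg, a1, ![x, y], ⟨⟨⟨h.le _ hx, hx0, rfl⟩, h.le _ hy, hyx, rfl, rfl⟩, hx, hy⟩,
      funext fun i => ?_⟩
    fin_cases i
    · show o 0 = P.lin g x
      rw [HP.lin, a3, P.pW_of_mem ho'.1.1]
    · show o 1 = P.lin g y
      rw [HP.lin, a4, P.pW_of_mem ho'.2.1]

end CfsgLib.MinIndexOrth
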