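import Cfsg.Agent.Lib.MinIndexOrth.Pairs
import Cfsg.Agent.Lib.MinIndexOrth.Dual

/-!
At a point whose radical is not inside the subgroup: the index is large, or the subgroup meets the
stabiliser of the point in a complement of the radical, or a neighbouring point has few parameters.
-/

set_option autoImplicit false
set_option linter.unusedSectionVars false

namespace CfsgLib.MinIndexOrth

open CfsgLib.Orth

variable {F : Type*} [Field F] [Finite F] {ι : Type} [Fintype ι] [DecidableEq ι]
variable {Q : QuadraticForm F (ι → F)}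

local notation "B" => QuadraticMap.polar (DFunLike.coe Q)
local notation "q" => Nat.card F

/-- A subgroup meeting the stabiliser of the point in a complement of the radical. -/
structure Compl (P : HP Q) (M : Subgroup (Grp Q)) (hB : Nondeg Q) : Prop where
  triv : ∀ x ∈ P.A M hB, x = 0
  full : ∀ g ∈ El Q, (∃ c : F, ap g P.v = c • P.v) → ∃ y s, IsSiegel P.v y s ∧ s * g ∈ M

theorem card_eq_one_iff {S : AddSubgroup (ι → F)} : Nat.card S = 1 ↔ ∀ x ∈ S, x = 0 := by
  rw [AddSubgroup.card_eq_one, AddSubgroup.eq_bot_iff_forall]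

/-- A missing element of the stabiliser doubles the bound. -/
theorem HP.compl_or (P : HP Q) (M : Subgroup (Grp Q)) (hB : Nondeg Q) {k : ℕ}
    (hk : Module.finrank F (ι → F) = k + 2) (hA : ∀ x ∈ P.A M hB, x = 0) :
    Compl P M hB ∨ 2 * q ^ k ≤ M.relIndex (El Q) := by
  classical
  by_cases hf : ∀ g ∈ El Q, (∃ c : F, ap g P.v = c • P.v) → ∃ y s, IsSiegel P.v y s ∧ s * g ∈ M
  · exact Or.inl ⟨hA, hf⟩
  refine Or.inr ?_
  push Not at hf
  obtain ⟨g, hg, ⟨c, hc⟩, hne⟩ := hf
  choose s hs using fun x : P.W => exists_siegel hB P.hv (P.mem_W.1 x.2).1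
  let Φ : P.W ⊕ P.W → El Q ⧸ M.subgroupOf (El Q) := Sum.elim
    (fun x => QuotientGroup.mk ⟨s x, siegel_mem_El (hs x)⟩)
    (fun x => QuotientGroup.mk ⟨s x * g, mul_mem (siegel_mem_El (hs x)) hg⟩)
  have hdiff : ∀ x x' : P.W, IsSiegel P.v ((x' : ι → F) - x) ((s x)⁻¹ * s x') := fun x x' => by
    obtain ⟨d, hd⟩ := exists_siegel hB P.hv (v := (x' : ι → F) - x) (by
      rw [b_sub_right, (P.mem_W.1 x'.2).1, (P.mem_W.1 x.2).1, sub_zero])
    have := siegel_mul (hs x) hd
    rw [add_sub_cancel] at this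
    rwa [← siegel_unique this (hs x'), inv_mul_cancel_left]
  have hcross : ∀ x x' : P.W, (s x)⁻¹ * (s x' * g) ∉ M := fun x x' h =>
    hne _ _ (hdiff x x') (by rwa [mul_assoc])
  have hinj : Function.Injective Φ := by
    intro a b e
    rcases a with x | x <;> rcases b with x' | x' <;>
      simp only [Φ, Sum.elim_inl, Sum.elim_inr, QuotientGroup.eq, Subgroup.mem_subgroupOf,
        Subgroup.coe_mul, InvMemClass.coe_inv] at e
    · refine congrArg Sum.inl (Subtype.ext (sub_eq_zero.1 (hA _ ⟨P.W.sub_mem x'.2 x.2, (hdiff x x').2.1, fun k hk => ?_⟩)).symm)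
      rwa [siegel_unique hk (hdiff x x')]
    · exact absurd e (hcross x x')
    · exact absurd (by simpa [mul_assoc] using inv_mem e) (hcross x' x)
    · have hc0 : c ≠ 0 := fun h0 => P.v_ne (ap_inj g (by rw [hc, h0, zero_smul, ap_zero]))
      have e' : g⁻¹ * ((s x)⁻¹ * s x') * g ∈ M := by simpa [mul_assoc] using e
      have h1 := siegel_conj (hdiff x x') g⁻¹
      rw [inv_inv, show ap g⁻¹ P.v = c⁻¹ • P.v from ap_inj g (by
        rw [ap_ap_inv, ap_smul, hc, smul_smul, inv_mul_cancel₀ hc0, one_smul])] at h1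
      have h2 : InM M (c⁻¹ • P.v) (ap g⁻¹ ((x' : ι → F) - x)) :=
        ⟨h1.2.1, fun k hk => by rw [siegel_unique hk h1]; exact e'⟩
      have h3 := (inM_smul_iff M hB P.hv (inv_ne_zero hc0)).1 h2
      have h4 := hA _ (P.pW_mem_A M hB h3)
      rw [P.pW_smul, smul_eq_zero, or_iff_right (inv_ne_zero hc0)] at h4
      refine congrArg Sum.inr (Subtype.ext (sub_eq_zero.1 ?_).symm)
      have hd := P.W.sub_mem x'.2 x.2
      have h5 : B P.v (ap g⁻¹ ((x' : ι → F) - x)) = 0 := by
        have := h3.1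
        rw [b_smul_right] at this
        exact (mul_eq_zero.1 this).resolve_left (inv_ne_zero hc0)
      have h6 := P.eq_pW h5
      rw [h4, zero_add] at h6
      have h7 := congrArg (ap g) h6
      rw [ap_ap_inv, ap_smul, hc, smul_smul] at h7
      have h8 := congrArg P.pW h7
      rwa [P.pW_of_mem hd, P.pW_smul, P.pW_v, smul_zero] at h8
  have h := Nat.card_le_card_of_injective Φ hinj
  rw [Nat.card_sum, P.card_W hB hk] at h
  rw [Subgroup.relIndex, Subgroup.index_eq_card, two_mul]
  exact h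

theorem siegel_swap {u x : ι → F} (hu : Q u = 0) (hx : Q x = 0) {g : Grp Q} (hg : IsSiegel u x g) :
    IsSiegel x (-u) g := by
  refine ⟨hx, by rw [← neg_one_smul F u, b_smul_right, b_comm, hg.2.1, mul_zero], fun y => ?_⟩
  rw [hg.2.2, hx, QuadraticMap.map_neg, hu, ← neg_one_smul F u, b_smul_right]
  simp only [zero_mul, zero_smul, sub_zero]
  module

theorem inM_swap (M : Subgroup (Grp Q)) (hB : Nondeg Q) {u x : ι → F} (hu : Q u = 0) (hx : Q x = 0)
    (h : InM M u x) : InM M x (-u) := by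
  refine ⟨by rw [← neg_one_smul F u, b_smul_right, b_comm, h.1, mul_zero], fun g hg => ?_⟩
  have h1 := siegel_swap hx (by rw [QuadraticMap.map_neg, hu]) hg
  obtain ⟨l, hl⟩ := exists_siegel hB hu h.1
  rw [show -u = (-1 : F) • u from (neg_one_smul F u).symm] at h1
  obtain ⟨l', hl'⟩ := exists_siegel hB hu (v := -x) (by
    rw [← neg_one_smul F x, b_smul_right, h.1, mul_zero])
  have h2 := siegel_smul hl' (-1) h1
  rw [neg_one_smul, neg_neg] at h2
  rw [siegel_unique h2 hl]
  exact h.2 l hl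

/-- A pair at a singular vector of the complement, with second vector in the complement. -/
theorem HP.exists_at (P : HP Q) (hB : Nondeg Q) {z : ι → F} (hz : z ∈ P.W) (hzq : Q z = 0) (hz0 : z ≠ 0) :
    ∃ P' : HP Q, P'.v = z ∧ P'.f ∈ P.W := by
  obtain ⟨f, hf, hfq, hzf⟩ := exists_partner_in hB (P.nondeg hB) (P := ⊥) bot_le
    ⟨hz, fun p hp => by rw [(Submodule.mem_bot F).1 hp]; exact b_zero_left z⟩
    (fun h => hz0 ((Submodule.mem_bot F).1 h)) hzq
  exact ⟨⟨z, f, hzq, hfq, hzf⟩, rfl, hf.1⟩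

/-- The image of a vector of the complement under an element fixing the point from a neighbour. -/
theorem HP.lin_neighbour (P : HP Q) {z y : ι → F} (hz : z ∈ P.W) {g : Grp Q} (hg : IsSiegel z y g)
    {a : ι → F} (ha : a ∈ P.W) :
    P.lin g a = a + B a z • P.pW y - (B a y + Q y * B a z) • z := by
  rw [HP.lin, hg.2.2, P.pW_sub, P.pW_sub, P.pW_add, P.pW_smul, P.pW_smul, P.pW_smul,
    P.pW_of_mem hz, P.pW_of_mem ha]
  module

theorem HP.neighbour_fix (P : HP Q) {z y : ι → F} (hz : z ∈ P.W) {g : Grp Q} (hg : IsSiegel z y g)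
    (hy : B P.v y = 0) : ap g P.v = P.v :=
  siegel_fix hg (P.mem_W.1 hz).1 hy

/-- The parameters at a neighbour perpendicular to the point. -/
theorem card_neighbour {P P' : HP Q} {M : Subgroup (Grp Q)} {hB : Nondeg Q} {k : ℕ}
    (hk : Module.finrank F (ι → F) = k + 2) (hv : P.v ∈ P'.W) (hz : B P.v P'.v = 0)
    (hiso : ∀ y ∈ P'.A M hB, ∀ y' ∈ P'.A M hB, B P.v y = 0 → B P.v y' = 0 → B y y' = 0)
    (hline : ∀ s : F, s • P.v ∈ P'.A M hB → s = 0) :
    Nat.card (P'.A M hB) ≤ q ^ (k / 2) := by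
  classical
  let φ : P'.A M hB →+ F :=
    { toFun := fun y => B P.v (y : ι → F)
      map_zero' := b_zero_right _
      map_add' := fun a b => b_add_right _ _ _ }
  obtain ⟨U, hU⟩ : ∃ U : Submodule F (ι → F),
      U = Submodule.span F ({P.v} ∪ {y | y ∈ P'.A M hB ∧ B P.v y = 0}) := ⟨_, rfl⟩
  have hUW : U ≤ P'.W := by
    rw [hU, Submodule.span_le]
    rintro u (rfl | hu)
    exacts [hv, hu.1.1]
  have hUo : U ≤ orth Q U := by
    rw [hU, Submodule.span_le]
    intro u hu
    refine mem_orth_span.2 fun w hw => ?_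
    rcases hu with rfl | hu <;> rcases hw with rfl | hw
    · exact b_self_zero P.hv
    · rw [b_comm]; exact hw.2
    · exact hu.2
    · exact hiso w hw.1 u hu.1 hw.2 hu.2
  have hdim : 2 * Module.finrank F U ≤ k := by
    have hsup : U ⊔ Submodule.span F {P'.v} ≤ orth Q (U ⊔ Submodule.span F {P'.v}) := by
      rw [hU, ← Submodule.span_union, Submodule.span_le]
      intro u hu
      refine mem_orth_span.2 fun w hw => ?_
      rcases hu with hu | rfl <;> rcases hw with hw | rfl
      · exact hUo (hU ▸ Submodule.subset_span hu) w (hU ▸ Submodule.subset_span hw)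
      · exact (P'.mem_W.1 (hUW (hU ▸ Submodule.subset_span hu))).1
      · rw [b_comm]; exact (P'.mem_W.1 (hUW (hU ▸ Submodule.subset_span hw))).1
      · exact b_self_zero P'.hv
    have h1 := two_mul_finrank_le hB hsup
    have h2 : U ⊓ Submodule.span F {P'.v} = ⊥ := (Submodule.eq_bot_iff _).2 fun x hx => by
      obtain ⟨c, rfl⟩ := Submodule.mem_span_singleton.1 hx.2
      have := (P'.mem_W.1 (hUW hx.1)).2
      rw [b_smul_right, P'.hfv, mul_one] at this
      rw [this, zero_smul]
    have h3 := Submodule.finrank_sup_add_finrank_inf_eq U (Submodule.span F {P'.v})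
    rw [h2, finrank_bot, finrank_span_singleton P'.v_ne] at h3
    omega
  have hker : Nat.card φ.ker * q ≤ q ^ Module.finrank F U := by
    rw [← card_subspace U, ← Nat.card_prod]
    refine Nat.card_le_card_of_injective (fun p => ⟨((p.1 : P'.A M hB) : ι → F) + p.2 • P.v, ?_⟩) ?_
    · rw [hU]
      exact Submodule.add_mem _ (Submodule.subset_span (Or.inr ⟨p.1.1.2, p.1.2⟩))
        (Submodule.smul_mem _ _ (Submodule.subset_span (Or.inl rfl)))
    · intro a b e
      have e' : ((a.1 : P'.A M hB) : ι → F) + a.2 • P.v = ((b.1 : P'.A M hB) : ι → F) + b.2 • P.v :=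
        congrArg Subtype.val e
      have hs : a.2 - b.2 = 0 := hline _ (by
        rw [show (a.2 - b.2) • P.v = ((b.1 : P'.A M hB) : ι → F) - (a.1 : P'.A M hB) by
          linear_combination (norm := module) e']
        exact (P'.A M hB).sub_mem b.1.1.2 a.1.1.2)
      have h2 := sub_eq_zero.1 hs
      rw [h2] at e'
      exact Prod.ext (Subtype.ext (Subtype.ext (add_right_cancel e'))) h2
  have hrange : Nat.card φ.range ≤ q := Finite.card_subtype_le _
  calc Nat.card (P'.A M hB) = Nat.card φ.range * Nat.card φ.ker := by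
        rw [AddSubgroup.card_eq_card_quotient_mul_card_addSubgroup φ.ker,
          Nat.card_congr (QuotientAddGroup.quotientKerEquivRange φ).toEquiv]
    _ ≤ q * Nat.card φ.ker := Nat.mul_le_mul_right _ hrange
    _ ≤ q ^ Module.finrank F U := by rw [mul_comm]; exact hker
    _ ≤ q ^ (k / 2) := Nat.pow_le_pow_right (by have := two_le_card (F := F); omega) (by omega)

variable (P : HP Q) (M : Subgroup (Grp Q)) (hB : Nondeg Q)

/-- A neighbour whose line avoids the parameters has few parameters. -/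
theorem HP.card_at_of_miss {k : ℕ} (hk : Module.finrank F (ι → F) = k + 2) {P' : HP Q}
    (hz : P'.v ∈ P.W) (hf : P'.f ∈ P.W) {a₀ : ι → F} (ha₀ : a₀ ∈ P.A M hB) (hβ : B a₀ P'.v ≠ 0)
    (hmiss : ∀ s : F, s • P'.v ∈ P.A M hB → s = 0) :
    Nat.card (P'.A M hB) ≤ q ^ (k / 2) := by
  have hvW : P.v ∈ P'.W := P'.mem_W.2 ⟨by rw [b_comm]; exact (P.mem_W.1 hz).1,
    by rw [b_comm]; exact (P.mem_W.1 hf).1⟩
  refine card_neighbour hk hvW (P.mem_W.1 hz).1 (fun y hy y' hy' hvy hvy' => ?_) fun s hs => ?_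
  · have key : ∀ y ∈ P'.A M hB, B P.v y = 0 → ∀ a ∈ P.A M hB,
        B a P'.v • P.pW y - (B a y + Q y * B a P'.v) • P'.v ∈ P.A M hB := by
      intro y hy hvy a ha
      obtain ⟨g, hg⟩ := exists_siegel hB P'.hv hy.2.1
      have h1 := P.lin_mem_A M hB (hy.2.2 g hg) (P.neighbour_fix hz hg hvy) ha
      rw [P.lin_neighbour hz hg ha.1] at h1
      have h2 := (P.A M hB).sub_mem h1 ha
      rwa [show a + B a P'.v • P.pW y - (B a y + Q y * B a P'.v) • P'.v - a =
        B a P'.v • P.pW y - (B a y + Q y * B a P'.v) • P'.v by abel] at h2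
    have perp : ∀ y ∈ P'.A M hB, B P.v y = 0 → ∀ a ∈ P.A M hB, B a P'.v = 0 → B a y = 0 := by
      intro y hy hvy a ha haz
      have h1 := key y hy hvy a ha
      rw [haz, zero_smul, mul_zero, add_zero, zero_sub, ← neg_smul] at h1
      exact neg_eq_zero.1 (hmiss _ h1)
    have h1 := key y hy hvy a₀ ha₀
    set t := B a₀ y + Q y * B a₀ P'.v
    have hzy : B P'.v y = 0 := hy.2.1
    have hbz : B (B a₀ P'.v • P.pW y - t • P'.v) P'.v = 0 := by
      rw [b_sub_left, b_smul_left, b_smul_left, b_self_zero P'.hv, HP.pW, b_sub_left, b_sub_left,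
        b_smul_left, b_smul_left, b_comm y P'.v, hzy, (P.mem_W.1 hz).1,
        b_comm P.f P'.v, b_comm P'.v P.f, (P.mem_W.1 hz).2]
      ring
    have h2 := perp y' hy' hvy' _ h1 hbz
    rw [b_sub_left, b_smul_left, b_smul_left, hy'.2.1, mul_zero, sub_zero, HP.pW, b_sub_left,
      b_sub_left, b_smul_left, b_smul_left, hvy', hvy, mul_zero, zero_mul, sub_zero, sub_zero] at h2
    exact (mul_eq_zero.1 h2).resolve_left hβ
  · have h1 : InM M P.v (-(s • P'.v)) := by
      have h2 := hs.2
      by_cases hs0 : s = 0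
      · rw [hs0, zero_smul, neg_zero]; exact inM_zero M hB P.hv
      have h3 := inM_swap M hB P'.hv (by rw [q_smul, P.hv, mul_zero]) h2
      rw [inM_smul_iff M hB P.hv hs0, smul_neg] at h3
      exact h3
    have h4 := P.pW_mem_A M hB (inM_neg M hB P.hv h1)
    rw [neg_neg, P.pW_of_mem (P.W.smul_mem s hz)] at h4
    exact hmiss s h4

/-- At a point with a hyperplane of parameters, neighbours off the hyperplane have few. -/
theorem HP.card_at_of_hyp {w : ι → F}
    (hw : w ∈ P.W) (hyp : ∀ x ∈ P.W, B w x = 0 → x ∈ P.A M hB)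
    (hne : ∃ x ∈ P.W, x ∉ P.A M hB) {P' : HP Q}
    (hz : P'.v ∈ P.W) (hf : P'.f ∈ P.W) (hwz : B w P'.v ≠ 0) :
    Nat.card (P'.A M hB) ≤ q ^ 2 := by
  classical
  have hker : ∀ y ∈ P'.A M hB, B P.v y = 0 → y ∈ Submodule.span F {P.v} := by
    intro y hy hvy
    obtain ⟨g, hg⟩ := exists_siegel hB P'.hv hy.2.1
    have hgv := P.neighbour_fix hz hg hvy
    have hgM := hy.2.2 g hg
    -- the image of the hyperplane stays inside it
    have himg : ∀ x ∈ P.W, B w x = 0 → B w (P.lin g x) = 0 := by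
      intro x hx hwx
      by_contra hne'
      obtain ⟨u, hu, huA⟩ := hne
      refine huA ?_
      obtain ⟨c, hc⟩ : ∃ c, c = B w u / B w (P.lin g x) := ⟨_, rfl⟩
      have h1 : u - c • P.lin g x ∈ P.A M hB := hyp _ (P.W.sub_mem hu (P.W.smul_mem _ (P.lin_mem _ _)))
        (by rw [b_sub_right, b_smul_right, hc, div_mul_cancel₀ _ hne', sub_self])
      have h2 : P.lin g (c • x) ∈ P.A M hB :=
        P.lin_mem_A M hB hgM hgv (hyp _ (P.W.smul_mem _ hx) (by rw [b_smul_right, hwx, mul_zero]))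
      rw [HP.lin, ap_smul, P.pW_smul] at h2
      have := (P.A M hB).add_mem h1 h2
      rwa [show u - c • P.lin g x + c • P.pW (ap g x) = u by rw [HP.lin]; abel] at this
    have hwg : ∀ x ∈ P.W, B w x = 0 → B (P.lin g⁻¹ w) x = 0 := fun x hx hwx => by
      rw [← P.lin_b hgv (P.lin_mem _ _) hx, P.lin_inv' hgv hw]
      exact himg x hx hwx
    -- so the inverse fixes the line
    obtain ⟨c, hc⟩ : ∃ c : F, P.lin g⁻¹ w = c • w := by
      have hw0 : ∃ u ∈ P.W, B w u = 1 := ⟨(B w P'.v)⁻¹ • P'.v, P.W.smul_mem _ hz,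
        by rw [b_smul_right, inv_mul_cancel₀ hwz]⟩
      obtain ⟨u, hu, hwu⟩ := hw0
      refine ⟨B (P.lin g⁻¹ w) u, sub_eq_zero.1 (P.nondeg hB _ (P.W.sub_mem (P.lin_mem _ _)
        (P.W.smul_mem _ hw)) fun x hx => ?_)⟩
      have h1 := hwg (x - B w x • u) (P.W.sub_mem hx (P.W.smul_mem _ hu))
        (by rw [b_sub_right, b_smul_right, hwu, mul_one, sub_self])
      rw [b_sub_right, b_smul_right] at h1
      rw [b_sub_left, b_smul_left]
      linear_combination h1
    have hc0 : c ≠ 0 := fun e => hwz (by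
      have := P.lin_inv' hgv hw
      rw [hc, e, zero_smul, HP.lin, ap_zero, HP.pW, b_zero_right, b_zero_right, zero_smul,
        zero_smul, sub_zero, sub_zero] at this
      rw [← this, b_zero_left])
    have hgw : P.lin g w = c⁻¹ • w := by
      have h1 := P.lin_inv' hgv hw
      rw [hc, HP.lin, ap_smul, P.pW_smul] at h1
      calc P.lin g w = c⁻¹ • (c • P.pW (ap g w)) := by
            rw [smul_smul, inv_mul_cancel₀ hc0, one_smul]; rfl
        _ = c⁻¹ • w := by rw [h1]
    rw [P.lin_neighbour hz hg hw] at hgw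
    set t := B w y + Q y * B w P'.v
    have hpz : B P'.v (P.pW y) = 0 := by
      rw [HP.pW, b_sub_right, b_sub_right, b_smul_right, b_smul_right, hy.2.1, b_comm P'.v P.v,
        (P.mem_W.1 hz).1, b_comm P'.v P.f, (P.mem_W.1 hz).2]
      ring
    have h1 := congrArg (B P'.v) hgw
    rw [b_sub_right, b_add_right, b_smul_right, b_smul_right, b_smul_right, hpz,
      b_self_zero P'.hv, b_comm P'.v w] at h1
    have hc1 : c⁻¹ = 1 := mul_right_cancel₀ hwz (by linear_combination -h1)
    rw [hc1, one_smul] at hgw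
    have hy1 : B w P'.v • P.pW y = t • P'.v := by linear_combination (norm := module) hgw
    have hy2 := congrArg (B P'.f) hy1
    have hfv : B P'.f P.v = 0 := by rw [b_comm]; exact (P.mem_W.1 hf).1
    rw [b_smul_right, b_smul_right, P'.hfv, HP.pW, b_sub_right, b_sub_right, b_smul_right,
      b_smul_right, hvy, (P'.mem_W.1 hy.1).2, hfv] at hy2
    have ht : t = 0 := by linear_combination -hy2
    rw [ht, zero_smul] at hy1
    have h3 := (smul_eq_zero.1 hy1).resolve_left hwz
    rw [HP.pW, hvy, zero_smul, sub_zero, sub_eq_zero] at h3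
    exact Submodule.mem_span_singleton.2 ⟨_, h3.symm⟩
  let φ : P'.A M hB →+ F :=
    { toFun := fun y => B P.v (y : ι → F)
      map_zero' := b_zero_right _
      map_add' := fun a b => b_add_right _ _ _ }
  have hk' : Nat.card φ.ker ≤ q := by
    refine (Nat.card_le_card_of_injective (fun y : φ.ker => (⟨((y : P'.A M hB) : ι → F),
      hker _ y.1.2 y.2⟩ : Submodule.span F {P.v})) fun a b e => ?_).trans (le_of_eq ?_)
    · have e' : ((a : P'.A M hB) : ι → F) = (b : P'.A M hB) :=
        congrArg (fun z : Submodule.span F {P.v} => (z : ι → F)) e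
      exact Subtype.ext (Subtype.ext e')
    · rw [card_subspace, finrank_span_singleton P.v_ne, pow_one]
  have hrange : Nat.card φ.range ≤ q := Finite.card_subtype_le _
  calc Nat.card (P'.A M hB) = Nat.card φ.range * Nat.card φ.ker := by
        rw [AddSubgroup.card_eq_card_quotient_mul_card_addSubgroup φ.ker,
          Nat.card_congr (QuotientAddGroup.quotientKerEquivRange φ).toEquiv]
    _ ≤ q * q := Nat.mul_le_mul hrange hk'
    _ = q ^ 2 := (sq _).symm

end CfsgLib.MinIndexOrth
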