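import Cfsg.Agent.Lib.MinIndexOrth.Exact
import Cfsg.Agent.Lib.MinIndexOrth.Prime

/-!
Exact level sets over fields with two or three elements.
-/

set_option autoImplicit false
set_option linter.unusedSectionVars false

namespace CfsgLib.MinIndexOrth

open CfsgLib.Orth

variable {F : Type*} [Field F] [Finite F] {ι : Type} [Fintype ι] [DecidableEq ι]
variable {Q : QuadraticForm F (ι → F)}

local notation "B" => QuadraticMap.polar (DFunLike.coe Q)
local notation "q" => Nat.card F

theorem three_eq_zero (h3 : q = 3) : (3 : F) = 0 := by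
  cases nonempty_fintype F
  have h := FiniteField.cast_card_eq_zero F
  rw [← Nat.card_eq_fintype_card, h3] at h
  exact_mod_cast h

theorem small_values (h : q = 2 ∨ q = 3) (a : F) : a = 0 ∨ a = 1 ∨ a = -1 := by
  classical
  cases nonempty_fintype F
  by_contra hc
  push Not at hc
  obtain ⟨h0, h1, h2⟩ := hc
  have hp : Nat.Prime q := by rcases h with h | h <;> rw [h] <;> norm_num
  obtain ⟨n, rfl⟩ := cast_surjective hp a
  have hq : (q : F) = 0 := by
    rw [Nat.card_eq_fintype_card]; exact FiniteField.cast_card_eq_zero F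
  have hn : (n : F) = ((n % q : ℕ) : F) := by
    conv_lhs => rw [← Nat.mod_add_div n q]
    push_cast
    rw [hq]; ring
  rw [hn] at h0 h1 h2
  have hlt : n % q < q := Nat.mod_lt _ (by rcases h with h | h <;> omega)
  rcases h with h | h <;> rw [h] at hlt hq h0 h1 h2
  · rcases (show n % 2 = 0 ∨ n % 2 = 1 by omega) with e | e <;> rw [e] at h0 h1
    · exact h0 Nat.cast_zero
    · exact h1 Nat.cast_one
  · rcases (show n % 3 = 0 ∨ n % 3 = 1 ∨ n % 3 = 2 by omega) with e | e | e <;> rw [e] at h0 h1 h2
    · exact h0 Nat.cast_zero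
    · exact h1 Nat.cast_one
    · push_cast at hq
      exact h2 (by push_cast; linear_combination hq)

/-- An anisotropic plane takes every non-zero value `q + 1` times. -/
theorem lev_aniso_ge (hB : Nondeg Q) (hq : q = 2 ∨ q = 3) {U : Submodule F (ι → F)}
    (hU : NondegOn Q U) (hd : Module.finrank F U = 2) (hani : ∀ x ∈ U, Q x = 0 → x = 0)
    {c : F} (hc : c ≠ 0) : q + 1 ≤ lev Q U c := by
  classical
  cases nonempty_fintype F
  obtain ⟨a, ha, ha0⟩ := U.exists_mem_ne_zero_of_ne_bot fun e => by rw [e, finrank_bot] at hd; omega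
  rcases hq with h2 | h3
  · -- every non-zero vector has the value one
    have hval : ∀ x : F, x ≠ 0 → x = 1 := fun x hx => by
      rcases small_values (Or.inl h2) x with e | e | e
      · exact absurd e hx
      · exact e
      · have h20 : (2 : F) = 0 := by
          have h := FiniteField.cast_card_eq_zero F
          rw [← Nat.card_eq_fintype_card, h2] at h
          exact_mod_cast h
        rw [e]; linear_combination -h20
    have h1 : Nat.card U = Nat.card {x : U // Q (x : ι → F) = c} + 1 := by
      rw [← Finite.card_option]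
      refine (Nat.card_eq_of_bijective (fun o => o.elim (0 : U) Subtype.val) ⟨?_, fun x => ?_⟩).symm
      · rintro (_ | x) (_ | y) e
        · rfl
        · have := y.2
          rw [← show (0 : U) = y.1 from e, Submodule.coe_zero, QuadraticMap.map_zero] at this
          exact absurd this.symm hc
        · have := x.2
          rw [show x.1 = (0 : U) from e, Submodule.coe_zero, QuadraticMap.map_zero] at this
          exact absurd this.symm hc
        · exact congrArg some (Subtype.ext e)
      · by_cases h : x = 0
        · exact ⟨none, h.symm⟩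
        · exact ⟨some ⟨x, (hval _ fun e => h (Subtype.ext (hani _ x.2 e))).trans (hval c hc).symm⟩, rfl⟩
    rw [card_subspace, hd, h2] at h1
    show q + 1 ≤ Nat.card {x : U // Q (x : ι → F) = c}
    omega
  · have h30 := three_eq_zero h3
    have h2 : (2 : F) ≠ 0 := fun e => one_ne_zero (α := F) (by linear_combination h30 - e)
    have hqa : Q a ≠ 0 := fun e => ha0 (hani a ha e)
    have hsq : ∀ x : F, x ≠ 0 → x * x = 1 := fun x hx => by
      rcases small_values (Or.inr h3) x with e | e | e
      · exact absurd e hx
      all_goals rw [e]; ring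
    obtain ⟨b, hb, hb0, hab⟩ : ∃ b ∈ U, b ≠ 0 ∧ B a b = 0 := by
      by_contra hcon
      push Not at hcon
      have h1 := Submodule.finrank_mono (show U ≤ Submodule.span F {a} from fun x hx => by
        obtain ⟨w, hw⟩ : ∃ w, w = x - (B a x / B a a) • a := ⟨_, rfl⟩
        have h : B a w = 0 := by
          rw [hw, b_sub_right, b_smul_right, div_mul_cancel₀ _
            (by rw [b_self]; exact mul_ne_zero h2 hqa), sub_self]
        by_cases hw0 : w = 0
        · rw [hw0] at hw
          exact Submodule.mem_span_singleton.2 ⟨_, (sub_eq_zero.1 hw.symm).symm⟩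
        · exact absurd h (hcon w (hw ▸ U.sub_mem hx (U.smul_mem _ ha)) hw0))
      rw [hd, finrank_span_singleton ha0] at h1
      omega
    have hab' : Q b = Q a := by
      have h1 := hsq _ hqa
      have h4 := hsq _ fun e => hb0 (hani b hb e)
      have h5 : Q (a + b) ≠ 0 := fun e => by
        have h := hani _ (U.add_mem ha hb) e
        have := congrArg (B a) h
        rw [b_add_right, hab, b_self, add_zero, b_zero_right] at this
        exact mul_ne_zero h2 hqa this
      rw [q_add, hab, add_zero] at h5
      have h6 : (Q a - Q b) * (Q a + Q b) = 0 := by linear_combination h1 - h4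
      exact (sub_eq_zero.1 ((mul_eq_zero.1 h6).resolve_right h5)).symm
    have hind : ∀ x y : F, x • a + y • b = 0 → x = 0 ∧ y = 0 := fun x y e => by
      have h := congrArg Q e
      rw [q_add, q_smul, q_smul, b_smul_left, b_smul_right, hab, hab', QuadraticMap.map_zero] at h
      have h1 := congrArg (B a) e
      rw [b_add_right, b_smul_right, b_smul_right, hab, b_self, b_zero_right] at h1
      have hx : x = 0 := (mul_eq_zero.1 (by linear_combination h1 : x * (2 * Q a) = 0)).resolve_right
        (mul_ne_zero h2 hqa)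
      refine ⟨hx, mul_self_eq_zero.1 ((mul_eq_zero.1 (by
        rw [hx] at h; linear_combination h : y * y * Q a = 0)).resolve_right hqa)⟩
    -- four vectors
    let p : Fin 4 → F × F := if Q a = c then ![(1, 0), (-1, 0), (0, 1), (0, -1)]
      else ![(1, 1), (1, -1), (-1, 1), (-1, -1)]
    have hp : ∀ i, (p i).1 * (p i).1 * Q a + (p i).2 * (p i).2 * Q a = c := by
      intro i
      by_cases h : Q a = c
      · simp only [p, if_pos h]
        fin_cases i <;> simp [h]
      · simp only [p, if_neg h]
        have h6 : c = -Q a := by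
          have h7 : (c - Q a) * (c + Q a) = 0 := by linear_combination hsq c hc - hsq _ hqa
          exact eq_neg_of_add_eq_zero_left ((mul_eq_zero.1 h7).resolve_left (sub_ne_zero.2 fun e => h e.symm))
        fin_cases i <;> simp [h6] <;> linear_combination Q a * h30
    have hpi : Function.Injective p := by
      have h11 : (1 : F) ≠ -1 := fun e => h2 (by linear_combination e)
      intro i j e
      by_cases h : Q a = c
      · simp only [p, if_pos h] at e
        fin_cases i <;> fin_cases j <;> simp [Prod.ext_iff, h11, h11.symm] at e ⊢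
      · simp only [p, if_neg h] at e
        fin_cases i <;> fin_cases j <;> simp [Prod.ext_iff, h11, h11.symm] at e ⊢
    have h4 : Nat.card (Fin 4) ≤ lev Q U c := by
      refine Nat.card_le_card_of_injective (fun i => (⟨⟨(p i).1 • a + (p i).2 • b,
        U.add_mem (U.smul_mem _ ha) (U.smul_mem _ hb)⟩, ?_⟩ : {x : U // Q (x : ι → F) = c})) ?_
      · show Q _ = c
        rw [q_add, q_smul, q_smul, b_smul_left, b_smul_right, hab, hab']
        linear_combination hp i
      · intro i j e
        have e' : (p i).1 • a + (p i).2 • b = (p j).1 • a + (p j).2 • b :=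
          congrArg (fun z : {x : U // Q (x : ι → F) = c} => ((z : U) : ι → F)) e
        obtain ⟨e1, e2⟩ := hind ((p i).1 - (p j).1) ((p i).2 - (p j).2)
          (by linear_combination (norm := module) e')
        exact hpi (Prod.ext (sub_eq_zero.1 e1) (sub_eq_zero.1 e2))
    rw [Nat.card_eq_fintype_card, Fintype.card_fin] at h4
    omega

/-- Non-zero values in a space of minus type. -/
theorem lev_minus_ge (hB : Nondeg Q) (hq : q = 2 ∨ q = 3) : ∀ (h : ℕ) (U : Submodule F (ι → F)),
    NondegOn Q U → Module.finrank F U = 2 * h → ¬ HasHalf Q U h → ∀ c : F, c ≠ 0 →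
      q ^ (2 * h) + q ^ h ≤ q * lev Q U c := by
  intro h
  induction h with
  | zero =>
    intro U _ _ hno
    exact absurd ⟨⊥, bot_le, fun x hx => by rw [(Submodule.mem_bot F).1 hx, QuadraticMap.map_zero],
      Nat.zero_le _⟩ hno
  | succ h ih =>
    intro U hU hd hno c hc
    have hq2 := two_le_card (F := F)
    by_cases hs : ∃ s ∈ U, s ≠ 0 ∧ Q s = 0
    · obtain ⟨s, hsU, hs0, hsq⟩ := hs
      obtain ⟨U', -, hU', hd', -, hlev⟩ := exists_split hB hU hsU hs0 hsq
      have hd'' : Module.finrank F U' = 2 * h := by omega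
      have hno' : ¬ HasHalf Q U' h := fun hH => by
        have h1 := lev_plus hB hU' hd'' hH
        have h2 := ((lev_zero_even hB (h + 1) U hU hd).resolve_left fun h3 => hno h3.1).2
        have e := hlev 0
        rw [hd''] at e
        have h1' : (q : ℤ) * lev Q U' 0 + (q : ℤ) ^ h = (q : ℤ) ^ (2 * h) + (q : ℤ) ^ (h + 1) := by
          exact_mod_cast h1
        have h2' : (q : ℤ) * lev Q U 0 + (q : ℤ) ^ (h + 1 + 1) =
            (q : ℤ) ^ (2 * (h + 1)) + (q : ℤ) ^ (h + 1) := by exact_mod_cast h2
        have h3 : 2 * ((q : ℤ) ^ (h + 1) * ((q : ℤ) - 1)) = 0 := by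
          rw [e] at h2'
          linear_combination h2' - (q : ℤ) * h1'
        rcases mul_eq_zero.1 ((mul_eq_zero.1 h3).resolve_left (by norm_num)) with h4 | h4
        · exact absurd (eq_zero_of_pow_eq_zero h4) (by exact_mod_cast (show q ≠ 0 by omega))
        · omega
      have h1 := ih U' hU' hd'' hno' c hc
      have e := hlev c
      rw [hd''] at e
      zify
      have h1' : (q : ℤ) ^ (2 * h) + (q : ℤ) ^ h ≤ q * lev Q U' c := by exact_mod_cast h1
      rw [e, show 2 * (h + 1) = 2 * h + 2 by ring, pow_add, pow_succ (q : ℤ) h]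
      nlinarith [mul_le_mul_of_nonneg_left h1' (Int.natCast_nonneg q)]
    · push Not at hs
      have hani : ∀ x ∈ U, Q x = 0 → x = 0 := fun x hx hq => by
        by_contra h0
        exact hs x hx h0 hq
      obtain rfl : h = 0 := by
        by_contra hh
        obtain ⟨v, hv, hv0, hvq⟩ := exists_singular (Q := Q) (U := U) (by omega)
        exact hv0 (hani v hv hvq)
      have h1 := Nat.mul_le_mul_left q (lev_aniso_ge hB hq hU hd hani hc)
      rw [show 2 * (0 + 1) = 2 by norm_num, show (0 : ℕ) + 1 = 1 by norm_num, pow_one]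
      calc q ^ 2 + q = q * (q + 1) := by ring
        _ ≤ _ := h1

/-- In odd dimension over three elements one non-zero value is rare. -/
theorem exists_rare (hB : Nondeg Q) (h3 : q = 3) : ∀ (h : ℕ) (U : Submodule F (ι → F)),
    NondegOn Q U → Module.finrank F U = 2 * h + 1 →
      ∃ c : F, c ≠ 0 ∧ q * lev Q U c + q ^ (h + 1) ≤ q ^ (2 * h + 1) := by
  intro h
  induction h with
  | zero =>
    intro U hU hd
    have h30 := three_eq_zero h3
    obtain ⟨a, ha, ha0⟩ := U.exists_mem_ne_zero_of_ne_bot fun e => by rw [e, finrank_bot] at hd; omega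
    have hline : U ≤ Submodule.span F {a} := by
      refine (Submodule.eq_of_le_of_finrank_eq ((Submodule.span_singleton_le_iff_mem _ _).2 ha) ?_).ge
      rw [finrank_span_singleton ha0, hd]
    have hqa : Q a ≠ 0 := fun e => ha0 (hU a ha fun y hy => by
      obtain ⟨t, rfl⟩ := Submodule.mem_span_singleton.1 (hline hy)
      rw [b_smul_right, b_self, e]; ring)
    refine ⟨-Q a, neg_ne_zero.2 hqa, ?_⟩
    have h1 : lev Q U (-Q a) = 0 := by
      refine Nat.card_eq_zero.2 (Or.inl ⟨fun x => ?_⟩)
      obtain ⟨t, ht⟩ := Submodule.mem_span_singleton.1 (hline x.1.2)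
      have hx := x.2
      rw [← ht, q_smul] at hx
      rcases small_values (Or.inr h3) t with e | e | e <;> rw [e] at hx
      · exact hqa (by linear_combination hx)
      all_goals exact hqa (by linear_combination -hx + Q a * h30)
    rw [h1]; simp
  | succ h ih =>
    intro U hU hd
    obtain ⟨s, hsU, hs0, hsq⟩ := exists_singular (Q := Q) (U := U) (by omega)
    obtain ⟨U', -, hU', hd', -, hlev⟩ := exists_split hB hU hsU hs0 hsq
    obtain ⟨c, hc, hle⟩ := ih U' hU' (by omega)
    refine ⟨c, hc, ?_⟩
    have e := hlev c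
    rw [show Module.finrank F U' = 2 * h + 1 by omega] at e
    have h1 : (q : ℤ) * lev Q U' c + (q : ℤ) ^ (h + 1) ≤ (q : ℤ) ^ (2 * h + 1) := by exact_mod_cast hle
    zify
    rw [e, show 2 * (h + 1) + 1 = 2 * h + 1 + 2 by ring, pow_add (q : ℤ) (2 * h + 1) 2,
      pow_succ (q : ℤ) (h + 1)]
    nlinarith [mul_le_mul_of_nonneg_left h1 (Int.natCast_nonneg q)]

end CfsgLib.MinIndexOrth
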