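import Cfsg.Agent.Lib.MinIndexOrth.Six
import Cfsg.Agent.Lib.Classical.OrthPoint

/-!
A proper subgroup has at least the target index.
-/

set_option autoImplicit false
set_option linter.unusedSectionVars false

namespace CfsgLib.MinIndexOrth

open CfsgLib.Orth

variable {F : Type*} [Field F] [Finite F] {ι : Type} [Fintype ι] [DecidableEq ι]
variable {Q : QuadraticForm F (ι → F)}

local notation "B" => QuadraticMap.polar (DFunLike.coe Q)
local notation "q" => Nat.card F

/-- The arithmetic for a space of dimension `k + 2`. -/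
structure Nums (Q : QuadraticForm F (ι → F)) (k T : ℕ) : Prop where
  num : Num (Nat.card F) k T
  totals : Totals Q T
  plane : T * (2 * (Nat.card F - 1)) ≤ Nat.card F ^ 2 * (L1 (Nat.card F) k * L2 (Nat.card F) k)
  six : k = 6 → Num6 F (Nat.card F) T

/-- Some point has a radical outside a proper subgroup. -/
theorem exists_open_point (hB : Nondeg Q) (hn : 3 ≤ Module.finrank F (ι → F))
    {M : Subgroup (Grp Q)} (hM : ¬ El Q ≤ M) : ∃ P : HP Q, ∃ x ∈ P.W, x ∉ P.A M hB := by
  obtain ⟨s, f, -, -, -, hs, hf, hsf⟩ := exists_pair_in hB (nondegOn_top hB) (P := ⊥) le_top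
    (by rw [finrank_bot, finrank_top]; omega)
  have key : ∀ P : HP Q, (∀ x ∈ P.W, x ∈ P.A M hB) → ∀ x g, IsSiegel P.v x g → g ∈ M := by
    intro P hP x g hg
    have h := inM_add M hB (hP _ (P.pW_mem x)).2 (inM_self M hB P.hv (B P.f x))
    rw [← P.eq_pW hg.2.1] at h
    exact h.2 g hg
  by_contra hc
  push Not at hc
  exact hM (El_le_of_two hB hs hf (by rw [hsf]; exact one_ne_zero) (key ⟨s, f, hs, hf, hsf⟩ (hc _))
    (key ⟨f, s, hf, hs, by rw [b_comm, hsf]⟩ (hc _)))

/-- The bound for fields with a torus of squares other than the sign. -/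
theorem index_bound (hB : Nondeg Q) {k T : ℕ} (hk : Module.finrank F (ι → F) = k + 2) (hk5 : 5 ≤ k)
    (hq : 4 ≤ q) {M : Subgroup (Grp Q)} (hM : ¬ El Q ≤ M) (hN : Nums Q k T) :
    T ≤ M.relIndex (El Q) := by
  by_contra hlt
  obtain ⟨P, hP⟩ := exists_open_point hB (by omega) hM
  obtain ⟨P₁, h₁⟩ := (point_cases M hB P hk hk5 hN.num hP).resolve_left hlt
  obtain ⟨P₂, h₂⟩ : ∃ P₂ : HP Q, Compl P₂ M hB := by
    rcases (few_cases M hB P₁ hk hk5 hN.num h₁).resolve_left hlt with h | ⟨hk6, h⟩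
    · exact ⟨_, h⟩
    obtain rfl : k = 6 := hk6.resolve_right fun h' => by omega
    rw [show (6 : ℕ) / 2 = 3 by norm_num] at h
    obtain ⟨P₃, h₃⟩ := (six_cases hk hM hN.totals (hN.six rfl) h).resolve_left hlt
    have h4 : q ^ 2 < q ^ 3 := Nat.pow_lt_pow_right (by omega) (by norm_num)
    rcases (few_cases M hB P₃ hk hk5 hN.num
      (show Nat.card (P₃.A M hB) ≤ q ^ (6 / 2) by norm_num; omega)).resolve_left hlt with h | ⟨-, h⟩
    · exact ⟨_, h⟩
    · rw [show (6 : ℕ) / 2 = 3 by norm_num] at h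
      omega
  obtain ⟨P₄, h₄⟩ := exists_pure hB (by omega) hq P₂ M h₂
  exact hlt (h₄.bound hk hk5 hM (Or.inr hN.num) hN.totals hN.plane)

end CfsgLib.MinIndexOrth
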