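import Cfsg.Agent.Lib.MinIndexOrth.Eight
import Cfsg.Agent.Lib.MinIndexOrth.Final
import Cfsg.Agent.Lib.MinIndexOrth.Main
import Cfsg.Agent.Lib.MinIndexOrth.Prime

/-!
The bound over prime fields.
-/

set_option autoImplicit false
set_option linter.unusedSectionVars false

namespace CfsgLib.MinIndexOrth

open CfsgLib.Orth

variable {F : Type*} [Field F] [Finite F] {ι : Type} [Fintype ι] [DecidableEq ι]
variable {Q : QuadraticForm F (ι → F)}

local notation "B" => QuadraticMap.polar (DFunLike.coe Q)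
local notation "q" => Nat.card F

variable {P : HP Q} {M : Subgroup (Grp Q)} {hB : Nondeg Q} {k : ℕ}

/-- The vectors of the points in the orbit of the point. -/
def pointOrbit (P : HP Q) (M : Subgroup (Grp Q)) : Set (ι → F) :=
  {y | ∃ m ∈ M, ∃ a : F, a ≠ 0 ∧ y = a • ap m P.v}

/-- With a complement, the cosets and the orbit of the point share the work. -/
theorem Compl.orbit_count (hC : Compl P M hB) (hk : Module.finrank F (ι → F) = k + 2) (hk3 : 3 ≤ k) :
    Nat.card {y : ι → F // y ≠ 0 ∧ Q y = 0} * q ^ k ≤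
      M.relIndex (El Q) * Nat.card (pointOrbit P M) := by
  classical
  cases nonempty_fintype F
  choose h hh hhv using fun y : {y : ι → F // y ≠ 0 ∧ Q y = 0} =>
    exists_move_vec hB (by omega) P.v_ne y.2.1 (P.hv.trans y.2.2.symm)
  choose s hs using fun x : P.W => exists_siegel hB P.hv (P.mem_W.1 x.2).1
  choose g hg using fun C : El Q ⧸ M.subgroupOf (El Q) => QuotientGroup.mk_surjective C
  let Φ : {y : ι → F // y ≠ 0 ∧ Q y = 0} × P.W → El Q ⧸ M.subgroupOf (El Q) := fun p =>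
    QuotientGroup.mk ⟨h p.1 * s p.2, mul_mem (hh p.1) (siegel_mem_El (hs p.2))⟩
  have hm : ∀ p, (g (Φ p) : Grp Q)⁻¹ * (h p.1 * s p.2) ∈ M := fun p => by
    have := hg (Φ p)
    simpa [Φ, Subgroup.mem_subgroupOf] using QuotientGroup.eq.1 this
  have happ : ∀ p, ap ((g (Φ p) : Grp Q)⁻¹ * (h p.1 * s p.2)) P.v =
      ap (g (Φ p) : Grp Q)⁻¹ (p.1 : ι → F) := fun p => by
    rw [ap_mul, ap_mul, P.fix_siegel (hs p.2), hhv p.1]
  rw [← P.card_W hB hk, ← Nat.card_prod, Subgroup.relIndex, Subgroup.index_eq_card, ← Nat.card_prod]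
  refine Nat.card_le_card_of_injective (fun p => (Φ p, (⟨ap (g (Φ p) : Grp Q)⁻¹ (p.1 : ι → F),
    _, hm p, 1, one_ne_zero, by rw [one_smul, happ]⟩ : pointOrbit P M))) ?_
  rintro ⟨y, w⟩ ⟨y', w'⟩ e
  obtain ⟨e1, e2⟩ := Prod.ext_iff.1 e
  have e3 : ap (g (Φ (y, w)) : Grp Q)⁻¹ (y : ι → F) = ap (g (Φ (y', w')) : Grp Q)⁻¹ (y' : ι → F) :=
    congrArg Subtype.val e2
  rw [← show Φ (y, w) = Φ (y', w') from e1] at e3
  obtain rfl : y = y' := Subtype.ext (ap_inj _ e3)
  refine Prod.ext rfl (Subtype.ext ?_)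
  have h1 : (h y * s w)⁻¹ * (h y * s w') ∈ M := by
    have := mul_mem (inv_mem (hm (y, w))) (hm (y, w'))
    rw [← show Φ (y, w) = Φ (y, w') from e1] at this
    rwa [show ((g (Φ (y, w)) : Grp Q)⁻¹ * (h y * s w))⁻¹ * ((g (Φ (y, w)) : Grp Q)⁻¹ * (h y * s w')) =
      (h y * s w)⁻¹ * (h y * s w') by group] at this
  obtain ⟨d, hd⟩ := exists_siegel hB P.hv (v := (w' : ι → F) - w) (by
    rw [b_sub_right, (P.mem_W.1 w'.2).1, (P.mem_W.1 w.2).1, sub_zero])
  have h2 : s w * d = s w' := by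
    have := siegel_mul (hs w) hd
    rw [add_sub_cancel] at this
    exact siegel_unique this (hs w')
  have h0 : (w' : ι → F) - w = 0 := hC.triv _ ⟨P.W.sub_mem w'.2 w.2, hd.2.1, fun l hl => by
    rw [siegel_unique hl hd]
    rwa [← h2, show (h y * s w)⁻¹ * (h y * (s w * d)) = d by group] at h1⟩
  exact (sub_eq_zero.1 h0).symm

/-- With parameters all along the lines to the neighbours, the orbit of the point avoids these lines. -/
theorem Compl.orbit_avoid (hC : Compl P M hB) (hk : Module.finrank F (ι → F) = k + 2) (hk5 : 5 ≤ k)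
    {P₁ : HP Q} (hc : P₁.v ∈ P.W)
    (hbad : ∀ t : F, ∃ x, InM M (P₁.v + t • P.v) x ∧ x ∉ Submodule.span F {P₁.v + t • P.v}) :
    Nat.card (pointOrbit P M) + q * Nat.card {c : ι → F // c ∈ P.W ∧ c ≠ 0 ∧ Q c = 0} ≤
      Nat.card {y : ι → F // y ≠ 0 ∧ Q y = 0} := by
  classical
  cases nonempty_fintype F
  -- every neighbour
  have hall : ∀ c ∈ P.W, Q c = 0 → c ≠ 0 → ∀ t : F, ∃ x, InM M (c + t • P.v) x ∧
      x ∉ Submodule.span F {c + t • P.v} := by
    intro c hcW hcq hc0 t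
    obtain ⟨g, hg, gv, -, gc⟩ := P.exists_move_one hB hk hk5 hc hcW P₁.v_ne hc0
      (P₁.hv.trans hcq.symm)
    obtain ⟨y, hy, s, hs, hsM⟩ := hC.exists_tr hg (a := 1) (by rw [one_smul]; exact gv)
    have hmv : ∀ t' : F, ap (s * g) (P₁.v + t' • P.v) = c + (t' - B c y) • P.v := fun t' => by
      rw [ap_mul, ap_add, ap_smul, gc, gv, ap_add, ap_smul, P.fix_siegel hs, hs.2.2, b_comm c P.v,
        (P.mem_W.1 hcW).1]
      module
    obtain ⟨x, hx, hxn⟩ := hbad (t + B c y)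
    have h1 := inM_conj M hB hsM hx
    rw [hmv, add_sub_cancel_right] at h1
    refine ⟨_, h1, fun hsp => hxn ?_⟩
    obtain ⟨e, he⟩ := Submodule.mem_span_singleton.1 hsp
    have h2 := hmv (t + B c y)
    rw [add_sub_cancel_right] at h2
    rw [← h2, ← ap_smul] at he
    exact Submodule.mem_span_singleton.2 ⟨e, ap_inj _ he⟩
  let Z : Set (ι → F) := {y | y ≠ 0 ∧ Q y = 0}
  let R : Set (ι → F) := {y | ∃ c ∈ P.W, Q c = 0 ∧ c ≠ 0 ∧ ∃ t : F, y = c + t • P.v}
  have hRZ : ∀ y ∈ R, y ∈ Z := by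
    rintro _ ⟨c, hcW, hcq, hc0, t, rfl⟩
    refine ⟨fun e => hc0 ?_, ?_⟩
    · have := congrArg P.pW e
      rw [P.pW_add, P.pW_smul, P.pW_v, smul_zero, add_zero, P.pW_of_mem hcW] at this
      rw [this, HP.pW, b_zero_right, b_zero_right, zero_smul, zero_smul, sub_zero, sub_zero]
    · rw [q_add, q_smul, hcq, P.hv, b_smul_right, b_comm c, (P.mem_W.1 hcW).1]; ring
  have hSZ : ∀ y ∈ pointOrbit P M, y ∈ Z ∧ y ∉ R := by
    rintro _ ⟨m, hm, a, ha, rfl⟩
    refine ⟨⟨smul_ne_zero ha fun e => P.v_ne (ap_inj m (by rw [e, ap_zero])),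
      by rw [q_smul, ap_q, P.hv, mul_zero]⟩, ?_⟩
    rintro ⟨c, hcW, hcq, hc0, t, e⟩
    obtain ⟨x, hx, hxn⟩ := hall c hcW hcq hc0 t
    rw [← e] at hx hxn
    have h1 := inM_conj M hB (inv_mem hm) hx
    rw [ap_smul, ap_inv_ap, inM_smul_iff M hB P.hv ha, ← ap_smul] at h1
    have h2 := hC.triv _ (P.pW_mem_A M hB h1)
    have h3 := P.eq_pW h1.1
    rw [h2, zero_add] at h3
    refine hxn (Submodule.mem_span_singleton.2 ⟨a⁻¹ * a⁻¹ * B P.f (ap m⁻¹ (a • x)), ?_⟩)
    have h4 := congrArg (ap m) h3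
    rw [ap_ap_inv, ap_smul] at h4
    refine smul_right_injective _ ha ?_
    show a • ((a⁻¹ * a⁻¹ * B P.f (ap m⁻¹ (a • x))) • a • ap m P.v) = a • x
    refine Eq.trans ?_ h4.symm
    rw [smul_smul, smul_smul]
    congr 1
    field_simp
  have h4 : Nat.card (F × {c : ι → F // c ∈ P.W ∧ c ≠ 0 ∧ Q c = 0}) ≤ Nat.card R := by
      refine Nat.card_le_card_of_injective (fun p => (⟨(p.2 : ι → F) + p.1 • P.v,
        _, p.2.2.1, p.2.2.2.2, p.2.2.2.1, p.1, rfl⟩ : R)) fun a b e => ?_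
      have e' : (a.2 : ι → F) + a.1 • P.v = (b.2 : ι → F) + b.1 • P.v :=
        congrArg (fun z : R => (z : ι → F)) e
      have e1 := congrArg P.pW e'
      rw [P.pW_add, P.pW_add, P.pW_smul, P.pW_smul, P.pW_v, smul_zero, smul_zero, add_zero, add_zero,
        P.pW_of_mem a.2.2.1, P.pW_of_mem b.2.2.1] at e1
      rw [e1] at e'
      exact Prod.ext (smul_left_injective F P.v_ne (add_left_cancel e')) (Subtype.ext e1)
  rw [Nat.card_prod] at h4
  have hS : Nat.card (pointOrbit P M) + Nat.card R ≤ Nat.card Z := by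
    rw [← Nat.card_sum]
    refine Nat.card_le_card_of_injective (Sum.elim (fun y => (⟨y.1, (hSZ _ y.2).1⟩ : Z))
      fun y => ⟨y.1, hRZ _ y.2⟩) ?_
    rintro (a | a) (b | b) e <;>
      have e' := congrArg (fun z : Z => (z : ι → F)) e <;> simp only [Sum.elim_inl, Sum.elim_inr] at e'
    · exact congrArg Sum.inl (Subtype.ext e')
    · exact absurd (e'.symm ▸ b.2) (hSZ _ a.2).2
    · exact absurd (e' ▸ a.2) (hSZ _ b.2).2
    · exact congrArg Sum.inr (Subtype.ext e')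
  exact (Nat.add_le_add_left h4 _).trans hS

/-- In dimension seven over three elements: parameters all along the lines to the neighbours. -/
theorem five_bound (hC : Compl P M hB) (hk : Module.finrank F (ι → F) = 5 + 2) (h3 : q = 3)
    {T : ℕ} (hT : T * 488 ≤ 243 * 728) {P₁ : HP Q} (hc : P₁.v ∈ P.W)
    (hbad : ∀ t : F, ∃ x, InM M (P₁.v + t • P.v) x ∧ x ∉ Submodule.span F {P₁.v + t • P.v}) :
    T ≤ M.relIndex (El Q) := by
  classical
  cases nonempty_fintype F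
  have hW : Module.finrank F P.W = 5 := by have := P.finrank_W hB; omega
  have h1 : q * lev Q P.W 0 = q ^ 5 :=
    (lev_bound hB 5 P.W (P.nondeg hB) hW 0).2.2 ⟨2, rfl⟩ rfl
  have h2 : q * lev Q (⊤ : Submodule F (ι → F)) 0 = q ^ 7 :=
    (lev_bound hB 7 ⊤ (nondegOn_top hB) (by rw [finrank_top, hk]) 0).2.2 ⟨3, rfl⟩ rfl
  have h4 := hC.orbit_avoid hk le_rfl hc hbad
  have h5 := lev_le_nonzero (Q := Q) P.W
  have h6 := card_nonzero_zero (Q := Q)
  rw [h3] at h1 h2 h4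
  have h := hC.orbit_count hk (by norm_num)
  rw [h3, show Nat.card {y : ι → F // y ≠ 0 ∧ Q y = 0} = 728 by omega] at h
  refine Nat.le_of_mul_le_mul_right (hT.trans ?_) (show 0 < 488 by norm_num)
  have h8 : M.relIndex (El Q) * Nat.card (pointOrbit P M) ≤ M.relIndex (El Q) * 488 :=
    Nat.mul_le_mul_left _ (by omega)
  exact (le_of_eq (by norm_num)).trans (h.trans h8)

/-- The bound over a prime field. -/
theorem index_bound_prime (hB : Nondeg Q) {k T : ℕ} (hk : Module.finrank F (ι → F) = k + 2)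
    (hk5 : 5 ≤ k) (hp : Nat.Prime q)
    (hcase : ∀ P : HP Q, 7 ≤ k ∨ (6 ≤ k ∧ ¬ HasHalf Q P.W 3) ∨ (k = 5 ∧ q = 3))
    (hfive : k = 5 → q = 3 ∧ T * 488 ≤ 243 * 728)
    {M : Subgroup (Grp Q)} (hM : ¬ El Q ≤ M) (hN : Nums Q k T) :
    T ≤ M.relIndex (El Q) := by
  by_contra hlt
  obtain ⟨P, hP⟩ := exists_open_point hB (by omega) hM
  obtain ⟨P₁, h₁⟩ := (point_cases M hB P hk hk5 hN.num hP).resolve_left hlt
  obtain ⟨P₂, h₂⟩ : ∃ P₂ : HP Q, Compl P₂ M hB := by
    rcases (few_cases M hB P₁ hk hk5 hN.num h₁).resolve_left hlt with h | ⟨hk6, h⟩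
    · exact ⟨_, h⟩
    rcases hk6 with rfl | ⟨h2, rfl⟩
    swap
    · refine absurd (eight_bound hk h2 (h.trans (by rw [h2]; norm_num)) ?_) hlt
      have := hN.num.twice
      rw [h2] at this
      exact this.trans (by norm_num)
    rw [show (6 : ℕ) / 2 = 3 by norm_num] at h
    obtain ⟨P₃, h₃⟩ := (six_cases hk hM hN.totals (hN.six rfl) h).resolve_left hlt
    have h4 : q ^ 2 < q ^ 3 := Nat.pow_lt_pow_right (two_le_card (F := F)) (by norm_num)
    rcases (few_cases M hB P₃ hk hk5 hN.num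
      (show Nat.card (P₃.A M hB) ≤ q ^ (6 / 2) by norm_num; omega)).resolve_left hlt with h | ⟨-, h⟩
    · exact ⟨_, h⟩
    · rw [show (6 : ℕ) / 2 = 3 by norm_num] at h
      omega
  obtain ⟨r, hr, hpure⟩ := exists_pure_prime h₂ hk hk5 fun R hRv hRf => by
    rcases h₂.local_cases hp hk hk5 ((hcase P₂).imp id (Or.imp id Or.inl)) (P₁ := R) hRv hRf with
      h | ⟨rfl | ⟨rfl, h2, hH⟩, hbad⟩
    · exact h
    · exact absurd (five_bound h₂ hk (hfive rfl).1 (hfive rfl).2 hRv hbad) hlt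
    · rcases hcase P₂ with h | ⟨-, h⟩ | ⟨h, -⟩
      · omega
      · exact absurd hH h
      · omega
  obtain ⟨e1, e2⟩ := conjM_index (M := M) hr
  exact hlt (e1 ▸ hpure.bound hk hk5 (fun h => hM (e2.1 h)) (Or.inr hN.num) hN.totals hN.plane)

end CfsgLib.MinIndexOrth
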