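import Cfsg.Agent.Lib.MinIndexOrth.Three
import Cfsg.Agent.Lib.OrthAut.Standard

/-!
The least index for the forms of minus type, with at least three elements.
-/

set_option autoImplicit false
set_option linter.unusedSectionVars false

namespace CfsgLib.MinIndexOrth

open CfsgLib.Orth

variable {F : Type*} [Field F] [Finite F]

local notation "q" => Nat.card F

section

variable {ι : Type} [Fintype ι] [DecidableEq ι] {Q : QuadraticForm F (ι → F)}

/-- The stabiliser of a singular point. -/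
theorem exists_point_index (hB : Nondeg Q) (hn : 5 ≤ Module.finrank F (ι → F)) {T : ℕ}
    (hpts : Nat.card {y : ι → F // y ≠ 0 ∧ Q y = 0} = T * (q - 1)) :
    ∃ H : Subgroup (Cfsg.POmega F ⇑Q), H.index = T := by
  classical
  cases nonempty_fintype F
  obtain ⟨z, -, hz, hzq⟩ := exists_singular (Q := Q) (U := ⊤) (by rw [finrank_top]; omega)
  refine exists_line_index hB hn hz ?_
  rw [hzq, hpts, Nat.card_congr (Equiv.subtypeEquivRight fun t : F =>
      show (t ≠ 0 ∧ t * t * (0 : F) = 0) ↔ t ≠ 0 by simp),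
    Nat.card_eq_fintype_card (α := {t : F // t ≠ 0}), Fintype.card_subtype_compl,
    Fintype.card_subtype_eq, Nat.card_eq_fintype_card]

end

variable {j : ℕ} {a b : F} {Q : QuadraticForm F ((Fin j ⊕ Fin j) ⊕ Fin 2 → F)}

theorem minus_dim : Module.finrank F ((Fin j ⊕ Fin j) ⊕ Fin 2 → F) = 2 * j + 2 := by
  simp [Fintype.card_sum]; omega

theorem minus_no_half (hab : ∀ z₁ z₂ : F, z₁ ^ 2 + a * z₁ * z₂ + b * z₂ ^ 2 = 0 → z₁ = 0 ∧ z₂ = 0)
    (hQ : ⇑Q = Cfsg.quadFormMinus j F a b) : ¬ HasHalf Q ⊤ (j + 1) := by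
  rintro ⟨X, -, hX, hXd⟩
  have := CfsgLib.OrthAut.minus_singular_le j hab X fun x hx => by rw [← hQ]; exact hX x hx
  omega

/-- Nor has the space of a point a half subspace. -/
theorem minus_no_half_point (hab : ∀ z₁ z₂ : F, z₁ ^ 2 + a * z₁ * z₂ + b * z₂ ^ 2 = 0 → z₁ = 0 ∧ z₂ = 0)
    (hQ : ⇑Q = Cfsg.quadFormMinus j F a b) (P : HP Q) : ¬ HasHalf Q P.W j := by
  rintro ⟨X, hXW, hX, hXd⟩
  refine minus_no_half hab hQ ⟨X ⊔ Submodule.span F {P.v}, le_top, fun x hx => ?_, ?_⟩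
  · obtain ⟨u, hu, w, hw, rfl⟩ := Submodule.mem_sup.1 hx
    obtain ⟨c, rfl⟩ := Submodule.mem_span_singleton.1 hw
    rw [q_add, q_smul, hX u hu, P.hv, b_smul_right, b_comm u P.v, (P.mem_W.1 (hXW hu)).1]
    ring
  · have h1 : X ⊓ Submodule.span F {P.v} = ⊥ := (Submodule.eq_bot_iff _).2 fun x hx => by
      obtain ⟨c, rfl⟩ := Submodule.mem_span_singleton.1 hx.2
      have h := (P.mem_W.1 (hXW hx.1)).2
      rw [b_smul_right, P.hfv, mul_one] at h
      rw [h, zero_smul]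
    have h2 := Submodule.finrank_sup_add_finrank_inf_eq X (Submodule.span F {P.v})
    rw [h1, finrank_bot, finrank_span_singleton P.v_ne] at h2
    omega

theorem minus_points
    (hab : ∀ z₁ z₂ : F, z₁ ^ 2 + a * z₁ * z₂ + b * z₂ ^ 2 = 0 → z₁ = 0 ∧ z₂ = 0)
    (hQ : ⇑Q = Cfsg.quadFormMinus j F a b) (hB : Nondeg Q) :
    Nat.card {y : (Fin j ⊕ Fin j) ⊕ Fin 2 → F // y ≠ 0 ∧ Q y = 0} =
      (q ^ (j + 1) + 1) * (q ^ j - 1) / (q - 1) * (q - 1) := by
  classical
  cases nonempty_fintype F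
  have hq := two_le_card (F := F)
  have hd : Module.finrank F (⊤ : Submodule F ((Fin j ⊕ Fin j) ⊕ Fin 2 → F)) = 2 * (j + 1) := by
    rw [finrank_top, minus_dim]; ring
  have e := ((lev_zero_even hB (j + 1) ⊤ (nondegOn_top hB) hd).resolve_left
    fun h => minus_no_half hab hQ h.1).2
  rw [← card_nonzero_zero] at e
  rw [Nat.div_mul_cancel (Dvd.dvd.mul_left (sub_one_mul_geom j) _)]
  refine Nat.eq_of_mul_eq_mul_left (show 0 < q by omega) ?_
  zify [Nat.one_le_pow j q (by omega)]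
  have e' : (q : ℤ) * ((Nat.card {y : (Fin j ⊕ Fin j) ⊕ Fin 2 → F // y ≠ 0 ∧ Q y = 0} : ℤ) + 1) +
      (q : ℤ) ^ (j + 1 + 1) = (q : ℤ) ^ (2 * (j + 1)) + (q : ℤ) ^ (j + 1) := by exact_mod_cast e
  linear_combination e'

/-- The bound for at least three elements. -/
theorem pomega_minus_of_three (hj : 3 ≤ j) (hq : 3 ≤ q)
    (hab : ∀ z₁ z₂ : F, z₁ ^ 2 + a * z₁ * z₂ + b * z₂ ^ 2 = 0 → z₁ = 0 ∧ z₂ = 0)
    (hQ : ⇑Q = Cfsg.quadFormMinus j F a b) (hB : Nondeg Q) :
    (∀ H : Subgroup (Cfsg.POmega F ⇑Q), H ≠ ⊤ → (q ^ (j + 1) + 1) * (q ^ j - 1) / (q - 1) ≤ H.index) ∧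
      ∃ H : Subgroup (Cfsg.POmega F ⇑Q), H.index = (q ^ (j + 1) + 1) * (q ^ j - 1) / (q - 1) := by
  classical
  cases nonempty_fintype F
  obtain ⟨T, hTdef⟩ : ∃ T, T = (q ^ (j + 1) + 1) * (q ^ j - 1) / (q - 1) := ⟨_, rfl⟩
  rw [← hTdef]
  have hpts := minus_points hab hQ hB
  rw [← hTdef] at hpts
  have hdiv : T * (q - 1) = (q ^ (j + 1) + 1) * (q ^ j - 1) := by
    rw [hTdef]; exact Nat.div_mul_cancel (Dvd.dvd.mul_left (sub_one_mul_geom j) _)
  have hd : Module.finrank F ((Fin j ⊕ Fin j) ⊕ Fin 2 → F) = 2 * j + 2 := minus_dim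
  have hjj : q ^ (2 * j + 1) = q ^ (j + 1) * q ^ j := by rw [← pow_add]; ring_nf
  have hmono : q ^ j ≤ q ^ (j + 1) := Nat.pow_le_pow_right (by omega) (by omega)
  have hle : T * (q - 1) + 1 ≤ q ^ (2 * j + 1) + q ^ j := by
    rw [hdiv, hjj, add_mul, one_mul, Nat.mul_sub, mul_one]
    have h1 : q ^ (j + 1) ≤ q ^ (j + 1) * q ^ j := Nat.le_mul_of_pos_right _ (pow_pos (by omega) _)
    have h2 := Nat.one_le_pow j q (by omega)
    omega
  by_cases h4 : 4 ≤ q
  · refine pomega_min hB hd (by omega) h4 hpts ?_ fun h => ?_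
    · rw [show 2 * j / 2 + 1 = j + 1 by omega]
      omega
    · obtain rfl : j = 3 := by omega
      rw [hdiv]
      zify [Nat.one_le_pow 3 q (by omega), Nat.one_le_pow 4 q (by omega)]
      have : (q : ℤ) ^ 3 ≤ (q : ℤ) ^ (3 + 1) := by exact_mod_cast hmono
      linear_combination 2 * this
  have h3 : q = 3 := by omega
  rw [h3] at hle hdiv hmono hjj
  have hp : Nat.Prime q := by rw [h3]; norm_num
  rw [show (3 : ℕ) - 1 = 2 from rfl] at hle hdiv
  have h2T : 2 * T ≤ 3 ^ (2 * j + 1) := by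
    have h2 := Nat.one_le_pow j 3 (by omega)
    have h5 : 3 ^ (2 * j + 1) = 3 ^ (j + 1) * 3 ^ j := hjj
    rw [add_mul, one_mul, Nat.mul_sub, mul_one] at hdiv
    have h6 : 3 ^ (j + 1) ≤ 3 ^ (j + 1) * 3 ^ j := Nat.le_mul_of_pos_right _ (pow_pos (by omega) _)
    rw [h5]
    generalize 3 ^ (j + 1) * 3 ^ j = A at hdiv h6 ⊢
    generalize 3 ^ (j + 1) = B' at hdiv h6 hmono
    generalize 3 ^ j = C at hdiv hmono h2
    omega
  obtain ⟨hnum, hplane⟩ := num_three (k := 2 * j) (T := T) (by omega) h2T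
  have htot : Totals Q T := by
    refine ⟨hpts.ge, fun c hc => ?_⟩
    have h := lev_minus_ge hB (Or.inr h3) (j + 1) ⊤ (nondegOn_top hB)
      (by rw [finrank_top, hd]; ring) (minus_no_half hab hQ) c hc
    rw [scalars_three h3 hc, card_nonzero_eq hc, mul_comm]
    rw [h3, show 2 * (j + 1) = 2 * j + 1 + 1 by ring, pow_succ' 3 (2 * j + 1), pow_succ' 3 j] at h
    omega
  have hN : Nums Q (2 * j) T := ⟨h3.symm ▸ hnum, htot, by rw [h3]; exact hplane, fun h => by
    obtain rfl : j = 3 := by omega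
    rw [h3]
    refine num6_three F (fun e => ?_) (by norm_num at hdiv; omega)
    exact one_ne_zero (α := F) (by linear_combination three_eq_zero h3 - e)⟩
  refine ⟨pomega_lower hB (by omega) fun M hM => index_bound_prime hB hd (by omega) hp
    (fun P => ?_) (fun h5 => absurd h5 (by omega)) hM hN, exists_point_index hB (by omega) hpts⟩
  by_cases h : j = 3
  · subst h
    refine Or.inr (Or.inl ⟨le_rfl, minus_no_half_point hab hQ P⟩)
  · exact Or.inl (by omega)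

end CfsgLib.MinIndexOrth
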