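import Cfsg.Agent.Lib.MinIndexOrth.Tool

/-!
Vectors, and second vectors, of given values in the complement of a hyperbolic pair.
-/

set_option autoImplicit false
set_option linter.unusedSectionVars false

namespace CfsgLib.MinIndexOrth

open CfsgLib.Orth

variable {F : Type*} [Field F] [Finite F] {ι : Type} [Fintype ι] [DecidableEq ι]
variable {Q : QuadraticForm F (ι → F)}

local notation "B" => QuadraticMap.polar (DFunLike.coe Q)
local notation "q" => Nat.card F

/-- A lower bound for the non-zero vectors with a given value. -/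
def L1 (Fq k : ℕ) : ℕ := Fq ^ (k - 1) - Fq ^ (k / 2) - 1

/-- A lower bound for the second vectors with given values. -/
def L2 (Fq k : ℕ) : ℕ := Fq ^ (k - 2) - Fq ^ (k / 2) - Fq

theorem div_bound {j a e s : ℕ} (hs : 0 < s) (h : s ^ (j + 1) ≤ s * a + s ^ (e + 1)) :
    s ^ j - s ^ e ≤ a := by
  rw [pow_succ, pow_succ, mul_comm (s ^ j), mul_comm (s ^ e), ← Nat.mul_add] at h
  have := Nat.le_of_mul_le_mul_left h hs
  omega

theorem card_ne_zero (U : Submodule F (ι → F)) (c : F) :
    lev Q U c ≤ Nat.card {x : ι → F // x ∈ U ∧ x ≠ 0 ∧ Q x = c} + 1 := by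
  classical
  have h : Nat.card {x : ι → F // x ∈ U ∧ x ≠ 0 ∧ Q x = c} + 1 =
      Nat.card ({x : ι → F // x ∈ U ∧ x ≠ 0 ∧ Q x = c} ⊕ Unit) := by
    rw [Nat.card_sum, Nat.card_unique (α := Unit)]
  rw [h]
  refine Nat.card_le_card_of_injective (fun x => if h : ((x.1 : U) : ι → F) = 0
    then Sum.inr () else Sum.inl ⟨x.1, x.1.2, h, x.2⟩) fun x y e => ?_
  dsimp only at e
  split_ifs at e with hx hy
  · exact Subtype.ext (Subtype.ext (hx.trans hy.symm))
  · exact Subtype.ext (Subtype.ext (congrArg (fun z : {x : ι → F // x ∈ U ∧ x ≠ 0 ∧ Q x = c} => (z : ι → F))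
      (Sum.inl.inj e)))

theorem le_card_first (hB : Nondeg Q) {U : Submodule F (ι → F)} (hU : NondegOn Q U) {k : ℕ}
    (hk : Module.finrank F U = k) (hk2 : 2 ≤ k) (c : F) :
    L1 q k ≤ Nat.card {x : ι → F // x ∈ U ∧ x ≠ 0 ∧ Q x = c} ∧
      (Odd k → q ^ (k - 1) - 1 ≤ Nat.card {x : ι → F // x ∈ U ∧ x ≠ 0 ∧ Q x = 0}) := by
  obtain ⟨j, rfl⟩ : ∃ j, k = j + 1 := ⟨k - 1, by omega⟩
  have hq := two_le_card (F := F)
  obtain ⟨h1, -, -⟩ := lev_bound hB _ U hU hk c
  have h2 := div_bound (by omega) h1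
  have h3 := card_ne_zero (Q := Q) U c
  refine ⟨?_, fun ho => ?_⟩
  · rw [L1, Nat.add_sub_cancel]
    omega
  · obtain ⟨-, -, h0⟩ := lev_bound hB _ U hU hk 0
    have e := h0 ho rfl
    rw [pow_succ, mul_comm (q ^ j)] at e
    have e' := Nat.eq_of_mul_eq_mul_left (by omega) e
    have h4 := card_ne_zero (Q := Q) U 0
    rw [e'] at h4
    rw [Nat.add_sub_cancel]
    omega

theorem card_span_cond {x : ι → F} (p : (ι → F) → Prop) :
    Nat.card {y : ι → F // y ∈ Submodule.span F {x} ∧ p y} ≤ q := by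
  refine (Nat.card_le_card_of_surjective (fun c : {c : F // p (c • x)} => (⟨c.1 • x,
    Submodule.smul_mem _ _ (Submodule.mem_span_singleton_self x), c.2⟩ :
    {y : ι → F // y ∈ Submodule.span F {x} ∧ p y})) fun y => ?_).trans (Finite.card_subtype_le _)
  obtain ⟨c, hc⟩ := Submodule.mem_span_singleton.1 y.2.1
  exact ⟨⟨c, by rw [hc]; exact y.2.2⟩, Subtype.ext hc⟩

theorem card_outside {U : Submodule F (ι → F)} {x : ι → F} (p : (ι → F) → Prop) :
    Nat.card {y : ι → F // y ∈ U ∧ p y} ≤
      Nat.card {y : ι → F // y ∈ U ∧ y ∉ Submodule.span F {x} ∧ p y} + q := by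
  classical
  refine le_trans ?_ (Nat.add_le_add_left (card_span_cond (x := x) p) _)
  rw [← Nat.card_sum]
  refine Nat.card_le_card_of_injective (fun y => if h : (y : ι → F) ∈ Submodule.span F {x}
    then Sum.inr ⟨y, h, y.2.2⟩ else Sum.inl ⟨y, y.2.1, h, y.2.2⟩) fun a b e => ?_
  by_cases ha : (a : ι → F) ∈ Submodule.span F {x} <;>
    by_cases hb : (b : ι → F) ∈ Submodule.span F {x} <;>
    simp only [dif_pos, dif_neg, ha, hb, not_false_eq_true, reduceCtorEq, Sum.inl.injEq, Sum.inr.injEq,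
      Subtype.mk.injEq] at e
  · exact Subtype.ext e
  · exact Subtype.ext e

/-- Second vectors through a non-degenerate plane at the first. -/
theorem card_plane (hB : Nondeg Q) {U : Submodule F (ι → F)} (hU : NondegOn Q U) {j : ℕ}
    (hk : Module.finrank F U = j + 2) {x x' : ι → F} (hx : x ∈ U) (hx' : x' ∈ U)
    (hxx' : B x x' = 1) (hdet : 4 * Q x * Q x' - 1 ≠ 0) (β γ : F) :
    q ^ (j + 1) ≤ q * Nat.card {y : ι → F // y ∈ U ∧ B x y = β ∧ Q y = γ} + q * q ^ (j / 2 + 1) ∧
      (Q x = 0 → β = 0 → Odd j → γ = 0 →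
        q ^ (j + 1) = q * Nat.card {y : ι → F // y ∈ U ∧ B x y = β ∧ Q y = γ}) := by
  classical
  cases nonempty_fintype F
  obtain ⟨U', hU'⟩ : ∃ U', U' = relOrth Q U (Submodule.span F ({x, x'} : Set (ι → F))) := ⟨_, rfl⟩
  have hmem : ∀ z, z ∈ U' ↔ z ∈ U ∧ B x z = 0 ∧ B x' z = 0 := fun z => by
    rw [hU', relOrth, Submodule.mem_inf, mem_orth_span]; simp
  have hx'x : B x' x = 1 := by rw [b_comm, hxx']
  obtain ⟨D, hD⟩ : ∃ D, D = 4 * Q x * Q x' - 1 := ⟨_, rfl⟩
  rw [← hD] at hdet
  have hproj : ∀ y ∈ U, y - ((2 * Q x' * B x y - B x' y) / D) • x -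
      ((2 * Q x * B x' y - B x y) / D) • x' ∈ U' := fun y hy => by
    refine (hmem _).2 ⟨U.sub_mem (U.sub_mem hy (U.smul_mem _ hx)) (U.smul_mem _ hx'), ?_, ?_⟩
    · rw [b_sub_right, b_sub_right, b_smul_right, b_smul_right, b_self, hxx']
      field_simp
      rw [hD]; ring
    · rw [b_sub_right, b_sub_right, b_smul_right, b_smul_right, b_self, hx'x]
      field_simp
      rw [hD]; ring
  have hU'n : NondegOn Q U' := fun z hz h => hU z ((hmem z).1 hz).1 fun y hy => by
    have h1 := h _ (hproj y hy)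
    rw [b_sub_right, b_sub_right, b_smul_right, b_smul_right, b_comm z x, ((hmem z).1 hz).2.1,
      b_comm z x', ((hmem z).1 hz).2.2] at h1
    linear_combination h1
  have hdim : Module.finrank F U' = j := by
    let e : U ≃ₗ[F] U' × F × F :=
      { toFun := fun y => (⟨_, hproj y y.2⟩, (2 * Q x' * B x (y : ι → F) - B x' (y : ι → F)) / D,
          (2 * Q x * B x' (y : ι → F) - B x (y : ι → F)) / D)
        map_add' := fun a b => by
          refine Prod.ext (Subtype.ext ?_) (Prod.ext ?_ ?_)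
          all_goals simp only [Submodule.coe_add, b_add_right, Prod.fst_add, Prod.snd_add]
          · module
          all_goals ring
        map_smul' := fun a b => by
          refine Prod.ext (Subtype.ext ?_) (Prod.ext ?_ ?_)
          all_goals simp only [Submodule.coe_smul, b_smul_right, RingHom.id_apply, Prod.smul_fst,
            Prod.smul_snd, smul_eq_mul]
          · module
          all_goals ring
        invFun := fun w => ⟨(w.1 : ι → F) + w.2.1 • x + w.2.2 • x',
          U.add_mem (U.add_mem ((hmem _).1 w.1.2).1 (U.smul_mem _ hx)) (U.smul_mem _ hx')⟩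
        left_inv := fun y => Subtype.ext (by dsimp only; abel)
        right_inv := fun w => by
          obtain ⟨-, h1, h2⟩ := (hmem _).1 w.1.2
          have e1 : (2 * Q x' * B x ((w.1 : ι → F) + w.2.1 • x + w.2.2 • x') -
              B x' ((w.1 : ι → F) + w.2.1 • x + w.2.2 • x')) / D = w.2.1 := by
            rw [div_eq_iff hdet]
            simp only [b_add_right, b_smul_right, h1, h2, hxx', hx'x, b_self]
            rw [hD]; ring
          have e2 : (2 * Q x * B x' ((w.1 : ι → F) + w.2.1 • x + w.2.2 • x') -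
              B x ((w.1 : ι → F) + w.2.1 • x + w.2.2 • x')) / D = w.2.2 := by
            rw [div_eq_iff hdet]
            simp only [b_add_right, b_smul_right, h1, h2, hxx', hx'x, b_self]
            rw [hD]; ring
          refine Prod.ext (Subtype.ext ?_) (Prod.ext e1 e2)
          dsimp only
          rw [e1, e2]
          abel }
    have := e.finrank_eq
    rw [Module.finrank_prod, Module.finrank_prod, Module.finrank_self, hk] at this
    omega
  -- the vectors are parametrised by the coefficient of the first and a vector of the rest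
  have hval : ∀ (a b : F), ∀ u ∈ U', B x (u + a • x + b • x') = 2 * a * Q x + b ∧
      Q (u + a • x + b • x') = Q u + a * a * Q x + b * b * Q x' + a * b := by
    intro a b u hu
    obtain ⟨-, h1, h2⟩ := (hmem u).1 hu
    refine ⟨?_, ?_⟩
    · rw [b_add_right, b_add_right, b_smul_right, b_smul_right, h1, hxx', b_self]; ring
    · rw [q_add, q_add, q_smul, q_smul, b_add_left, b_smul_left, b_smul_right, b_smul_right,
        b_smul_right, b_comm u x, h1, b_comm u x', h2, hxx']
      ring
  let cc : F → F := fun a => γ - a * a * Q x - (β - 2 * a * Q x) * (β - 2 * a * Q x) * Q x' -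
    a * (β - 2 * a * Q x)
  have ecard : Nat.card {y : ι → F // y ∈ U ∧ B x y = β ∧ Q y = γ} = ∑ a : F, lev Q U' (cc a) := by
    show _ = ∑ a : F, Nat.card {u : U' // Q (u : ι → F) = cc a}
    rw [← Nat.card_sigma]
    refine (Nat.card_congr (Equiv.ofBijective (fun p : (a : F) × {u : U' // Q (u : ι → F) = cc a} =>
      (⟨((p.2.1 : U') : ι → F) + p.1 • x +
      (β - 2 * p.1 * Q x) • x', U.add_mem (U.add_mem ((hmem _).1 p.2.1.2).1 (U.smul_mem _ hx))
        (U.smul_mem _ hx'), ?_, ?_⟩ : {y : ι → F // y ∈ U ∧ B x y = β ∧ Q y = γ})) ⟨?_, ?_⟩)).symm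
    · rw [(hval _ _ _ p.2.1.2).1]; ring
    · rw [(hval _ _ _ p.2.1.2).2, p.2.2]; simp only [cc]; ring
    · rintro ⟨a, u, hu⟩ ⟨a', u', hu'⟩ e
      have e' : (u : ι → F) + a • x + (β - 2 * a * Q x) • x' =
        (u' : ι → F) + a' • x + (β - 2 * a' * Q x) • x' := congrArg Subtype.val e
      have e1 := congrArg (B x') e'
      simp only [b_add_right, b_smul_right, ((hmem _).1 u.2).2.2, ((hmem _).1 u'.2).2.2, hx'x,
        b_self] at e1
      have ha : a = a' := by
        refine sub_eq_zero.1 ((mul_eq_zero.1 (?_ : D * (a - a') = 0)).resolve_left hdet)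
        rw [hD]; linear_combination -e1
      subst ha
      have hu0 : u = u' := Subtype.ext (add_right_cancel (add_right_cancel e'))
      subst hu0
      rfl
    · rintro ⟨y, hy, rfl, rfl⟩
      have hu := hproj y hy
      have h3 := hval ((2 * Q x' * B x y - B x' y) / D) ((2 * Q x * B x' y - B x y) / D) _ hu
      rw [show y - ((2 * Q x' * B x y - B x' y) / D) • x - ((2 * Q x * B x' y - B x y) / D) • x' +
        ((2 * Q x' * B x y - B x' y) / D) • x + ((2 * Q x * B x' y - B x y) / D) • x' = y by abel] at h3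
      have e : B x y - 2 * ((2 * Q x' * B x y - B x' y) / D) * Q x =
          (2 * Q x * B x' y - B x y) / D := by linear_combination h3.1
      refine ⟨⟨(2 * Q x' * B x y - B x' y) / D, ⟨_, hu⟩, ?_⟩, Subtype.ext ?_⟩
      · simp only [cc, e]
        linear_combination -h3.2
      · dsimp only
        rw [e]
        abel
  refine ⟨?_, fun h0 hβ ho hγ => ?_⟩
  · have hb : ∀ a : F, q ^ j ≤ q * lev Q U' (cc a) + q ^ (j / 2 + 1) := fun a =>
      (lev_bound hB j U' hU'n hdim (cc a)).1
    have h := Finset.sum_le_sum (s := Finset.univ) fun a _ => hb a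
    rw [Finset.sum_const, Finset.sum_add_distrib, Finset.sum_const, ← Finset.mul_sum, ← ecard,
      smul_eq_mul, smul_eq_mul, Finset.card_univ, ← Nat.card_eq_fintype_card] at h
    rwa [pow_succ, mul_comm (q ^ j)]
  · have hb : ∀ a : F, q * lev Q U' (cc a) = q ^ j := fun a =>
      (lev_bound hB j U' hU'n hdim (cc a)).2.2 ho (by simp only [cc, h0, hβ, hγ]; ring)
    rw [ecard, Finset.mul_sum, Finset.sum_congr rfl fun a _ => hb a, Finset.sum_const,
      Finset.card_univ, smul_eq_mul, ← Nat.card_eq_fintype_card, pow_succ, mul_comm]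

/-- A plane at a vector. -/
theorem exists_plane_at (hB : Nondeg Q) {U : Submodule F (ι → F)} (hU : NondegOn Q U)
    (hd : 3 ≤ Module.finrank F U) {x : ι → F} (hx : x ∈ U) (hx0 : x ≠ 0) :
    ∃ x' ∈ U, B x x' = 1 ∧ 4 * Q x * Q x' - 1 ≠ 0 := by
  obtain ⟨y, hy, hxy⟩ : ∃ y ∈ U, B x y = 1 := by
    by_contra hc
    push Not at hc
    refine hx0 (hU x hx fun y hy => ?_)
    by_contra h
    exact hc _ (U.smul_mem (B x y)⁻¹ hy) (by rw [b_smul_right, inv_mul_cancel₀ h])
  by_cases h : 4 * Q x * Q y - 1 ≠ 0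
  · exact ⟨y, hy, hxy, h⟩
  push Not at h
  -- shift by a vector orthogonal to both
  obtain ⟨P, hP⟩ : ∃ P, P = Submodule.span F ({x, y} : Set (ι → F)) := ⟨_, rfl⟩
  obtain ⟨z, hz, hz'⟩ : ∃ z ∈ U, B x z = 0 ∧ Q (y + z) ≠ Q y := by
    by_contra hc
    push Not at hc
    have hz0 : ∀ z ∈ U, B x z = 0 → Q z + B y z = 0 := fun z hz hxz => by
      have h1 := hc z hz hxz
      rw [q_add] at h1
      linear_combination h1
    -- the level is linear and quadratic: the orthogonal of the first vector is totally singular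
    have hlin : ∀ z ∈ U, B x z = 0 → ∀ w ∈ U, B x w = 0 → B z w = 0 := fun z hz hxz w hw hxw => by
      have h1 := hz0 _ (U.add_mem hz hw) (by rw [b_add_right, hxz, hxw, add_zero])
      rw [q_add, b_add_right] at h1
      linear_combination h1 - hz0 z hz hxz - hz0 w hw hxw
    obtain ⟨z, hz, hzne⟩ : ∃ z ∈ relOrth Q U (Submodule.span F ({x, y} : Set (ι → F))), z ≠ 0 := by
      refine Submodule.exists_mem_ne_zero_of_ne_bot fun e => ?_
      have h1 := finrank_relOrth hB U (Submodule.span F ({x, y} : Set (ι → F)))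
      rw [e, finrank_bot] at h1
      have h2 : Module.finrank F (Submodule.span F ({x, y} : Set (ι → F))) ≤ 2 := by
        rw [← Matrix.range_cons_cons_empty x y ![]]
        exact (finrank_range_le_card _).trans (by rw [Fintype.card_fin])
      omega
    obtain ⟨hzU, hzP⟩ := mem_relOrth.1 hz
    have hxz : B x z = 0 := hzP x (Submodule.subset_span (Set.mem_insert _ _))
    have hyz : B y z = 0 := hzP y (Submodule.subset_span (Set.mem_insert_of_mem _ rfl))
    refine hzne (hU z hzU fun w hw => ?_)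
    have h1 := hlin z hzU hxz (w - B x w • y) (U.sub_mem hw (U.smul_mem _ hy))
      (by rw [b_sub_right, b_smul_right, hxy, mul_one, sub_self])
    rw [b_sub_right, b_smul_right, b_comm z y, hyz, mul_zero, sub_zero] at h1
    exact h1
  refine ⟨y + z, U.add_mem hy hz, by rw [b_add_right, hxy, hz'.1, add_zero], fun h' => hz'.2 ?_⟩
  have hx1 : 4 * Q x ≠ 0 := fun e => by rw [e, zero_mul, zero_sub, neg_eq_zero] at h; exact one_ne_zero h
  exact mul_left_cancel₀ hx1 (by linear_combination h' - h)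

/-- Second vectors with given values. -/
theorem le_card_second (hB : Nondeg Q) {U : Submodule F (ι → F)} (hU : NondegOn Q U) {k : ℕ}
    (hk : Module.finrank F U = k) (hk3 : 3 ≤ k) {x : ι → F} (hx : x ∈ U) (hx0 : x ≠ 0) (β γ : F) :
    L2 q k ≤ Nat.card {y : ι → F // y ∈ U ∧ y ∉ Submodule.span F {x} ∧ B x y = β ∧ Q y = γ} ∧
      (Q x = 0 → β = 0 → Odd k → γ = 0 → q ^ (k - 2) - q ≤
        Nat.card {y : ι → F // y ∈ U ∧ y ∉ Submodule.span F {x} ∧ B x y = β ∧ Q y = γ}) := by
  obtain ⟨j, rfl⟩ : ∃ j, k = j + 2 := ⟨k - 2, by omega⟩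
  have hq := two_le_card (F := F)
  obtain ⟨x', hx', hxx', hdet⟩ := exists_plane_at hB hU (by omega) hx hx0
  obtain ⟨h1, h2⟩ := card_plane hB hU hk hx hx' hxx' hdet β γ
  have h3 := card_outside (U := U) (x := x) (fun y => B x y = β ∧ Q y = γ)
  refine ⟨?_, fun h0 hβ ho hγ => ?_⟩
  · rw [← pow_succ'] at h1
    have h4 := div_bound (by omega) h1
    rw [L2, Nat.add_sub_cancel, show (j + 2) / 2 = j / 2 + 1 by omega]
    omega
  · have e := h2 h0 hβ (by rcases ho with ⟨w, hw⟩; exact ⟨w - 1, by omega⟩) hγ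
    rw [pow_succ, mul_comm (q ^ j)] at e
    have e' := Nat.eq_of_mul_eq_mul_left (by omega) e
    rw [Nat.add_sub_cancel]
    omega

end CfsgLib.MinIndexOrth
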