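import Cfsg.Agent.Lib.MinIndexOrth.Reach

/-!
Stabilisers of lines, the subgroup containing the stabiliser of a hyperbolic pair, and planes of
annihilators.
-/

set_option autoImplicit false
set_option linter.unusedSectionVars false

namespace CfsgLib.MinIndexOrth

open CfsgLib.Orth

variable {F : Type*} [Field F] [Finite F] {ι : Type} [Fintype ι] [DecidableEq ι]
variable {Q : QuadraticForm F (ι → F)}

local notation "B" => QuadraticMap.polar (DFunLike.coe Q)
local notation "q" => Nat.card F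

/-- A subgroup fixing a line: the vectors of its value are at most the index times the scalars. -/
theorem line_index (hB : Nondeg Q) (hn : 5 ≤ Module.finrank F (ι → F)) {M : Subgroup (Grp Q)}
    {z : ι → F} (hz : z ≠ 0) (hM : ∀ g ∈ M, ∃ c : F, ap g z = c • z) :
    Nat.card {y : ι → F // y ≠ 0 ∧ Q y = Q z} ≤
      M.relIndex (El Q) * Nat.card {t : F // t ≠ 0 ∧ t * t * Q z = Q z} := by
  classical
  choose g hg hgz using fun y : {y : ι → F // y ≠ 0 ∧ Q y = Q z} =>
    exists_move_vec hB hn hz y.2.1 y.2.2.symm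
  let Φ : {y : ι → F // y ≠ 0 ∧ Q y = Q z} → El Q ⧸ M.subgroupOf (El Q) := fun y =>
    QuotientGroup.mk ⟨g y, hg y⟩
  choose p₀ hp₀ using fun c : Set.range Φ => c.2
  have key : ∀ y : {y : ι → F // y ≠ 0 ∧ Q y = Q z}, ∃ t : F, t ≠ 0 ∧ t * t * Q z = Q z ∧ (y : ι → F) = t • (p₀ ⟨Φ y, y, rfl⟩ : ι → F) := by
    intro y
    have h := hp₀ ⟨Φ y, y, rfl⟩
    simp only [Φ, QuotientGroup.eq, Subgroup.mem_subgroupOf, Subgroup.coe_mul, InvMemClass.coe_inv] at h
    obtain ⟨c, hc⟩ := hM _ h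
    rw [ap_mul, hgz] at hc
    have h2 := congrArg (ap (g (p₀ ⟨Φ y, y, rfl⟩))) hc
    rw [ap_ap_inv, ap_smul, hgz] at h2
    refine ⟨c, fun e => y.2.1 (by rw [h2, e, zero_smul]), ?_, h2⟩
    rw [← (p₀ ⟨Φ y, y, rfl⟩).2.2, ← q_smul, ← h2, y.2.2, (p₀ ⟨Φ y, y, rfl⟩).2.2]
  choose t ht0 ht1 ht2 using key
  rw [Subgroup.relIndex, Subgroup.index_eq_card, ← Nat.card_prod]
  refine Nat.card_le_card_of_injective (fun y => (Φ y, ⟨t y, ht0 y, ht1 y⟩)) fun a b e => ?_
  obtain ⟨e1, e2⟩ := Prod.ext_iff.1 e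
  refine Subtype.ext ?_
  have e0 : p₀ ⟨Φ a, a, rfl⟩ = p₀ ⟨Φ b, b, rfl⟩ := congrArg p₀ (Subtype.ext e1)
  rw [ht2 a, ht2 b, e0, show t a = t b from congrArg Subtype.val e2]

/-- The subgroup contains the stabiliser in `Ω` of the pair. -/
structure Pure (P : HP Q) (M : Subgroup (Grp Q)) (hB : Nondeg Q) : Prop where
  triv : ∀ x ∈ P.A M hB, x = 0
  levi : ∀ g ∈ El Q, (∃ c : F, ap g P.v = c • P.v) → (∃ d : F, ap g P.f = d • P.f) → g ∈ M

theorem exists_sq_ne_one (hq : 4 ≤ q) : ∃ c : F, c ≠ 0 ∧ c * c ≠ 1 := by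
  classical
  cases nonempty_fintype F
  by_contra hc
  push Not at hc
  have h : (Finset.univ : Finset F) ⊆ {0, 1, -1} := fun x _ => by
    by_cases hx : x = 0
    · simp [hx]
    rcases mul_self_eq_one_iff.1 (hc x hx) with h | h <;> simp [h]
  have h1 := Finset.card_le_card h
  have h2 : ({0, 1, -1} : Finset F).card ≤ 3 := by
    refine (Finset.card_insert_le _ _).trans (Nat.add_le_add_right ?_ 1)
    exact (Finset.card_insert_le _ _).trans (by rw [Finset.card_singleton])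
  rw [Finset.card_univ, ← Nat.card_eq_fintype_card] at h1
  omega

/-- A complement contains, for another pair at the point, the stabiliser of that pair. -/
theorem exists_pure (hB : Nondeg Q) (hn : 5 ≤ Module.finrank F (ι → F)) (hq : 4 ≤ q) (P : HP Q)
    (M : Subgroup (Grp Q)) (hC : Compl P M hB) : ∃ P' : HP Q, Pure P' M hB := by
  obtain ⟨c, hc0, hc1⟩ := exists_sq_ne_one (F := F) hq
  obtain ⟨t, htEl, htv, htf, htW⟩ := P.exists_torus hB hn hc0
  set l := c * c with hl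
  have hl0 : l ≠ 0 := mul_ne_zero hc0 hc0
  have hl1 : (1 : F) - l ≠ 0 := sub_ne_zero.2 (Ne.symm hc1)
  obtain ⟨y₀, s, hs₀, hsM⟩ := hC.full t htEl ⟨l, htv⟩
  obtain ⟨y, hy, hs⟩ : ∃ y ∈ P.W, IsSiegel P.v y s := by
    refine ⟨P.pW y₀, P.pW_mem _, ?_⟩
    have := siegel_add_self hs₀ (-(B P.f y₀))
    rwa [show y₀ + -(B P.f y₀) • P.v = P.pW y₀ by rw [HP.pW, hs₀.2.1]; module] at this
  obtain ⟨b, hbdef⟩ : ∃ b, b = (1 - l)⁻¹ • y := ⟨_, rfl⟩
  have hb : b ∈ P.W := hbdef ▸ P.W.smul_mem _ hy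
  have hyb : y = (1 - l) • b := by rw [hbdef, smul_smul, mul_inv_cancel₀ hl1, one_smul]
  obtain ⟨hb1, hb2⟩ := P.mem_W.1 hb
  have hf2 : Q (P.f + b - Q b • P.v) = 0 := by
    rw [q_sub, q_add, q_smul, P.hf, P.hv, b_add_left, b_smul_right, b_smul_right, P.hfv, hb2,
      b_comm b P.v, hb1]
    ring
  have hvf2 : B P.v (P.f + b - Q b • P.v) = 1 := by
    rw [b_sub_right, b_add_right, b_smul_right, P.hvf, hb1, b_self_zero P.hv]; ring
  set P' : HP Q := ⟨P.v, P.f + b - Q b • P.v, P.hv, hf2, hvf2⟩ with hP'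
  set m := s * t with hm
  have hsv : ap s P.v = P.v := P.fix_siegel hs
  have hmv : ap m P.v = l • P.v := by rw [hm, ap_mul, htv, ap_smul, hsv]
  have hsW : ∀ x ∈ P.W, ap s x = x - B x y • P.v := fun x hx => by
    rw [hs.2.2, b_comm x P.v, (P.mem_W.1 hx).1]; module
  have hmf : ap m P'.f = l⁻¹ • P'.f := by
    show ap m (P.f + b - Q b • P.v) = l⁻¹ • (P.f + b - Q b • P.v)
    rw [ap_sub, ap_add, ap_smul, hmv, hm, ap_mul, htf, ap_smul, ap_mul, htW b hb, hsW b hb, hs.2.2,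
      P.hfv, (P.mem_W.1 hy).2, hyb, q_smul, b_smul_right, b_self]
    match_scalars
    all_goals field_simp
    all_goals ring
  have hmW : ∀ x ∈ P'.W, ap m x = x := by
    intro x hx
    obtain ⟨h1, h2⟩ := P'.mem_W.1 hx
    have e := P.eq_pW h1
    have h3 : B P.f x = -B b x := by
      have h4 : B (P.f + b - Q b • P.v) x = 0 := h2
      rw [b_sub_left, b_add_left, b_smul_left, show B P.v x = 0 from h1] at h4
      linear_combination h4
    have h5 : B (P.pW x) b = B b x := by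
      rw [HP.pW, b_sub_left, b_sub_left, b_smul_left, b_smul_left, hb1, hb2, b_comm x b]; ring
    conv_lhs => rw [e]
    rw [ap_add, ap_smul, hmv, hm, ap_mul, htW _ (P.pW_mem x), hsW _ (P.pW_mem x)]
    conv_rhs => rw [e]
    rw [hyb, b_smul_right, h5, h3]
    module
  have htriv : ∀ x ∈ P'.A M hB, x = 0 := by
    intro x hx
    have h := hC.triv _ (P.pW_mem_A M hB hx.2)
    have e := P.eq_pW (x := x) hx.2.1
    rw [h, zero_add] at e
    have h2 := (P'.mem_W.1 hx.1).2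
    obtain ⟨c', hc'⟩ : ∃ c', c' = B P.f x := ⟨_, rfl⟩
    rw [← hc'] at e
    rw [e] at h2 ⊢
    rw [b_smul_right, show B P'.f P.v = 1 from P'.hfv, mul_one] at h2
    rw [h2, zero_smul]
  refine ⟨P', htriv, fun g hg ⟨a, ha⟩ ⟨d, hd⟩ => ?_⟩
  obtain ⟨z₀, r, hr₀, hrM⟩ := hC.full g hg ⟨a, ha⟩
  obtain ⟨z, hz, hr⟩ : ∃ z ∈ P'.W, IsSiegel P'.v z r := by
    refine ⟨P'.pW z₀, P'.pW_mem _, ?_⟩
    have := siegel_add_self (show IsSiegel P'.v z₀ r from hr₀) (-(B P'.f z₀))
    rwa [show z₀ + -(B P'.f z₀) • P'.v = P'.pW z₀ by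
      rw [HP.pW, show B P'.v z₀ = 0 from hr₀.2.1]; module] at this
  have ha0 : a ≠ 0 := fun e => P.v_ne (ap_inj g (by rw [ha, e, zero_smul, ap_zero]))
  have hd0 : d ≠ 0 := fun e => by
    have h := ap_b g P'.v P'.f
    rw [ha, hd, e, zero_smul, b_zero_right, P'.hvf] at h
    exact zero_ne_one h
  have hgW : ∀ x ∈ P'.W, ap g x ∈ P'.W := fun x hx => by
    obtain ⟨h1, h2⟩ := P'.mem_W.1 hx
    refine P'.mem_W.2 ⟨?_, ?_⟩
    · have h := ap_b g P'.v x
      rw [ha, b_smul_left, h1] at h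
      exact (mul_eq_zero.1 h).resolve_left ha0
    · have h := ap_b g P'.f x
      rw [hd, b_smul_left, h2] at h
      exact (mul_eq_zero.1 h).resolve_left hd0
  have hgm : g * m = m * g := by
    have k1 : ∀ w ∈ P'.W, ap (g * m) w = ap (m * g) w := fun w hw => by
      rw [ap_mul g m, hmW w hw, ap_mul m g, hmW _ (hgW w hw)]
    have k2 : ap (g * m) P'.v = ap (m * g) P'.v := by
      rw [ap_mul g m, show ap m P'.v = l • P'.v from hmv, ap_smul, ap_mul m g, ha, ap_smul,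
        show ap m P'.v = l • P'.v from hmv, smul_smul, smul_smul, mul_comm]
    have k3 : ap (g * m) P'.f = ap (m * g) P'.f := by
      rw [ap_mul g m, hmf, ap_smul, ap_mul m g, hd, ap_smul, hmf, smul_smul, smul_smul, mul_comm]
    refine ext_ap fun x => ?_
    have e : x = P'.pW x + B P'.f x • P'.v + B P'.v x • P'.f := by rw [HP.pW]; abel
    rw [e, ap_add, ap_add, ap_smul, ap_smul, ap_add (m * g), ap_add (m * g), ap_smul (m * g),
      ap_smul (m * g), k1 _ (P'.pW_mem x), k2, k3]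
  have hcomm : r * g * m * (r * g)⁻¹ * m⁻¹ ∈ M :=
    M.mul_mem (M.mul_mem (M.mul_mem hrM hsM) (M.inv_mem hrM)) (M.inv_mem hsM)
  rw [show r * g * m * (r * g)⁻¹ * m⁻¹ = r * (g * m) * g⁻¹ * r⁻¹ * m⁻¹ by group, hgm,
    show r * (m * g) * g⁻¹ * r⁻¹ * m⁻¹ = r * (m * r⁻¹ * m⁻¹) by group] at hcomm
  obtain ⟨r', hr'⟩ := exists_siegel hB P'.hv (v := -z) (by
    rw [← neg_one_smul F z, b_smul_right, hr.2.1, mul_zero])
  have hri : r⁻¹ = r' := inv_eq_of_mul_eq_one_right (by
    have h1 := siegel_mul hr hr'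
    rw [add_neg_cancel] at h1
    exact siegel_unique h1 (siegel_one P'.hv))
  have hc2 := siegel_conj hr' m
  rw [← hri, show ap m P'.v = l • P'.v from hmv, hmW _ (P'.W.neg_mem hz)] at hc2
  obtain ⟨l', hl'⟩ := exists_siegel hB P'.hv (v := -z) hr'.2.1
  have hc3 := siegel_mul hr (siegel_smul hl' l hc2)
  have hA : z + l • -z ∈ P'.A M hB :=
    ⟨P'.W.add_mem hz (P'.W.smul_mem _ (P'.W.neg_mem hz)), hc3.2.1,
      fun k hk => by rw [siegel_unique hk hc3]; exact hcomm⟩
  have h0 := htriv _ hA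
  rw [show z + l • -z = (1 - l) • z by module] at h0
  have hz0 := (smul_eq_zero.1 h0).resolve_left hl1
  rw [hz0] at hr
  rw [siegel_unique hr (siegel_one P'.hv), one_mul] at hrM
  exact hrM

/-- The index when the annihilator is a hyperbolic plane. -/
theorem plane_index (P : HP Q) (M : Subgroup (Grp Q)) (hB : Nondeg Q) {k : ℕ}
    (hk : Module.finrank F (ι → F) = k + 2) (hk5 : 5 ≤ k) {a b : ι → F} (ha : Q a = 0) (hb : Q b = 0)
    (hab : B a b = 1) (haW : a ∈ P.W) (hbW : b ∈ P.W)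
    (hD : ∀ d, d ∈ perp (Q := Q) P.W (P.A M hB) ↔ d ∈ Submodule.span F ({a, b} : Set (ι → F))) :
    q ^ k * (L1 q k * L2 q k) ≤ M.relIndex (El Q) * (Nat.card (P.A M hB) * (2 * (q - 1))) := by
  classical
  cases nonempty_fintype F
  have hU : Module.finrank F P.W = k := by have := P.finrank_W hB; omega
  have ha0 : a ≠ 0 := fun e => zero_ne_one (α := F) (by rw [← hab, e, b_zero_left])
  have hba : b ∉ Submodule.span F {a} := fun h => by
    obtain ⟨c, rfl⟩ := Submodule.mem_span_singleton.1 h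
    rw [b_smul_right, b_self_zero ha, mul_zero] at hab
    exact zero_ne_one hab
  set D := perp (Q := Q) P.W (P.A M hB)
  set T : Set (Fin 2 → ι → F) := gram P.W Q a b ∩ {t | t 0 ∈ D ∧ t 1 ∈ D} with hT
  have h1 := P.index_tuple M hB T (fun t ht i => by fin_cases i; exacts [ht.1.1.1, ht.1.2.1])
    (fun g hg hgv himg t ht => ?_) (gram P.W Q a b) (fun o ho => ?_)
  · rw [P.card_W hB hk] at h1
    refine (Nat.mul_le_mul_left _ (gram_count hB (P.nondeg hB) hU (by omega) a b).1).trans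
      (h1.trans (Nat.mul_le_mul_left _ (Nat.mul_le_mul_left _ ?_)))
    have hco : ∀ t : T, ∃ p : Bool × {c : F // c ≠ 0}, (t : Fin 2 → ι → F) =
        if p.1 then ![p.2.1 • a, p.2.1⁻¹ • b] else ![p.2.1 • b, p.2.1⁻¹ • a] := by
      rintro ⟨t, ⟨⟨-, ht00, ht0q⟩, -, -, ht01, ht1q⟩, ht0, ht1⟩
      obtain ⟨x, y, e0⟩ := Submodule.mem_span_pair.1 ((hD _).1 ht0)
      obtain ⟨x', y', e1⟩ := Submodule.mem_span_pair.1 ((hD _).1 ht1)
      have hq2 : ∀ x y : F, Q (x • a + y • b) = x * y := fun x y => by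
        rw [q_add, q_smul, q_smul, b_smul_left, b_smul_right, ha, hb, hab]; ring
      rw [← e0, ha, hq2] at ht0q
      rw [← e1, hb, hq2] at ht1q
      rw [← e0, ← e1, hab] at ht01
      simp only [b_add_left, b_add_right, b_smul_left, b_smul_right, b_self_zero ha, b_self_zero hb,
        hab, b_comm b a] at ht01
      rcases mul_eq_zero.1 ht0q with rfl | rfl
      · have hy : y ≠ 0 := fun e => ht00 (by rw [← e0, e, zero_smul, zero_smul, add_zero])
        have hx' : x' = y⁻¹ := eq_inv_of_mul_eq_one_right (by linear_combination ht01)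
        have hy' : y' = 0 := (mul_eq_zero.1 ht1q).resolve_left (by rw [hx']; exact inv_ne_zero hy)
        refine ⟨(false, ⟨y, hy⟩), funext fun i => ?_⟩
        fin_cases i
        · show t 0 = y • b; rw [← e0, zero_smul, zero_add]
        · show t 1 = y⁻¹ • a; rw [← e1, hy', hx', zero_smul, add_zero]
      · have hx : x ≠ 0 := fun e => ht00 (by rw [← e0, e, zero_smul, zero_smul, add_zero])
        have hy' : y' = x⁻¹ := eq_inv_of_mul_eq_one_right (by linear_combination ht01)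
        have hx' : x' = 0 := (mul_eq_zero.1 ht1q).resolve_right (by rw [hy']; exact inv_ne_zero hx)
        refine ⟨(true, ⟨x, hx⟩), funext fun i => ?_⟩
        fin_cases i
        · show t 0 = x • a; rw [← e0, zero_smul, add_zero]
        · show t 1 = x⁻¹ • b; rw [← e1, hx', hy', zero_smul, zero_add]
    choose p hp using hco
    have hne : Nat.card {c : F // c ≠ 0} = q - 1 := by
      rw [Nat.card_eq_fintype_card, Fintype.card_subtype_compl, Fintype.card_subtype_eq,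
        Nat.card_eq_fintype_card]
    calc Nat.card T ≤ Nat.card (Bool × {c : F // c ≠ 0}) :=
          Nat.card_le_card_of_injective p fun s t e => Subtype.ext (by rw [hp s, hp t, e])
      _ = 2 * (q - 1) := by
          rw [Nat.card_prod, hne,
            Nat.card_eq_two_iff.2 ⟨true, false, by simp, by ext b; cases b <;> simp⟩]
  · obtain ⟨⟨⟨a1, a2, a3⟩, b1, b2, b3, b4⟩, c1, c2⟩ := ht
    refine ⟨⟨⟨P.lin_mem _ _, fun e => a2 ?_, (P.lin_q hgv a1).trans a3⟩, P.lin_mem _ _, fun hsp => b2 ?_,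
      (P.lin_b hgv a1 b1).trans b3, (P.lin_q hgv b1).trans b4⟩, P.lin_perp M hB hgv himg c1,
      P.lin_perp M hB hgv himg c2⟩
    · rw [← P.lin_inv hgv a1]
      show P.lin g⁻¹ (P.lin g (t 0)) = 0
      rw [show P.lin g (t 0) = 0 from e, HP.lin, ap_zero, HP.pW, b_zero_right, b_zero_right,
        zero_smul, zero_smul, sub_zero, sub_zero]
    · obtain ⟨c, hc⟩ := Submodule.mem_span_singleton.1 hsp
      refine Submodule.mem_span_singleton.2 ⟨c, ?_⟩
      have hc' : c • P.lin g (t 0) = P.lin g (t 1) := hc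
      rw [← P.lin_inv hgv b1, ← hc',
        show P.lin g⁻¹ (c • P.lin g (t 0)) = c • P.lin g⁻¹ (P.lin g (t 0)) by
          rw [HP.lin, ap_smul, P.pW_smul]; rfl]
      exact congrArg (c • ·) (P.lin_inv hgv a1).symm
  · obtain ⟨g, hg, a1, -, a3, a4⟩ := P.exists_move_two hB hk hk5 haW hbW ho.1.1 ho.2.1 ha0 ho.1.2.1
      hba ho.2.2.1 ho.1.2.2.symm ho.2.2.2.2.symm ho.2.2.2.1.symm
      (Or.inr (Or.inr (Or.inl (by rw [hab]; exact one_ne_zero))))
    refine ⟨g, hg, a1, ![a, b], ⟨⟨⟨haW, ha0, rfl⟩, hbW, hba, rfl, rfl⟩,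
      (hD a).2 (Submodule.subset_span (Set.mem_insert _ _)),
      (hD b).2 (Submodule.subset_span (Set.mem_insert_of_mem _ rfl))⟩, funext fun i => ?_⟩
    fin_cases i
    · show o 0 = P.lin g a
      rw [HP.lin, a3, P.pW_of_mem ho.1.1]
    · show o 1 = P.lin g b
      rw [HP.lin, a4, P.pW_of_mem ho.2.1]

end CfsgLib.MinIndexOrth
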