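import Cfsg.Agent.Lib.MinIndexOrth.SixFull

/-!
Dimension eight: parameters of the critical size.
-/

set_option autoImplicit false
set_option linter.unusedSectionVars false

namespace CfsgLib.MinIndexOrth

open CfsgLib.Orth

variable {F : Type*} [Field F] [Finite F] {ι : Type} [Fintype ι] [DecidableEq ι]
variable {Q : QuadraticForm F (ι → F)}

local notation "B" => QuadraticMap.polar (DFunLike.coe Q)
local notation "q" => Nat.card F

/-- The arithmetic in dimension eight. -/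
structure Num6 (F : Type*) [Field F] (Fq T : ℕ) : Prop where
  skew : T * (Fq ^ 3 - 1) ≤ 2 * (L1 Fq 6 * L2 Fq 6) ∨
    ((2 : F) ≠ 0 ∧ T * (Fq ^ 3 - 1) ≤ 3 * (L1 Fq 6 * L2 Fq 6))
  flat : T * (Fq ^ 2 - 1) ≤ Fq * (L1 Fq 6 * L2 Fq 6)
  half : T ≤ Fq ^ 3 * o3 Fq ∨ (4 ≤ Fq ∧ T ≤ Fq ^ 3 * o3 Fq + o3 Fq)

variable {P : HP Q} {M : Subgroup (Grp Q)} {hB : Nondeg Q} {T : ℕ}

/-- The bound from the pairs inside the parameters. -/
theorem index_pairs_six (hk : Module.finrank F (ι → F) = 6 + 2) {x y : ι → F}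
    (hx : x ∈ P.A M hB) (hy : y ∈ P.A M hB) (hx0 : x ≠ 0) (hyx : y ∉ Submodule.span F {x})
    (hα : Nat.card (P.A M hB) = q ^ 3) {S : ℕ}
    (hS : Nat.card ↥(gram P.W Q x y ∩ {t | t 0 ∈ P.A M hB ∧ t 1 ∈ P.A M hB}) ≤ S) :
    q ^ 3 * (L1 q 6 * L2 q 6) ≤ M.relIndex (El Q) * S := by
  have hW : Module.finrank F P.W = 6 := by have := P.finrank_W hB; omega
  have h1 := (gram_count hB (P.nondeg hB) hW (by norm_num) x y).1
  have h2 := P.pair_orbit hB hk le_rfl (D := (P.A M hB : Set (ι → F))) (fun z hz => hz.1) hx hy hx0 hyx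
  have h3 := P.index_orbit_one M hB
  rw [P.card_W hB hk, hα] at h3
  refine Nat.le_of_mul_le_mul_left ?_ (show 0 < q ^ 3 from pow_pos Nat.card_pos _)
  calc q ^ 3 * (q ^ 3 * (L1 q 6 * L2 q 6)) = q ^ 6 * (L1 q 6 * L2 q 6) := by ring
    _ ≤ q ^ 6 * (Nat.card (P.orbitA M hB) * S) :=
        Nat.mul_le_mul_left _ ((h1.trans h2).trans (Nat.mul_le_mul_left _ hS))
    _ = q ^ 6 * Nat.card (P.orbitA M hB) * S := by ring
    _ ≤ M.relIndex (El Q) * q ^ 3 * S := Nat.mul_le_mul_right _ h3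
    _ = _ := by ring

/-- A level set of a non-zero functional on a finite group. -/
theorem card_fibre_le (A : AddSubgroup (ι → F)) (a : ι → F) {β : F} (hβ : β ≠ 0) :
    2 * Nat.card {y : ι → F // y ∈ A ∧ B a y = β} ≤ Nat.card A ∧
      ((2 : F) ≠ 0 → 3 * Nat.card {y : ι → F // y ∈ A ∧ B a y = β} ≤ Nat.card A) := by
  classical
  rcases isEmpty_or_nonempty {y : ι → F // y ∈ A ∧ B a y = β} with h | ⟨⟨y₁, hy₁, hy₁β⟩⟩
  · simp [Nat.card_of_isEmpty]
  refine ⟨?_, fun h2 => ?_⟩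
  · rw [← Nat.card_fin 2, ← Nat.card_prod]
    refine Nat.card_le_card_of_injective (fun p : Fin 2 × {y : ι → F // y ∈ A ∧ B a y = β} =>
      (![⟨p.2.1, p.2.2.1⟩, ⟨p.2.1 - y₁, A.sub_mem p.2.2.1 hy₁⟩] p.1 : A)) ?_
    rintro ⟨i, y, hy, hyβ⟩ ⟨j, y', hy', hy'β⟩ e
    have e1 := congrArg (fun z : A => B a (z : ι → F)) e
    have e2 := congrArg (fun z : A => (z : ι → F)) e
    fin_cases i <;> fin_cases j <;>
      simp [b_sub_right, hyβ, hy'β, hy₁β] at e1 e2 ⊢
    all_goals first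
      | exact e2
      | exact absurd e1 hβ
      | exact absurd e1.symm hβ
  · have hneg : ∀ z : ι → F, B a (-z) = -(B a z) := fun z => by
      rw [← neg_one_smul F z, b_smul_right, neg_one_mul]
    have hβ2 : β + β ≠ 0 := by rw [← two_mul]; exact mul_ne_zero h2 hβ
    rw [← Nat.card_fin 3, ← Nat.card_prod]
    refine Nat.card_le_card_of_injective (fun p : Fin 3 × {y : ι → F // y ∈ A ∧ B a y = β} =>
      (![⟨p.2.1, p.2.2.1⟩, ⟨p.2.1 - y₁, A.sub_mem p.2.2.1 hy₁⟩, ⟨-p.2.1, A.neg_mem p.2.2.1⟩] p.1 : A)) ?_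
    rintro ⟨i, y, hy, hyβ⟩ ⟨j, y', hy', hy'β⟩ e
    have e1 := congrArg (fun z : A => B a (z : ι → F)) e
    have e2 := congrArg (fun z : A => (z : ι → F)) e
    fin_cases i <;> fin_cases j <;>
      simp [b_sub_right, hneg, hyβ, hy'β, hy₁β]
        at e1 e2 ⊢
    all_goals first
      | exact e2
      | exact absurd e1 hβ
      | exact absurd e1.symm hβ
      | exact absurd (by linear_combination e1 : β + β = 0) hβ2
      | exact absurd (by linear_combination -e1 : β + β = 0) hβ2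

/-- At a point with `q ^ 3` parameters in dimension eight. -/
theorem six_cases (hk : Module.finrank F (ι → F) = 6 + 2) (hM : ¬ El Q ≤ M) (hTot : Totals Q T)
    (hN : Num6 F q T) (hα : Nat.card (P.A M hB) = q ^ 3) :
    T ≤ M.relIndex (El Q) ∨ ∃ P' : HP Q, Nat.card (P'.A M hB) ≤ q ^ 2 := by
  classical
  cases nonempty_fintype F
  have hq := two_le_card (F := F)
  have hq3 : q < q ^ 3 := by
    calc q = q ^ 1 := (pow_one q).symm
      _ < q ^ 3 := Nat.pow_lt_pow_right (by omega) (by norm_num)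
  have hout : ∀ x : ι → F, ∃ y ∈ P.A M hB, y ∉ Submodule.span F {x} := fun x => by
    by_contra hc
    push Not at hc
    have h1 := Nat.card_le_card_of_injective
      (fun y : P.A M hB => (⟨(y : ι → F), hc y y.2⟩ : Submodule.span F {x}))
      fun a b e => Subtype.ext (congrArg (fun z : Submodule.span F {x} => (z : ι → F)) e)
    rw [hα, card_subspace] at h1
    have h2 : Module.finrank F (Submodule.span F {x}) ≤ 1 := (finrank_span_le_card _).trans (by simp)
    have h3 := Nat.pow_le_pow_right (show 0 < q by omega) h2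
    rw [pow_one] at h3
    omega
  by_cases hiso : ∀ x ∈ P.A M hB, ∀ y ∈ P.A M hB, B x y = 0
  swap
  · push Not at hiso
    obtain ⟨x, hx, y, hy, hxy⟩ := hiso
    have hx0 := ne_zero_of_b hxy
    obtain ⟨y, hy, hyx, hxy⟩ : ∃ y ∈ P.A M hB, y ∉ Submodule.span F {x} ∧ B x y ≠ 0 := by
      obtain ⟨z, hz, hzx⟩ := hout x
      by_cases h1 : B x z ≠ 0
      · exact ⟨z, hz, hzx, h1⟩
      push Not at h1
      by_cases h2 : y ∈ Submodule.span F {x}
      · exact ⟨z + y, (P.A M hB).add_mem hz hy,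
          fun h => hzx ((Submodule.add_mem_iff_left _ h2).1 h), by rw [b_add_right, h1, zero_add]; exact hxy⟩
      · exact ⟨y, hy, h2, hxy⟩
    left
    have hT : ∀ d, (∀ a, d * Nat.card {z : ι → F // z ∈ P.A M hB ∧ B a z = B x y} ≤ q ^ 3) →
        T * (q ^ 3 - 1) ≤ d * (L1 q 6 * L2 q 6) → 0 < d → T ≤ M.relIndex (El Q) := by
      intro d hd hle hd0
      have hS : Nat.card ↥(gram P.W Q x y ∩ {t | t 0 ∈ P.A M hB ∧ t 1 ∈ P.A M hB}) ≤
          (q ^ 3 - 1) * (q ^ 3 / d) := by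
        refine card_pairs_le (p := fun a => a ∈ P.A M hB ∧ a ≠ 0)
          (r := fun a b => b ∈ P.A M hB ∧ B a b = B x y)
          (fun t ht => ⟨⟨ht.2.1, ht.1.1.2.1⟩, ht.2.2, ht.1.2.2.2.1⟩) ?_ fun a ha => ?_
        · have : Nat.card {a : ι → F // a ∈ P.A M hB ∧ a ≠ 0} + 1 ≤ Nat.card (P.A M hB) := by
            rw [← Finite.card_option]
            refine Nat.card_le_card_of_injective
              (fun o => o.elim (0 : P.A M hB) fun a => ⟨a.1, a.2.1⟩) ?_
            rintro (_ | a) (_ | b) e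
            · rfl
            · exact absurd (congrArg Subtype.val e).symm b.2.2
            · exact absurd (congrArg Subtype.val e) a.2.2
            · exact congrArg some (Subtype.ext (show (a : ι → F) = b from
                congrArg (fun z : P.A M hB => (z : ι → F)) e))
          omega
        · rw [Nat.le_div_iff_mul_le hd0, mul_comm]; exact hd a
      have h1 := index_pairs_six hk hx hy hx0 hyx hα hS
      refine Nat.le_of_mul_le_mul_right ?_ (show 0 < q ^ 3 - 1 by omega)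
      refine Nat.le_of_mul_le_mul_left ?_ (show 0 < q ^ 3 from pow_pos (by omega) _)
      calc q ^ 3 * (T * (q ^ 3 - 1)) ≤ q ^ 3 * (d * (L1 q 6 * L2 q 6)) := Nat.mul_le_mul_left _ hle
        _ = d * (q ^ 3 * (L1 q 6 * L2 q 6)) := by ring
        _ ≤ d * (M.relIndex (El Q) * ((q ^ 3 - 1) * (q ^ 3 / d))) := Nat.mul_le_mul_left _ h1
        _ = M.relIndex (El Q) * (q ^ 3 - 1) * (q ^ 3 / d * d) := by ring
        _ ≤ M.relIndex (El Q) * (q ^ 3 - 1) * q ^ 3 := Nat.mul_le_mul_left _ (Nat.div_mul_le_self _ _)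
        _ = _ := by ring
    rcases hN.skew with h | ⟨h2, h⟩
    · exact hT 2 (fun a => hα ▸ (card_fibre_le (P.A M hB) a hxy).1) h (by norm_num)
    · exact hT 3 (fun a => hα ▸ (card_fibre_le (P.A M hB) a hxy).2 h2) h (by norm_num)
  -- an isotropic space
  obtain ⟨X, hXdef⟩ : ∃ X, X = Submodule.span F (P.A M hB : Set (ι → F)) := ⟨_, rfl⟩
  have hXo : X ≤ orth Q X := by
    rw [hXdef, Submodule.span_le]
    exact fun a ha => mem_orth_span.2 fun b hb => hiso b hb a ha
  have hXW : X ≤ P.W := hXdef ▸ Submodule.span_le.2 fun a ha => ha.1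
  have hd : Module.finrank F X ≤ 3 := by
    have hv : X ≤ orth Q (Submodule.span F {P.v}) := fun a ha =>
      mem_orth_span.2 fun b hb => by rw [Set.mem_singleton_iff.1 hb]; exact (P.mem_W.1 (hXW ha)).1
    have hs : X ⊔ Submodule.span F {P.v} ≤ orth Q (X ⊔ Submodule.span F {P.v}) := by
      intro w hw
      refine mem_orth.2 fun u hu => ?_
      obtain ⟨a, ha, b, hb, rfl⟩ := Submodule.mem_sup.1 hw
      obtain ⟨a', ha', b', hb', rfl⟩ := Submodule.mem_sup.1 hu
      obtain ⟨s, rfl⟩ := Submodule.mem_span_singleton.1 hb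
      obtain ⟨s', rfl⟩ := Submodule.mem_span_singleton.1 hb'
      rw [b_add_left, b_add_right, b_add_right, b_smul_right, b_smul_right, b_smul_left, b_smul_left,
        show B a' a = 0 from hXo ha a' ha', (P.mem_W.1 (hXW ha)).1, b_comm a' P.v,
        (P.mem_W.1 (hXW ha')).1, b_self_zero P.hv]
      ring
    have h1 := two_mul_finrank_le hB hs
    have h2 : X ⊓ Submodule.span F {P.v} = ⊥ := (Submodule.eq_bot_iff _).2 fun x hx => by
      obtain ⟨s, rfl⟩ := Submodule.mem_span_singleton.1 hx.2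
      have := (P.mem_W.1 (hXW hx.1)).2
      rw [b_smul_right, P.hfv, mul_one] at this
      rw [this, zero_smul]
    have h3 := Submodule.finrank_sup_add_finrank_inf_eq X (Submodule.span F {P.v})
    rw [h2, finrank_bot, finrank_span_singleton P.v_ne] at h3
    omega
  have hsub : ∀ x ∈ P.A M hB, x ∈ X := fun x hx => hXdef ▸ Submodule.subset_span hx
  have hinj : Function.Injective (fun x : P.A M hB => (⟨(x : ι → F), hsub x x.2⟩ : X)) :=
    fun a b e => Subtype.ext (congrArg (fun z : X => (z : ι → F)) e)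
  have hd3 : Module.finrank F X = 3 := by
    have h1 := Nat.card_le_card_of_injective _ hinj
    rw [hα, card_subspace] at h1
    have := (Nat.pow_le_pow_iff_right (show 1 < q by omega)).1 h1
    omega
  have hX : ∀ x, x ∈ P.A M hB ↔ x ∈ X := fun x => ⟨hsub x, fun hx => by
    obtain ⟨⟨x', hx'⟩, e⟩ := (hinj.bijective_of_nat_card_le (by rw [hα, card_subspace, hd3])).2 ⟨x, hx⟩
    rw [← show x' = x from congrArg Subtype.val e]
    exact hx'⟩
  by_cases hsing : ∀ x ∈ X, Q x = 0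
  · exact half_cases hk hM hTot hX hsing hd3 hN.half
  left
  push Not at hsing
  obtain ⟨y, hy, hyq⟩ := hsing
  have hbb : ∀ a ∈ X, ∀ b ∈ X, B a b = 0 := fun a ha b hb => hXo hb a ha
  have h2 : (2 : F) = 0 := by
    by_contra h
    have h1 := hbb y hy y hy
    rw [b_self] at h1
    exact hyq ((mul_eq_zero.1 h1).resolve_left h)
  obtain ⟨x, hxX, hx0, hxq⟩ := exists_singular (Q := Q) (U := X) (by omega)
  have hyx : y ∉ Submodule.span F {x} := fun h => by
    obtain ⟨s, rfl⟩ := Submodule.mem_span_singleton.1 h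
    exact hyq (by rw [q_smul, hxq, mul_zero])
  -- the singular vectors are at most one in q
  have hK : q * Nat.card {a : ι → F // a ∈ X ∧ Q a = 0} ≤ q ^ 3 := by
    rw [← Nat.card_prod, ← hd3, ← card_subspace]
    refine Nat.card_le_card_of_injective (fun p : F × {a : ι → F // a ∈ X ∧ Q a = 0} =>
      (⟨(p.2 : ι → F) + p.1 • y, X.add_mem p.2.2.1 (X.smul_mem _ hy)⟩ : X)) fun a b e => ?_
    have e' : (a.2 : ι → F) + a.1 • y = (b.2 : ι → F) + b.1 • y := congrArg Subtype.val e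
    have e1 := congrArg Q e'
    rw [q_add, q_add, a.2.2.2, b.2.2.2, q_smul, q_smul, b_smul_right, b_smul_right,
      hbb _ a.2.2.1 _ hy, hbb _ b.2.2.1 _ hy] at e1
    have h4 : a.1 * a.1 = b.1 * b.1 := mul_right_cancel₀ hyq (by linear_combination e1)
    have h5 : (a.1 - b.1) * (a.1 - b.1) = 0 := by
      linear_combination h4 + (b.1 * b.1 - a.1 * b.1) * h2
    have h6 := sub_eq_zero.1 (mul_self_eq_zero.1 h5)
    rw [h6] at e'
    exact Prod.ext h6 (Subtype.ext (add_right_cancel e'))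
  have hK2 : Nat.card {a : ι → F // a ∈ X ∧ Q a = 0} ≤ q ^ 2 :=
    Nat.le_of_mul_le_mul_left (hK.trans (le_of_eq (by ring))) (show 0 < q by omega)
  have hS : Nat.card ↥(gram P.W Q x y ∩ {t | t 0 ∈ P.A M hB ∧ t 1 ∈ P.A M hB}) ≤
      (q ^ 2 - 1) * q ^ 2 := by
    refine card_pairs_le (p := fun a => a ∈ X ∧ a ≠ 0 ∧ Q a = 0) (r := fun _ b => b ∈ X ∧ Q b = Q y)
      (fun t ht => ⟨⟨(hX _).1 ht.2.1, ht.1.1.2.1, ht.1.1.2.2.trans hxq⟩, (hX _).1 ht.2.2,
        ht.1.2.2.2.2⟩) ?_ fun a _ => ?_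
    · have : Nat.card {a : ι → F // a ∈ X ∧ a ≠ 0 ∧ Q a = 0} + 1 ≤
          Nat.card {a : ι → F // a ∈ X ∧ Q a = 0} := by
        rw [← Finite.card_option]
        refine Nat.card_le_card_of_injective (fun o => o.elim
          (⟨0, X.zero_mem, QuadraticMap.map_zero Q⟩ : {a : ι → F // a ∈ X ∧ Q a = 0})
          fun a => ⟨a.1, a.2.1, a.2.2.2⟩) ?_
        rintro (_ | u) (_ | w) e
        · rfl
        · exact absurd (congrArg Subtype.val e).symm w.2.2.1
        · exact absurd (congrArg Subtype.val e) u.2.2.1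
        · exact congrArg some (Subtype.ext (show (u : ι → F) = w from
            congrArg (fun z : {a : ι → F // a ∈ X ∧ Q a = 0} => (z : ι → F)) e))
      omega
    · refine le_trans (Nat.card_le_card_of_injective (fun b : {b : ι → F // b ∈ X ∧ Q b = Q y} =>
        (⟨b.1 - y, X.sub_mem b.2.1 hy, ?_⟩ : {a : ι → F // a ∈ X ∧ Q a = 0})) ?_) hK2
      · rw [q_sub, b.2.2, hbb _ b.2.1 _ hy, sub_zero, ← two_mul, h2, zero_mul]
      · exact fun u w e => Subtype.ext (sub_left_injective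
          (congrArg (fun z : {a : ι → F // a ∈ X ∧ Q a = 0} => (z : ι → F)) e))
  have h1 := index_pairs_six hk ((hX _).2 hxX) ((hX _).2 hy) hx0 hyx hα hS
  have hq2 : 1 < q ^ 2 := Nat.one_lt_pow (by norm_num) (by omega)
  refine Nat.le_of_mul_le_mul_right ?_ (show 0 < q ^ 2 - 1 by omega)
  refine Nat.le_of_mul_le_mul_left ?_ (show 0 < q ^ 2 from pow_pos (by omega) _)
  calc q ^ 2 * (T * (q ^ 2 - 1)) ≤ q ^ 2 * (q * (L1 q 6 * L2 q 6)) := Nat.mul_le_mul_left _ hN.flat
    _ = q ^ 3 * (L1 q 6 * L2 q 6) := by ring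
    _ ≤ M.relIndex (El Q) * ((q ^ 2 - 1) * q ^ 2) := h1
    _ = _ := by ring

end CfsgLib.MinIndexOrth
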