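import Cfsg.Agent.Lib.MinIndexOrth.End
import Cfsg.Agent.Lib.MinIndexOrth.Halves

/-!
Dimension eight: a totally singular three-space of parameters.
-/

set_option autoImplicit false
set_option linter.unusedSectionVars false

namespace CfsgLib.MinIndexOrth

open CfsgLib.Orth

variable {F : Type*} [Field F] [Finite F] {ι : Type} [Fintype ι] [DecidableEq ι]
variable {Q : QuadraticForm F (ι → F)}

local notation "B" => QuadraticMap.polar (DFunLike.coe Q)
local notation "q" => Nat.card F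

theorem siegel_sub (hB : Nondeg Q) {u a b : ι → F} {s r : Grp Q} (hu : Q u = 0)
    (hs : IsSiegel u a s) (hr : IsSiegel u b r) : IsSiegel u (a - b) (s * r⁻¹) := by
  obtain ⟨d, hd⟩ := exists_siegel hB hu (v := a - b) (by rw [b_sub_right, hs.2.1, hr.2.1, sub_zero])
  have h := siegel_mul hd hr
  rw [sub_add_cancel] at h
  rwa [← siegel_unique h hs, mul_inv_cancel_right]

/-- A product over two orthogonal points is over a point of their line. -/
theorem siegel_join {v c x : ι → F} (hv : Q v = 0) (hc : Q c = 0) (hvc : B v c = 0) (hvx : B v x = 0)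
    (hcx : B c x = 0) {β : F} {s g : Grp Q} (hs : IsSiegel v (β • x - (β * Q x) • c) s)
    (hg : IsSiegel c x g) : IsSiegel (c + β • v) x (s * g) := by
  refine ⟨?_, ?_, fun y => ?_⟩
  · rw [q_add, q_smul, hc, hv, b_smul_right, b_comm c v, hvc]; ring
  · rw [b_add_left, b_smul_left, hcx, hvx]; ring
  · rw [ap_mul, hg.2.2, hs.2.2]
    have hcv : B c v = 0 := by rw [b_comm, hvc]
    have hxv : B x v = 0 := by rw [b_comm, hvx]
    have hxc : B x c = 0 := by rw [b_comm, hcx]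
    simp only [b_add_left, b_sub_left, b_add_right, b_sub_right, b_smul_left, b_smul_right, q_sub,
      q_smul, hc, hcv, hxv, hxc, b_self, hcx]
    module

theorem HP.lin_pW (P : HP Q) {g : Grp Q} (hg : ap g P.v = P.v) {z : ι → F} (hz : B P.v z = 0) :
    P.lin g (P.pW z) = P.pW (ap g z) := by
  conv_rhs => rw [P.eq_pW hz, ap_add, ap_smul, hg, P.pW_add, P.pW_smul, P.pW_v, smul_zero, add_zero]
  rfl

theorem HP.img_of_le (P : HP Q) (M : Subgroup (Grp Q)) (hB : Nondeg Q) {g : Grp Q}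
    (hg : ap g P.v = P.v) (h : ∀ x ∈ P.A M hB, P.lin g x ∈ P.A M hB) :
    P.img M hB g = (P.A M hB : Set (ι → F)) := by
  cases nonempty_fintype F
  refine Set.eq_of_subset_of_ncard_le (Set.image_subset_iff.2 h) ?_ (Set.toFinite _)
  rw [← Nat.card_coe_set_eq, ← Nat.card_coe_set_eq, P.card_img M hB hg]
  exact le_rfl

variable {P : HP Q} {M : Subgroup (Grp Q)} {hB : Nondeg Q} {T : ℕ}

/-- An element keeping the parameters has a translate in the subgroup, or the bound doubles. -/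
theorem half_translate (hk : Module.finrank F (ι → F) = 6 + 2)
    (hα : Nat.card (P.A M hB) = q ^ 3) (ho : o3 q ≤ Nat.card (P.orbitA M hB))
    (hT : T ≤ 2 * (q ^ 3 * o3 q)) {g : Grp Q} (hg : g ∈ El Q) (hgv : ap g P.v = P.v)
    (himg : P.img M hB g = (P.A M hB : Set (ι → F))) :
    T ≤ M.relIndex (El Q) ∨ ∃ y ∈ P.W, ∃ s, IsSiegel P.v y s ∧ s * g ∈ M := by
  classical
  by_cases hex : ∃ y s, IsSiegel P.v y s ∧ s * g ∈ M
  · obtain ⟨y, s, hs, hsM⟩ := hex
    refine Or.inr ⟨P.pW y, P.pW_mem _, s, ?_, hsM⟩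
    have := siegel_add_self hs (-(B P.f y))
    rwa [show y + -(B P.f y) • P.v = P.pW y by rw [HP.pW, hs.2.1]; module] at this
  push Not at hex
  left
  have h1 := P.index_orbit M hB (E := Bool) (fun e => if e then g else 1)
    (fun e => by cases e <;> simp [hg]) (fun e => by cases e <;> simp [hgv])
    (fun e => by
      cases e
      · simpa using P.img_eq_of_mem M hB (one_mem M) (ap_one _)
      · simpa using himg)
    (fun e e' hee y s hs hm => by
      cases e <;> cases e' <;> simp at hee hm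
      · exact hex y s hs hm
      · obtain ⟨s', hs'⟩ := exists_siegel hB P.hv (v := -y) (by
          rw [← neg_one_smul F y, b_smul_right, hs.2.1, mul_zero])
        have e2 : s⁻¹ = s' := inv_eq_of_mul_eq_one_right (by
          have h := siegel_mul hs hs'
          rw [add_neg_cancel] at h
          exact siegel_unique h (siegel_one P.hv))
        have h3 := inv_mem hm
        rw [mul_inv_rev, inv_inv, e2] at h3
        exact hex _ _ hs' h3)
  rw [Nat.card_eq_two_iff.2 ⟨true, false, by simp, by ext b; cases b <;> simp⟩, P.card_W hB hk, hα] at h1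
  refine Nat.le_of_mul_le_mul_right ?_ (show 0 < q ^ 3 from pow_pos Nat.card_pos _)
  calc T * q ^ 3 ≤ 2 * (q ^ 3 * o3 q) * q ^ 3 := Nat.mul_le_mul_right _ hT
    _ = 2 * q ^ 6 * o3 q := by ring
    _ ≤ 2 * q ^ 6 * Nat.card (P.orbitA M hB) := Nat.mul_le_mul_left _ ho
    _ ≤ _ := h1

/-- A point of a line through the point whose whole radical lies in the subgroup. -/
theorem full_bound (hk : Module.finrank F (ι → F) = 6 + 2) (hM : ¬ El Q ≤ M)
    (hTot : Totals Q T) (hH : HasHalf Q P.W 3) (hα : Nat.card (P.A M hB) = q ^ 3)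
    (ho : o3 q ≤ Nat.card (P.orbitA M hB)) (hT : T ≤ q ^ 3 * o3 q + o3 q) {c : ι → F}
    (hcq : Q c = 0) (hc0 : c ≠ 0)
    (hfull : ∀ x, B c x = 0 → InM M c x) : T ≤ M.relIndex (El Q) := by
  classical
  cases nonempty_fintype F
  have hn : 5 ≤ Module.finrank F (ι → F) := by omega
  obtain ⟨Y, hYdef⟩ : ∃ Y, Y = Submodule.span F {y | ∃ m ∈ M, ap m c = y} := ⟨_, rfl⟩
  have hcY : c ∈ Y := hYdef ▸ Submodule.subset_span ⟨1, one_mem M, ap_one c⟩
  have hgen : ∀ m ∈ M, ∀ x, B (ap m c) x = 0 → InM M (ap m c) x := fun m hm x hx => by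
    have := inM_conj M hB hm (hfull (ap m⁻¹ x) (by rw [← ap_b m, ap_ap_inv]; exact hx))
    rwa [ap_ap_inv] at this
  have hperp : Y ≤ orth Q Y := by
    rw [hYdef, Submodule.span_le]
    intro a ha
    refine mem_orth_span.2 fun b hb => ?_
    obtain ⟨m, hm, rfl⟩ := ha
    obtain ⟨m', hm', rfl⟩ := hb
    by_contra hne
    exact hM (El_le_of_two hB (by rw [ap_q, hcq]) (by rw [ap_q, hcq]) hne
      (fun x k hk' => (hgen m' hm' x hk'.2.1).2 k hk') fun x k hk' => (hgen m hm x hk'.2.1).2 k hk')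
  have hYq : ∀ y ∈ Y, Q y = 0 := by
    intro y hy
    have hy' := hy
    rw [hYdef] at hy'
    induction hy' using Submodule.span_induction with
    | mem u hu => obtain ⟨m, -, rfl⟩ := hu; rw [ap_q, hcq]
    | zero => exact QuadraticMap.map_zero Q
    | add u w hu hw hu' hw' =>
        rw [← hYdef] at hu hw
        rw [q_add, hu' hu, hw' hw, show B u w = 0 from hperp hw u hu]; ring
    | smul a u hu hu' =>
        rw [← hYdef] at hu
        rw [q_smul, hu' hu, mul_zero]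
  have hinv : ∀ m ∈ M, ∀ y ∈ Y, ap m y ∈ Y := by
    intro m hm y hy
    rw [hYdef] at hy
    induction hy using Submodule.span_induction with
    | mem u hu =>
        obtain ⟨m', hm', rfl⟩ := hu
        exact hYdef ▸ Submodule.subset_span ⟨m * m', mul_mem hm hm', ap_mul _ _ _⟩
    | zero => rw [ap_zero]; exact Submodule.zero_mem _
    | add u w _ _ hu hw => rw [ap_add]; exact Submodule.add_mem _ hu hw
    | smul a u _ hu => rw [ap_smul]; exact Submodule.smul_mem _ _ hu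
  by_cases hline : ∀ y ∈ Y, y ∈ Submodule.span F {c}
  · refine bound_of_line hB hn hTot hc0 fun g hg => ?_
    obtain ⟨a, ha⟩ := Submodule.mem_span_singleton.1 (hline _ (hinv g hg c hcY))
    exact ⟨a, ha.symm⟩
  push Not at hline
  obtain ⟨y₁, hy₁, hy₁c⟩ := hline
  obtain ⟨h₀, hh₀, hh₀c⟩ := exists_move_vec hB hn hc0 P.v_ne (hcq.trans P.hv.symm)
  let L : (ι → F) →ₗ[F] (ι → F) :=
    { toFun := fun x => P.pW (ap h₀ x)
      map_add' := fun x y => by rw [ap_add, P.pW_add]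
      map_smul' := fun a x => by rw [ap_smul, P.pW_smul]; rfl }
  have hvY : ∀ y ∈ Y, B P.v (ap h₀ y) = 0 := fun y hy => by
    rw [← hh₀c, ap_b]; exact hperp hy c hcY
  obtain ⟨X, hXdef⟩ : ∃ X, X = Y.map L := ⟨_, rfl⟩
  have hXW : X ≤ P.W := by
    rintro _ hx
    obtain ⟨y, -, rfl⟩ := Submodule.mem_map.1 (hXdef ▸ hx)
    exact P.pW_mem _
  have hXq : ∀ x ∈ X, Q x = 0 := by
    intro x hx
    obtain ⟨y, hy, rfl⟩ := Submodule.mem_map.1 (hXdef ▸ hx)
    show Q (P.pW (ap h₀ y)) = 0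
    rw [HP.pW, hvY y hy, zero_smul, sub_zero, q_sub, ap_q, hYq y hy, q_smul, P.hv, b_smul_right,
      b_comm (ap h₀ y) P.v, hvY y hy]
    ring
  have hX0 : X ≠ ⊥ := fun e => hy₁c (by
    have h1 : L y₁ ∈ X := hXdef ▸ Submodule.mem_map_of_mem hy₁
    rw [e, Submodule.mem_bot] at h1
    have h2 := P.eq_pW (hvY y₁ hy₁)
    rw [show P.pW (ap h₀ y₁) = 0 from h1, zero_add, ← hh₀c, ← ap_smul] at h2
    exact Submodule.mem_span_singleton.2 ⟨_, (ap_inj h₀ h2).symm⟩)
  have hoX := P.o3_le_orbit hB hk hH hXW hXq hX0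
  -- the cosets sending the full point to the point
  have hLm : ∀ y ∈ Y, ∀ g : Grp Q, ap g P.v = P.v → P.lin g (L y) = P.pW (ap (g * h₀) y) :=
    fun y hy g hg => by rw [ap_mul]; exact P.lin_pW hg (hvY y hy)
  choose g hgEl hgv hgX using fun S : P.orbitSet (X : Set (ι → F)) => S.2
  let Φ : P.orbitSet (X : Set (ι → F)) → El Q ⧸ M.subgroupOf (El Q) := fun S =>
    QuotientGroup.mk ⟨g S * h₀, mul_mem (hgEl S) hh₀⟩
  have hΦ : Function.Injective Φ := by
    intro S S' e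
    have hm : (g S * h₀)⁻¹ * (g S' * h₀) ∈ M := by
      simpa [Subgroup.mem_subgroupOf] using QuotientGroup.eq.1 e
    have hsub : ∀ S S', (g S * h₀)⁻¹ * (g S' * h₀) ∈ M → (S' : Set (ι → F)) ⊆ S := by
      intro S S' hm
      rw [← hgX S, ← hgX S']
      rintro _ ⟨x, hx, rfl⟩
      obtain ⟨y, hy, rfl⟩ := Submodule.mem_map.1 (hXdef ▸ (hx : x ∈ X))
      refine ⟨L (ap ((g S * h₀)⁻¹ * (g S' * h₀)) y), hXdef ▸ Submodule.mem_map_of_mem (hinv _ hm y hy), ?_⟩
      rw [hLm _ (hinv _ hm y hy) _ (hgv S), hLm y hy _ (hgv S'), ← ap_mul, mul_inv_cancel_left]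
    refine Subtype.ext (Set.Subset.antisymm (hsub S' S ?_) (hsub S S' hm))
    have := inv_mem hm
    rwa [mul_inv_rev, inv_inv] at this
  have hnot : ∀ S, Φ S ∉ P.near M := by
    rintro S ⟨g', hg', e⟩
    have hm : (g' : Grp Q)⁻¹ * (g S * h₀) ∈ M := by
      simpa [Φ, Subgroup.mem_subgroupOf] using QuotientGroup.eq.1 e
    have hv : ap ((g' : Grp Q)⁻¹ * (g S * h₀)) c = P.v := by
      rw [ap_mul, ap_mul, hh₀c, hgv S, P.fix_inv hg']
    have hall : ∀ x ∈ P.W, x ∈ P.A M hB := fun x hx => ⟨hx, by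
      have := hgen _ hm x (by rw [hv]; exact (P.mem_W.1 hx).1)
      rwa [hv] at this⟩
    have h1 := Nat.card_le_card_of_injective (fun x : P.W => (⟨(x : ι → F), hall x x.2⟩ : P.A M hB))
      fun a b e => Subtype.ext (congrArg (fun z : P.A M hB => (z : ι → F)) e)
    rw [P.card_W hB hk, hα] at h1
    exact absurd h1 (Nat.not_le.2 (Nat.pow_lt_pow_right (two_le_card (F := F)) (by norm_num)))
  have h1 : Nat.card (P.near M) + Nat.card (P.orbitSet (X : Set (ι → F))) ≤ M.relIndex (El Q) := by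
    rw [Subgroup.relIndex, Subgroup.index_eq_card, ← Nat.card_sum]
    refine Nat.card_le_card_of_injective (Sum.elim Subtype.val Φ) ?_
    rintro (a | a) (b | b) e
    · exact congrArg Sum.inl (Subtype.ext e)
    · exact absurd ((show (a : El Q ⧸ M.subgroupOf (El Q)) = Φ b from e) ▸ a.2) (hnot b)
    · exact absurd ((show Φ a = (b : El Q ⧸ M.subgroupOf (El Q)) from e).symm ▸ b.2) (hnot a)
    · exact congrArg Sum.inr (hΦ e)
  have h2 := P.near_orbit M hB (E := Unit) (fun _ => 1) (fun _ => one_mem _) (fun _ => ap_one _)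
    (fun _ => P.img_eq_of_mem M hB (one_mem M) (ap_one _))
    (fun e e' hee => absurd (Subsingleton.elim e e') hee)
  rw [Nat.card_unique, one_mul, P.card_W hB hk, hα] at h2
  have h3 : q ^ 3 * o3 q ≤ Nat.card (P.near M) := by
    refine Nat.le_of_mul_le_mul_right ?_ (show 0 < q ^ 3 from pow_pos Nat.card_pos _)
    calc q ^ 3 * o3 q * q ^ 3 = q ^ 6 * o3 q := by ring
      _ ≤ q ^ 6 * Nat.card (P.orbitA M hB) := Nat.mul_le_mul_left _ ho
      _ ≤ _ := h2
  omega

/-- A totally singular three-space of parameters: the bound, or a point with few of them. -/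
theorem half_cases (hk : Module.finrank F (ι → F) = 6 + 2) (hM : ¬ El Q ≤ M) (hTot : Totals Q T)
    {X : Submodule F (ι → F)} (hX : ∀ x, x ∈ P.A M hB ↔ x ∈ X) (hXq : ∀ x ∈ X, Q x = 0)
    (hXd : Module.finrank F X = 3)
    (hT : T ≤ q ^ 3 * o3 q ∨ (4 ≤ q ∧ T ≤ q ^ 3 * o3 q + o3 q)) :
    T ≤ M.relIndex (El Q) ∨ ∃ P' : HP Q, Nat.card (P'.A M hB) ≤ q ^ 2 := by
  classical
  cases nonempty_fintype F
  have hn : 5 ≤ Module.finrank F (ι → F) := by omega
  have hq := two_le_card (F := F)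
  have hXW : X ≤ P.W := fun x hx => ((hX x).2 hx).1
  have hcoe : (P.A M hB : Set (ι → F)) = (X : Set (ι → F)) := Set.ext hX
  have hα : Nat.card (P.A M hB) = q ^ 3 := by
    rw [Nat.card_congr (Equiv.subtypeEquivRight hX), card_subspace, hXd]
  have hH : HasHalf Q P.W 3 := ⟨X, hXW, hXq, hXd.ge⟩
  have ho : o3 q ≤ Nat.card (P.orbitA M hB) := by
    have h := P.o3_le_orbit hB hk hH hXW hXq (fun e => by rw [e, finrank_bot] at hXd; omega)
    rw [← hcoe] at h
    exact h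
  rcases hT with hT | ⟨hq4, hT⟩
  · left
    have h1 := P.index_orbit_one M hB
    rw [P.card_W hB hk, hα] at h1
    refine Nat.le_of_mul_le_mul_right ?_ (show 0 < q ^ 3 from pow_pos Nat.card_pos _)
    calc T * q ^ 3 ≤ q ^ 3 * o3 q * q ^ 3 := Nat.mul_le_mul_right _ hT
      _ = q ^ 6 * o3 q := by ring
      _ ≤ q ^ 6 * Nat.card (P.orbitA M hB) := Nat.mul_le_mul_left _ ho
      _ ≤ _ := h1
  by_contra hno
  push Not at hno
  obtain ⟨hlt, hfew⟩ := hno
  have hT2 : T ≤ 2 * (q ^ 3 * o3 q) := by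
    have : o3 q ≤ q ^ 3 * o3 q := Nat.le_mul_of_pos_left _ (pow_pos Nat.card_pos _)
    omega
  have htr := fun (g : Grp Q) (hg : g ∈ El Q) (hgv : ap g P.v = P.v) (h : P.img M hB g = (P.A M hB : Set (ι → F))) =>
    (half_translate (T := T) hk hα ho hT2 hg hgv h).resolve_left (Nat.not_le.2 hlt)
  obtain ⟨c, hcX, hc0⟩ := X.exists_mem_ne_zero_of_ne_bot fun e => by rw [e, finrank_bot] at hXd; omega
  have hcq := hXq c hcX
  obtain ⟨hvc, hfc⟩ := P.mem_W.1 (hXW hcX)
  obtain ⟨P₁, hP₁v, hP₁f⟩ := P.exists_at hB (hXW hcX) hcq hc0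
  obtain ⟨hvf', hff'⟩ := P.mem_W.1 hP₁f
  have hvP₁ : P.v ∈ P₁.W := P₁.mem_W.2 ⟨by rw [hP₁v, b_comm]; exact hvc, by rw [b_comm]; exact hvf'⟩
  have hfP₁ : P.f ∈ P₁.W := P₁.mem_W.2 ⟨by rw [hP₁v, b_comm]; exact hfc, by rw [b_comm]; exact hff'⟩
  have hcX' : ∀ z ∈ X, B z c = 0 := fun z hz => le_orth_of_singular hXq hcX z hz
  -- the torus at the second point
  obtain ⟨c₀, hc₀, hc₁⟩ := exists_sq_ne_one (F := F) hq4
  obtain ⟨t, ht, htc, -, htW⟩ := P₁.exists_torus hB hn hc₀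
  obtain ⟨l, hl⟩ : ∃ l, l = c₀ * c₀ := ⟨_, rfl⟩
  rw [← hl, hP₁v] at htc
  have hl0 : l ≠ 0 := hl ▸ mul_ne_zero hc₀ hc₀
  have hl1 : l - 1 ≠ 0 := sub_ne_zero.2 (hl ▸ hc₁)
  have htv : ap t P.v = P.v := htW _ hvP₁
  have htap : ∀ z, B z c = 0 → ap t z = z + ((l - 1) * B P₁.f z) • c := by
    intro z hzc
    have e : z = P₁.pW z + B P₁.f z • c := by
      rw [HP.pW, hP₁v, b_comm c z, hzc, zero_smul, sub_zero]; abel
    conv_lhs => rw [e]
    rw [ap_add, ap_smul, htW _ (P₁.pW_mem z), htc]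
    conv_rhs => enter [1]; rw [e]
    module
  have htimg : P.img M hB t = (P.A M hB : Set (ι → F)) := P.img_of_le M hB htv fun z hz => by
    rw [hX] at hz ⊢
    rw [HP.lin, htap z (hcX' z hz)]
    have h1 := X.add_mem hz (X.smul_mem ((l - 1) * B P₁.f z) hcX)
    rwa [P.pW_of_mem (hXW h1)]
  obtain ⟨yt, hyt, st, hst, hstM⟩ := htr t ht htv htimg
  -- translates of the radical at the second point
  have hgfix : ∀ x ∈ P.W, ∀ g : Grp Q, IsSiegel c x g → ap g P.v = P.v :=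
    fun x hx g hg => siegel_fix hg hvc (P.mem_W.1 hx).1
  have hgap : ∀ {x : ι → F} {g : Grp Q}, IsSiegel c x g → ∀ z : ι → F, B z c = 0 → ap g z = z - B z x • c := by
    intro x g hg z hzc
    rw [hg.2.2, hzc]; module
  have hgW : ∀ x ∈ P.W, ∀ g : Grp Q, IsSiegel c x g → ∀ z ∈ P.W, ap g z ∈ P.W := by
    intro x hx g hg z hz
    rw [hg.2.2]
    exact P.W.sub_mem (P.W.sub_mem (P.W.add_mem hz (P.W.smul_mem _ hx)) (P.W.smul_mem _ (hXW hcX)))
      (P.W.smul_mem _ (hXW hcX))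
  have htrx : ∀ x ∈ P.W, B c x = 0 → ∃ g : Grp Q, IsSiegel c x g ∧ ∃ y ∈ P.W, ∃ s, IsSiegel P.v y s ∧ s * g ∈ M := by
    intro x hx hcx
    obtain ⟨g, hg⟩ := exists_siegel hB hcq hcx
    refine ⟨g, hg, htr g (siegel_mem_El hg) (hgfix x hx g hg) (P.img_of_le M hB (hgfix x hx g hg) fun z hz => ?_)⟩
    rw [hX] at hz ⊢
    rw [HP.lin, hgap hg z (hcX' z hz)]
    have h1 := X.sub_mem hz (X.smul_mem (B z x) hcX)
    rwa [P.pW_of_mem (hXW h1)]
  have hconj : ∀ (g : Grp Q), ap g P.v = P.v → ∀ y s, IsSiegel P.v y s → IsSiegel P.v (ap g y) (g * s * g⁻¹) :=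
    fun g hg y s hs => by have := siegel_conj hs g; rwa [hg] at this
  -- the translations are orthogonal to the second point
  have hW4 : 4 ≤ Module.finrank F ↥(P.W ⊓ P₁.W) := by
    have h1 := Submodule.finrank_sup_add_finrank_inf_eq P.W P₁.W
    have h2 := Submodule.finrank_le (P.W ⊔ P₁.W)
    have h3 := P.finrank_W hB
    have h4 := P₁.finrank_W hB
    omega
  have horth : ∀ x ∈ P.W ⊓ P₁.W, ∀ g : Grp Q, IsSiegel c x g → ∀ y ∈ P.W, ∀ s : Grp Q, IsSiegel P.v y s → s * g ∈ M →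
      B y c = 0 := by
    intro x hx g hg y hy s hs hsM
    by_contra hyc
    obtain ⟨x', hx', hx'X⟩ : ∃ x' ∈ P.W ⊓ P₁.W, x' ∉ X ⊔ Submodule.span F {x} := by
      by_contra hcon
      push Not at hcon
      have h1 := Submodule.finrank_add_le_finrank_add_finrank X (Submodule.span F {x})
      have h2 : Module.finrank F (Submodule.span F {x}) ≤ 1 :=
        (finrank_span_le_card _).trans (by simp)
      have h3 : P.W ⊓ P₁.W = X ⊔ Submodule.span F {x} :=
        Submodule.eq_of_le_of_finrank_le hcon (by omega)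
      have h4 : c ∈ P.W ⊓ P₁.W := h3 ▸ Submodule.mem_sup_left hcX
      have h5 := (P₁.mem_W.1 h4.2).2
      rw [← hP₁v, P₁.hfv] at h5
      exact one_ne_zero h5
    have hcx' : B c x' = 0 := by rw [← hP₁v]; exact (P₁.mem_W.1 hx'.2).1
    obtain ⟨g', hg', y', hy', s', hs', hsM'⟩ := htrx x' hx'.1 hcx'
    have hgg : g * g' = g' * g := by
      have h1 := siegel_mul hg hg'
      have h2 := siegel_mul hg' hg
      rw [add_comm] at h2
      exact siegel_unique h1 h2
    have h1 := siegel_mul hs (hconj g (hgfix x hx.1 g hg) y' s' hs')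
    have h2 := siegel_mul hs' (hconj g' (hgfix x' hx'.1 g' hg') y s hs)
    have h3 := siegel_sub hB P.hv h1 h2
    have hmem : s * (g * s' * g⁻¹) * (s' * (g' * s * g'⁻¹))⁻¹ ∈ M := by
      have h4 := mul_mem (mul_mem hsM hsM') (inv_mem (mul_mem hsM' hsM))
      rwa [show s * g * (s' * g') * (s' * g' * (s * g))⁻¹ =
        s * (g * s' * g⁻¹) * (g * g') * (g' * g)⁻¹ * (s' * (g' * s * g'⁻¹))⁻¹ by group, hgg,
        mul_inv_cancel_right] at h4
    have hd : y + ap g y' - (y' + ap g' y) ∈ X := (hX _).1 ⟨P.W.sub_mem (P.W.add_mem hy (hgW x hx.1 g hg y' hy'))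
      (P.W.add_mem hy' (hgW x' hx'.1 g' hg' y hy)), h3.2.1, fun k hk' => by rw [siegel_unique hk' h3]; exact hmem⟩
    rw [hg.2.2, hg'.2.2] at hd
    refine hx'X ((Submodule.smul_mem_iff _ hyc).1 ?_)
    obtain ⟨e₁, he₁⟩ : ∃ e₁ : F, y + (y' + B y' c • x - B y' x • c - (Q x * B y' c) • c) -
        (y' + (y + B y c • x' - B y x' • c - (Q x' * B y c) • c)) = B y' c • x - B y c • x' + e₁ • c :=
      ⟨-(B y' x) - Q x * B y' c + B y x' + Q x' * B y c, by module⟩
    rw [he₁] at hd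
    rw [show B y c • x' = B y' c • x + e₁ • c - (B y' c • x - B y c • x' + e₁ • c) by abel]
    exact Submodule.sub_mem _ (Submodule.add_mem _
      (Submodule.mem_sup_right (Submodule.smul_mem _ _ (Submodule.mem_span_singleton_self x)))
      (Submodule.mem_sup_left (X.smul_mem _ hcX))) (Submodule.mem_sup_left hd)
  -- the point of the line with a hyperplane of parameters
  obtain ⟨β, hβ⟩ : ∃ β, β = -(B yt c * l) / (l - 1) := ⟨_, rfl⟩
  obtain ⟨c', hc'⟩ : ∃ c', c' = c + β • P.v := ⟨_, rfl⟩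
  have hrad : ∀ x ∈ P.W ⊓ P₁.W, InM M c' x := by
    intro x₀ hx₀
    obtain ⟨x, hx, hxx⟩ : ∃ x ∈ P.W ⊓ P₁.W, x₀ = (l - 1) • x :=
      ⟨(l - 1)⁻¹ • x₀, Submodule.smul_mem _ _ hx₀, by rw [smul_smul, mul_inv_cancel₀ hl1, one_smul]⟩
    have hcx : B c x = 0 := by rw [← hP₁v]; exact (P₁.mem_W.1 hx.2).1
    obtain ⟨g, hg, y, hy, s, hs, hsM⟩ := htrx x hx.1 hcx
    have hyc := horth x hx g hg y hy s hs hsM
    obtain ⟨gl, hgl⟩ : ∃ gl, gl = t * g * t⁻¹ := ⟨_, rfl⟩
    have hgls : IsSiegel c (l • x) gl := by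
      have h1 := siegel_conj hg t
      rw [htc, htW x hx.2, ← hgl] at h1
      exact siegel_smul hg l h1
    have hg' := siegel_sub hB hcq hgls hg
    rw [show l • x - x = x₀ by rw [hxx]; module] at hg'
    have hx₀W : x₀ ∈ P.W := hx₀.1
    have hglv := hgfix _ (P.W.smul_mem l hx.1) gl hgls
    have hg'v := hgfix _ hx₀W _ hg'
    have h1 := siegel_sub hB P.hv (siegel_mul hst (hconj t htv y s hs)) (hconj gl hglv yt st hst)
    have h2 := siegel_sub hB P.hv h1 (hconj _ hg'v y s hs)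
    have hmem : st * (t * s * t⁻¹) * (gl * st * gl⁻¹)⁻¹ * (gl * g⁻¹ * s * (gl * g⁻¹)⁻¹)⁻¹ *
        (gl * g⁻¹) ∈ M := by
      have h4 := mul_mem (mul_mem (mul_mem hstM hsM) (inv_mem hstM)) (inv_mem hsM)
      convert h4 using 1
      rw [hgl]; group
    have hfix1 : ap t y - ap (gl * g⁻¹) y = ((l - 1) * B P₁.f y + B y x₀) • c := by
      rw [htap y hyc, hgap hg' y hyc]; module
    obtain ⟨e₁, he₁⟩ : ∃ e₁ : F, yt + ap t y - ap gl yt - ap (gl * g⁻¹) y = β • x₀ + e₁ • c := by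
      refine ⟨B yt (l • x) + Q (l • x) * B yt c + ((l - 1) * B P₁.f y + B y x₀), ?_⟩
      rw [show yt + ap t y - ap gl yt - ap (gl * g⁻¹) y = yt - ap gl yt + (ap t y - ap (gl * g⁻¹) y) by abel,
        hfix1, hgls.2.2, hxx, show β • (l - 1) • x = (-(B yt c * l)) • x by
          rw [smul_smul, hβ, div_mul_cancel₀ _ hl1]]
      module
    rw [he₁] at h2
    obtain ⟨a, ha⟩ : ∃ a, a = -(β * Q x₀) - e₁ := ⟨_, rfl⟩
    have hain : InM M P.v (a • c) := ((hX _).2 (X.smul_mem a hcX)).2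
    obtain ⟨r, hr⟩ := exists_siegel hB P.hv hain.1
    have h3 := siegel_mul hr h2
    rw [show a • c + (β • x₀ + e₁ • c) = β • x₀ - (β * Q x₀) • c by rw [ha]; module] at h3
    have h5 := siegel_join P.hv hcq hvc (P.mem_W.1 hx₀W).1 (by
      rw [hxx, b_smul_right, hcx, mul_zero]) h3 hg'
    rw [← hc'] at h5
    refine ⟨h5.2.1, fun k hk' => ?_⟩
    rw [siegel_unique hk' h5, mul_assoc]
    exact mul_mem (hain.2 r hr) hmem
  have hc'q : Q c' = 0 := by rw [hc', q_add, q_smul, hcq, P.hv, b_smul_right, b_comm, hvc]; ring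
  have hc'f : B c' P₁.f = 1 := by rw [hc', b_add_left, b_smul_left, hvf', ← hP₁v, P₁.hvf]; ring
  set P' : HP Q := ⟨c', P₁.f, hc'q, P₁.hf, hc'f⟩ with hP'
  have hc'v : B c' P.v = 0 := by rw [hc', b_add_left, b_smul_left, b_self_zero P.hv, b_comm, hvc]; ring
  have hvW' : P.v ∈ P'.W := P'.mem_W.2 ⟨hc'v, (P₁.mem_W.1 hvP₁).2⟩
  have hvin : ∀ a : F, InM M c' (a • P.v) := fun a => by
    have h1 : InM M P.v (-(a • c')) := by
      rw [hc', show -(a • (c + β • P.v)) = (-a) • c + (-(a * β)) • P.v by module]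
      exact inM_add M hB ((hX _).2 (X.smul_mem _ hcX)).2 (inM_self M hB P.hv _)
    by_cases ha : a = 0
    · rw [ha, zero_smul]; exact inM_zero M hB hc'q
    rw [← smul_neg, ← inM_smul_iff M hB P.hv ha] at h1
    have h2 := inM_swap M hB (by rw [q_smul, P.hv, mul_zero]) (by rw [QuadraticMap.map_neg, hc'q]) h1
    have h3 : InM M ((-1 : F) • c') (-(a • P.v)) := by rwa [neg_one_smul]
    rw [inM_smul_iff M hB hc'q (neg_ne_zero.2 one_ne_zero), neg_one_smul, neg_neg] at h3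
    exact h3
  have hyp : ∀ x ∈ P'.W, B P.v x = 0 → x ∈ P'.A M hB := by
    intro x hx hvx
    refine ⟨hx, ?_⟩
    obtain ⟨hcx, hfx⟩ := P'.mem_W.1 hx
    change B c' x = 0 at hcx
    change B P₁.f x = 0 at hfx
    rw [hc', b_add_left, b_smul_left, hvx, mul_zero, add_zero] at hcx
    have e := P.eq_pW hvx
    rw [e]
    refine inM_add M hB (hrad _ ⟨P.pW_mem x, P₁.mem_W.2 ⟨?_, ?_⟩⟩) (hvin _)
    · rw [hP₁v, HP.pW, hvx, zero_smul, sub_zero, b_sub_right, b_smul_right, hcx, b_comm c, hvc]; ring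
    · rw [HP.pW, hvx, zero_smul, sub_zero, b_sub_right, b_smul_right, hfx, b_comm P₁.f, hvf']; ring
  by_cases hne : ∃ x ∈ P'.W, x ∉ P'.A M hB
  · obtain ⟨z, hz⟩ : ∃ z, z = P.f - β • P₁.f := ⟨_, rfl⟩
    have hzW : z ∈ P'.W := P'.mem_W.2 ⟨by
        show B c' z = 0
        rw [hz, hc', b_sub_right, b_smul_right, b_add_left, b_add_left, b_smul_left, b_smul_left,
          P.hvf, hvf', b_comm c P.f, hfc, ← hP₁v, P₁.hvf]
        ring, by
        show B P₁.f z = 0
        rw [hz, b_sub_right, b_smul_right, b_self_zero P₁.hf, b_comm, hff']; ring⟩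
    have hzv : B P.v z = 1 := by rw [hz, b_sub_right, b_smul_right, P.hvf, hvf']; ring
    have hzq : Q z = 0 := by rw [hz, q_sub, q_smul, P.hf, P₁.hf, b_smul_right, hff']; ring
    have h := P'.card_at_of_hyp M hB (P' := ⟨z, P.v, hzq, P.hv, by rw [b_comm]; exact hzv⟩) hvW' hyp
      hne hzW hvW' (by rw [hzv]; exact one_ne_zero)
    exact absurd h (Nat.not_le.2 (hfew _))
  push Not at hne
  refine absurd (full_bound (P := P) hk hM hTot hH hα ho hT hc'q (fun e => one_ne_zero (α := F) (by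
    rw [← hc'f, e, b_zero_left])) fun x hx => ?_) (Nat.not_le.2 hlt)
  have e : x = P'.pW x + B P'.f x • c' := P'.eq_pW (show B P'.v x = 0 from hx)
  rw [e]
  exact inM_add M hB (hne _ (P'.pW_mem x)).2 (inM_self M hB hc'q _)

end CfsgLib.MinIndexOrth
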