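import Cfsg.Agent.Lib.MinIndexOrth.Final
import Cfsg.Agent.Lib.Classical.OrthForms

/-!
The numbers of singular vectors of the standard forms.
-/

set_option autoImplicit false
set_option linter.unusedSectionVars false

namespace CfsgLib.MinIndexOrth

open CfsgLib.Orth

variable {F : Type*} [Field F] [Finite F]

local notation "q" => Nat.card F

theorem sub_one_mul_geom {x : ℕ} (n : ℕ) : x - 1 ∣ x ^ n - 1 := by
  have := Nat.sub_dvd_pow_sub_pow x 1 n
  rwa [one_pow] at this

theorem plus_points {m : ℕ} (hm : 1 ≤ m) {Q : QuadraticForm F (Fin m ⊕ Fin m → F)}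
    (hQ : ⇑Q = Cfsg.quadFormPlus m F) (hB : Nondeg Q) :
    Nat.card {y : Fin m ⊕ Fin m → F // y ≠ 0 ∧ Q y = 0} =
      (q ^ m - 1) * (q ^ (m - 1) + 1) / (q - 1) * (q - 1) := by
  classical
  cases nonempty_fintype F
  have hq := two_le_card (F := F)
  let inc : (Fin m → F) →ₗ[F] (Fin m ⊕ Fin m → F) :=
    { toFun := fun x => Sum.elim x 0
      map_add' := fun x y => by funext i; rcases i with i | i <;> simp
      map_smul' := fun a x => by funext i; rcases i with i | i <;> simp }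
  have hH : HasHalf Q (⊤ : Submodule F (Fin m ⊕ Fin m → F)) m := by
    refine ⟨LinearMap.range inc, le_top, ?_, ?_⟩
    · rintro _ ⟨x, rfl⟩
      rw [hQ]
      exact Finset.sum_eq_zero fun i _ => by simp [inc]
    · rw [LinearMap.finrank_range_of_inj fun x y e => funext fun i => congrFun e (.inl i),
        Module.finrank_fin_fun]
  have hd : Module.finrank F (⊤ : Submodule F (Fin m ⊕ Fin m → F)) = 2 * m := by
    rw [finrank_top, Module.finrank_pi, Fintype.card_sum, Fintype.card_fin]; ring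
  have e := lev_plus hB (nondegOn_top hB) hd hH
  rw [← card_nonzero_zero] at e
  rw [Nat.div_mul_cancel (Dvd.dvd.mul_right (sub_one_mul_geom m) _)]
  obtain ⟨j, rfl⟩ : ∃ j, m = j + 1 := ⟨m - 1, by omega⟩
  rw [Nat.add_sub_cancel]
  refine Nat.eq_of_mul_eq_mul_left (show 0 < q by omega) ?_
  zify [Nat.one_le_pow (j + 1) q (by omega)]
  have e' : (q : ℤ) * ((Nat.card {y : Fin (j + 1) ⊕ Fin (j + 1) → F // y ≠ 0 ∧ Q y = 0} : ℤ) + 1) +
      (q : ℤ) ^ (j + 1) = (q : ℤ) ^ (2 * (j + 1)) + (q : ℤ) ^ (j + 1 + 1) := by exact_mod_cast e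
  linear_combination e'

theorem odd_points {m : ℕ} {Q : QuadraticForm F (Unit ⊕ (Fin m ⊕ Fin m) → F)} (hB : Nondeg Q) :
    Nat.card {y : Unit ⊕ (Fin m ⊕ Fin m) → F // y ≠ 0 ∧ Q y = 0} =
      (q ^ (2 * m) - 1) / (q - 1) * (q - 1) := by
  classical
  cases nonempty_fintype F
  have hq := two_le_card (F := F)
  have hd : Module.finrank F (⊤ : Submodule F (Unit ⊕ (Fin m ⊕ Fin m) → F)) = 2 * m + 1 := by
    rw [finrank_top, Module.finrank_pi, Fintype.card_sum, Fintype.card_sum, Fintype.card_fin,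
      Fintype.card_unit]
    ring
  have e := (lev_bound hB (2 * m + 1) ⊤ (nondegOn_top hB) hd 0).2.2 ⟨m, rfl⟩ rfl
  rw [← card_nonzero_zero, pow_succ'] at e
  have := Nat.eq_of_mul_eq_mul_left (show 0 < q by omega) e
  rw [Nat.div_mul_cancel (sub_one_mul_geom (2 * m))]
  omega

end CfsgLib.MinIndexOrth
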