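import Cfsg.Agent.Lib.MinIndexOrth.Standard
import Cfsg.Agent.Lib.MinIndexOrth.Small
import Cfsg.Agent.Lib.MinIndexOrth.LevelsSmall
import Cfsg.Agent.Lib.MinIndexOrth.ArithThree

/-!
The least index over three elements.
-/

set_option autoImplicit false
set_option linter.unusedSectionVars false

namespace CfsgLib.MinIndexOrth

open CfsgLib.Orth

variable {F : Type*} [Field F] [Finite F] {ι : Type} [Fintype ι] [DecidableEq ι]
variable {Q : QuadraticForm F (ι → F)}

local notation "B" => QuadraticMap.polar (DFunLike.coe Q)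
local notation "q" => Nat.card F

theorem card_nonzero_eq {c : F} (hc : c ≠ 0) :
    Nat.card {y : ι → F // y ≠ 0 ∧ Q y = c} = lev Q ⊤ c := by
  refine Nat.card_congr
    { toFun := fun y => ⟨⟨y.1, trivial⟩, y.2.2⟩
      invFun := fun x => ⟨x.1.1, fun e => hc (by rw [← x.2, e, QuadraticMap.map_zero]), x.2⟩
      left_inv := fun y => rfl
      right_inv := fun x => rfl }

/-- The stabiliser of a line gives a subgroup of the quotient of its index. -/
theorem exists_line_index (hB : Nondeg Q) (hn : 5 ≤ Module.finrank F (ι → F)) {T : ℕ} {z : ι → F}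
    (hz : z ≠ 0)
    (h : Nat.card {y : ι → F // y ≠ 0 ∧ Q y = Q z} =
      T * Nat.card {t : F // t ≠ 0 ∧ t * t * Q z = Q z}) :
    ∃ H : Subgroup (Cfsg.POmega F ⇑Q), H.index = T := by
  obtain ⟨H, hH⟩ := pomega_exists hB hn (M := lineStab Q z) fun g hg => mem_lineStab ⟨-1, by
    show ((g : GL ι F) : Matrix ι ι F).mulVec z = _
    rw [hg, Matrix.neg_mulVec, Matrix.one_mulVec, neg_one_smul]⟩
  refine ⟨H, ?_⟩
  rw [hH]
  refine Nat.eq_of_mul_eq_mul_right ?_ ((lineStab_index hB hn hz).trans h)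
  exact Nat.card_pos_iff.2 ⟨⟨⟨1, one_ne_zero, by ring⟩⟩, inferInstance⟩

theorem scalars_three (h3 : q = 3) {c : F} (hc : c ≠ 0) :
    Nat.card {t : F // t ≠ 0 ∧ t * t * c = c} = 2 := by
  classical
  cases nonempty_fintype F
  have h30 := three_eq_zero h3
  have h : ∀ t : F, (t ≠ 0 ∧ t * t * c = c) ↔ t ≠ 0 := fun t => ⟨And.left, fun ht => ⟨ht, by
    rcases small_values (Or.inr h3) t with e | e | e
    · exact absurd e ht
    all_goals rw [e]; ring⟩⟩
  rw [Nat.card_congr (Equiv.subtypeEquivRight h), Nat.card_eq_fintype_card, Fintype.card_subtype_compl,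
    Fintype.card_subtype_eq, ← Nat.card_eq_fintype_card, h3]

/-- The bound and its attainment for three elements in odd dimension. -/
theorem pomega_odd_three {m : ℕ} (hm : 3 ≤ m) (h3 : q = 3)
    {Q : QuadraticForm F (Unit ⊕ (Fin m ⊕ Fin m) → F)} (hB : Nondeg Q) :
    (∀ H : Subgroup (Cfsg.POmega F ⇑Q), H ≠ ⊤ → 3 ^ m * (3 ^ m - 1) / 2 ≤ H.index) ∧
      ∃ H : Subgroup (Cfsg.POmega F ⇑Q), H.index = 3 ^ m * (3 ^ m - 1) / 2 := by
  classical
  cases nonempty_fintype F
  obtain ⟨T, hTdef⟩ : ∃ T, T = 3 ^ m * (3 ^ m - 1) / 2 := ⟨_, rfl⟩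
  rw [← hTdef]
  have h2T : 2 * T = 3 ^ m * (3 ^ m - 1) := by
    rw [hTdef]
    refine Nat.mul_div_cancel' (Dvd.dvd.mul_left ?_ _)
    exact (sub_one_mul_geom (x := 3) m)
  have hpow : 3 ^ (2 * m) = 3 ^ m * 3 ^ m := by rw [two_mul, pow_add]
  have h1m : 3 ^ m ≤ 3 ^ m * 3 ^ m := Nat.le_mul_of_pos_left _ (pow_pos (by norm_num) _)
  have h2T' : 2 * T + 3 ^ m = 3 ^ (2 * m) := by rw [h2T, hpow, Nat.mul_sub_one]; omega
  have hd : Module.finrank F (Unit ⊕ (Fin m ⊕ Fin m) → F) = (2 * m - 1) + 2 := by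
    rw [Module.finrank_pi, Fintype.card_sum, Fintype.card_sum, Fintype.card_fin, Fintype.card_unit]; omega
  have hdt : Module.finrank F (⊤ : Submodule F (Unit ⊕ (Fin m ⊕ Fin m) → F)) = 2 * m + 1 := by
    rw [finrank_top, hd]; omega
  have hp : Nat.Prime q := by rw [h3]; norm_num
  have hlow : ∀ c : F, c ≠ 0 → 2 * T ≤ lev Q ⊤ c := fun c hc => by
    have h := (lev_bound hB (2 * m + 1) ⊤ (nondegOn_top hB) hdt c).1
    rw [h3, show (2 * m + 1) / 2 + 1 = m + 1 by omega, pow_succ', pow_succ'] at h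
    omega
  obtain ⟨hnum, hplane⟩ := num_three (k := 2 * m - 1) (T := T) (by omega)
    (by rw [show 2 * m - 1 + 1 = 2 * m by omega]; exact (Nat.le_add_right _ _).trans h2T'.le)
  have htot : Totals Q T := by
    refine ⟨?_, fun c hc => ?_⟩
    · rw [odd_points hB, h3, Nat.div_mul_cancel (sub_one_mul_geom (x := 3) (2 * m)), ← h2T',
        mul_comm T]
      exact Nat.le_sub_of_add_le (Nat.add_le_add_left (Nat.one_le_pow _ _ (by norm_num)) _)
    · rw [scalars_three h3 hc, card_nonzero_eq hc, mul_comm]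
      exact hlow c hc
  have hN : Nums Q (2 * m - 1) T :=
    ⟨h3.symm ▸ hnum, htot, by rw [h3]; exact hplane, fun h => absurd h (by omega)⟩
  refine ⟨pomega_lower hB (by omega) fun M hM => index_bound_prime hB hd (by omega) hp
    (fun P => ?_) (fun h5 => ⟨h3, ?_⟩) hM hN, ?_⟩
  · by_cases h : m = 3
    · exact Or.inr (Or.inr ⟨by omega, h3⟩)
    · exact Or.inl (by omega)
  · obtain rfl : m = 3 := by omega
    norm_num at h2T'
    omega
  · obtain ⟨c, hc, hle⟩ := exists_rare hB h3 m ⊤ (nondegOn_top hB) hdt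
    rw [h3, pow_succ' 3 m, pow_succ' 3 (2 * m)] at hle
    have heq : lev Q ⊤ c = T * 2 := by have := hlow c hc; omega
    obtain ⟨⟨z, hz⟩, hzc⟩ : Nonempty {x : (⊤ : Submodule F (Unit ⊕ (Fin m ⊕ Fin m) → F)) //
        Q (x : Unit ⊕ (Fin m ⊕ Fin m) → F) = c} := by
      refine (Nat.card_pos_iff.1 ?_).1
      show 0 < lev Q ⊤ c
      have : 3 ≤ 3 ^ m := Nat.le_self_pow (by omega) 3
      have : 3 * 3 ^ m ≤ 3 ^ m * 3 ^ m := Nat.mul_le_mul_right _ this
      omega
    rename_i _inst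
    have hz0 : z ≠ 0 := fun e => hc (by rw [← hzc, e]; exact QuadraticMap.map_zero Q)
    refine exists_line_index hB (by omega) hz0 ?_
    rw [show Q z = c from hzc, scalars_three h3 hc, card_nonzero_eq hc, heq]

end CfsgLib.MinIndexOrth
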