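import Cfsg.Agent.Lib.MinIndexOrth.Count
import Cfsg.Agent.Lib.Classical.OrthNondeg

/-!
A point, the parameters of its radical inside a subgroup, and lower bounds for the index from the
orbit of these parameters.
-/

set_option autoImplicit false
set_option linter.unusedSectionVars false

namespace CfsgLib.MinIndexOrth

open CfsgLib.Orth

variable {F : Type*} [Field F] [Finite F] {ι : Type} [Fintype ι] [DecidableEq ι]
variable {Q : QuadraticForm F (ι → F)}

local notation "B" => QuadraticMap.polar (DFunLike.coe Q)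
local notation "q" => Nat.card F

/-- A hyperbolic pair. -/
structure HP (Q : QuadraticForm F (ι → F)) where
  v : ι → F
  f : ι → F
  hv : Q v = 0
  hf : Q f = 0
  hvf : QuadraticMap.polar (DFunLike.coe Q) v f = 1

variable (P : HP Q)

theorem HP.hfv : B P.f P.v = 1 := by rw [b_comm, P.hvf]

theorem HP.v_ne : P.v ≠ 0 := fun e => zero_ne_one (α := F) (by rw [← P.hvf, e, b_zero_left])

/-- The complement of the pair. -/
def HP.W : Submodule F (ι → F) := orth Q (Submodule.span F ({P.v, P.f} : Set (ι → F)))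

theorem HP.mem_W {x : ι → F} : x ∈ P.W ↔ B P.v x = 0 ∧ B P.f x = 0 := by
  simp [HP.W, mem_orth_span]

/-- The projection onto the complement. -/
def HP.pW (x : ι → F) : ι → F := x - B P.f x • P.v - B P.v x • P.f

theorem HP.pW_mem (x : ι → F) : P.pW x ∈ P.W := by
  refine P.mem_W.2 ⟨?_, ?_⟩
  · rw [HP.pW, b_sub_right, b_sub_right, b_smul_right, b_smul_right, b_self_zero P.hv, P.hvf]; ring
  · rw [HP.pW, b_sub_right, b_sub_right, b_smul_right, b_smul_right, b_self_zero P.hf, P.hfv]; ring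

theorem HP.pW_of_mem {x : ι → F} (hx : x ∈ P.W) : P.pW x = x := by
  rw [HP.pW, (P.mem_W.1 hx).1, (P.mem_W.1 hx).2, zero_smul, zero_smul, sub_zero, sub_zero]

theorem HP.pW_add (x y : ι → F) : P.pW (x + y) = P.pW x + P.pW y := by
  simp only [HP.pW, b_add_right]; module

theorem HP.pW_smul (c : F) (x : ι → F) : P.pW (c • x) = c • P.pW x := by
  simp only [HP.pW, b_smul_right]; module

theorem HP.pW_sub (x y : ι → F) : P.pW (x - y) = P.pW x - P.pW y := by
  simp only [HP.pW, b_sub_right]; module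

theorem HP.pW_v : P.pW P.v = 0 := by
  rw [HP.pW, P.hfv, b_self_zero P.hv, one_smul, zero_smul, sub_self, sub_zero]

theorem HP.eq_pW {x : ι → F} (hx : B P.v x = 0) : x = P.pW x + B P.f x • P.v := by
  rw [HP.pW, hx, zero_smul, sub_zero]; abel

theorem HP.nondeg (hB : Nondeg Q) : NondegOn Q P.W := by
  intro x hx h
  refine hB x fun y => ?_
  have e : y = P.pW y + B P.f y • P.v + B P.v y • P.f := by rw [HP.pW]; abel
  rw [e, b_add_right, b_add_right, b_smul_right, b_smul_right, h _ (P.pW_mem y), b_comm x P.v,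
    b_comm x P.f, (P.mem_W.1 hx).1, (P.mem_W.1 hx).2]
  ring

theorem HP.linearIndependent : LinearIndependent F ![P.v, P.f] := by
  refine LinearIndependent.pair_iff.2 fun s t h => ?_
  have h1 := congrArg (B P.v) h
  have h2 := congrArg (B P.f) h
  rw [b_add_right, b_smul_right, b_smul_right, b_self_zero P.hv, P.hvf, b_zero_right] at h1
  rw [b_add_right, b_smul_right, b_smul_right, b_self_zero P.hf, P.hfv, b_zero_right] at h2
  exact ⟨by linear_combination h2, by linear_combination h1⟩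

theorem HP.finrank_W (hB : Nondeg Q) :
    Module.finrank F P.W + 2 = Module.finrank F (ι → F) := by
  have h := finrank_orth hB (Submodule.span F ({P.v, P.f} : Set (ι → F)))
  have h2 : Module.finrank F (Submodule.span F ({P.v, P.f} : Set (ι → F))) = 2 := by
    rw [← Matrix.range_cons_cons_empty P.v P.f ![]]
    exact (finrank_span_eq_card P.linearIndependent).trans (Fintype.card_fin 2)
  rw [h2, add_comm] at h
  exact h

theorem HP.card_W (hB : Nondeg Q) {k : ℕ} (hk : Module.finrank F (ι → F) = k + 2) :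
    Nat.card P.W = q ^ k := by
  rw [card_subspace]
  congr 1
  have := P.finrank_W hB
  omega

theorem siegel_trivial (hB : Nondeg Q) {u : ι → F} (hu : Q u = 0) (t : F) {g : Grp Q}
    (hg : IsSiegel u (t • u) g) : g = 1 := by
  have := siegel_add_self (siegel_one (Q := Q) hu) t
  rw [zero_add] at this
  exact siegel_unique hg this

variable (M : Subgroup (Grp Q))

/-- Parameters of the radical at a vector which lie in the subgroup. -/
def InM (u x : ι → F) : Prop := B u x = 0 ∧ ∀ g, IsSiegel u x g → g ∈ M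

theorem inM_add (hB : Nondeg Q) {u x y : ι → F} (hx : InM M u x) (hy : InM M u y) :
    InM M u (x + y) :=
  ⟨by rw [b_add_right, hx.1, hy.1, add_zero], fun _ hg => siegel_add_mem hB hg hy.1 hx.2 hy.2⟩

theorem inM_self (hB : Nondeg Q) {u : ι → F} (hu : Q u = 0) (t : F) : InM M u (t • u) :=
  ⟨by rw [b_smul_right, b_self_zero hu, mul_zero], fun _ hg => by
    rw [siegel_trivial hB hu t hg]; exact one_mem M⟩

theorem inM_zero (hB : Nondeg Q) {u : ι → F} (hu : Q u = 0) : InM M u 0 := by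
  have := inM_self M hB hu 0
  rwa [zero_smul] at this

theorem inM_neg (hB : Nondeg Q) {u x : ι → F} (hu : Q u = 0) (hx : InM M u x) : InM M u (-x) := by
  refine ⟨by rw [← neg_one_smul F x, b_smul_right, hx.1, mul_zero], fun g hg => ?_⟩
  obtain ⟨h, hh⟩ := exists_siegel hB hu hx.1
  have h1 := siegel_mul hh hg
  rw [add_neg_cancel] at h1
  rw [← inv_eq_of_mul_eq_one_right (siegel_unique h1 (siegel_one hu))]
  exact inv_mem (hx.2 h hh)

theorem inM_conj (hB : Nondeg Q) {u x : ι → F} {h : Grp Q} (hh : h ∈ M) (hx : InM M u x) :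
    InM M (ap h u) (ap h x) :=
  ⟨by rw [ap_b]; exact hx.1, fun _ hg => siegel_conj_mem hg hh fun k hk => hx.2 k (by
    rwa [ap_inv_ap, ap_inv_ap] at hk)⟩

theorem inM_smul_iff (hB : Nondeg Q) {u x : ι → F} (hu : Q u = 0) {c : F} (hc : c ≠ 0) :
    InM M (c • u) x ↔ InM M u (c • x) := by
  constructor
  · intro h
    have hux : B u x = 0 := by
      have := h.1
      rw [b_smul_left] at this
      exact (mul_eq_zero.1 this).resolve_left hc
    refine ⟨by rw [b_smul_right, hux, mul_zero], fun g hg => ?_⟩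
    obtain ⟨k, hk⟩ := exists_siegel hB (u := c • u) (by rw [q_smul, hu, mul_zero]) h.1
    obtain ⟨l, hl⟩ := exists_siegel hB hu hux
    rw [siegel_unique hg (siegel_smul hl c hk)]
    exact h.2 k hk
  · intro h
    have hux : B u x = 0 := by
      have := h.1
      rw [b_smul_right] at this
      exact (mul_eq_zero.1 this).resolve_left hc
    refine ⟨by rw [b_smul_left, hux, mul_zero], fun g hg => ?_⟩
    obtain ⟨l, hl⟩ := exists_siegel hB hu hux
    exact h.2 g (siegel_smul hl c hg)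

/-- The parameters at the point of the pair, in the complement. -/
def HP.A (hB : Nondeg Q) : AddSubgroup (ι → F) where
  carrier := {x | x ∈ P.W ∧ InM M P.v x}
  zero_mem' := ⟨P.W.zero_mem, inM_zero M hB P.hv⟩
  add_mem' := fun ha hb => ⟨P.W.add_mem ha.1 hb.1, inM_add M hB ha.2 hb.2⟩
  neg_mem' := fun ha => ⟨P.W.neg_mem ha.1, inM_neg M hB P.hv ha.2⟩

theorem HP.mem_A {hB : Nondeg Q} {x : ι → F} : x ∈ P.A M hB ↔ x ∈ P.W ∧ InM M P.v x := Iff.rfl

theorem HP.pW_mem_A (hB : Nondeg Q) {x : ι → F} (hx : InM M P.v x) : P.pW x ∈ P.A M hB := by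
  refine ⟨P.pW_mem x, ?_⟩
  have h := inM_add M hB hx (inM_self M hB P.hv (-(B P.f x)))
  rwa [show x + -(B P.f x) • P.v = P.pW x by rw [HP.pW, hx.1]; module] at h

/-- An element fixing the point of the pair, on the complement. -/
def HP.lin (g : Grp Q) (x : ι → F) : ι → F := P.pW (ap g x)

theorem HP.fix_inv {g : Grp Q} (hg : ap g P.v = P.v) : ap g⁻¹ P.v = P.v := by
  conv_lhs => rw [← hg]
  rw [ap_inv_ap]

theorem HP.lin_mem (g : Grp Q) (x : ι → F) : P.lin g x ∈ P.W := P.pW_mem _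

theorem HP.lin_mul {g h : Grp Q} (hg : ap g P.v = P.v) (hh : ap h P.v = P.v) {x : ι → F}
    (hx : x ∈ P.W) : P.lin (g * h) x = P.lin g (P.lin h x) := by
  have h1 : B P.v (ap h x) = 0 := by
    conv_lhs => rw [← hh]
    rw [ap_b]; exact (P.mem_W.1 hx).1
  rw [HP.lin, ap_mul]
  conv_lhs => rw [P.eq_pW h1]
  rw [ap_add, ap_smul, hg, P.pW_add, P.pW_smul, P.pW_v, smul_zero, add_zero]
  rfl

theorem HP.lin_one {x : ι → F} (hx : x ∈ P.W) : P.lin 1 x = x := by
  rw [HP.lin, ap_one, P.pW_of_mem hx]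

theorem HP.lin_inv {g : Grp Q} (hg : ap g P.v = P.v) {x : ι → F} (hx : x ∈ P.W) :
    P.lin g⁻¹ (P.lin g x) = x := by
  rw [← P.lin_mul (P.fix_inv hg) hg hx, inv_mul_cancel, P.lin_one hx]

theorem HP.lin_inv' {g : Grp Q} (hg : ap g P.v = P.v) {x : ι → F} (hx : x ∈ P.W) :
    P.lin g (P.lin g⁻¹ x) = x := by
  rw [← P.lin_mul hg (P.fix_inv hg) hx, mul_inv_cancel, P.lin_one hx]

theorem HP.lin_b {g : Grp Q} (hg : ap g P.v = P.v) {x y : ι → F} (hx : x ∈ P.W) (hy : y ∈ P.W) :
    B (P.lin g x) (P.lin g y) = B x y := by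
  have h1 : ∀ z ∈ P.W, B P.v (ap g z) = 0 := fun z hz => by
    conv_lhs => rw [← hg]
    rw [ap_b]; exact (P.mem_W.1 hz).1
  have h2 := ap_b g x y
  rw [P.eq_pW (h1 x hx), P.eq_pW (h1 y hy)] at h2
  rw [← h2]
  simp only [b_add_left, b_add_right, b_smul_left, b_smul_right, b_self_zero P.hv,
    (P.mem_W.1 (P.pW_mem (ap g y))).1, b_comm (P.pW (ap g x)) P.v, (P.mem_W.1 (P.pW_mem (ap g x))).1]
  simp only [mul_zero, add_zero]
  rfl

theorem HP.lin_q {g : Grp Q} (hg : ap g P.v = P.v) {x : ι → F} (hx : x ∈ P.W) :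
    Q (P.lin g x) = Q x := by
  have h1 : B P.v (ap g x) = 0 := by
    conv_lhs => rw [← hg]
    rw [ap_b]; exact (P.mem_W.1 hx).1
  conv_rhs => rw [← ap_q g x, P.eq_pW h1]
  rw [q_add, q_smul, P.hv, b_smul_right, b_comm _ P.v, (P.mem_W.1 (P.pW_mem _)).1]
  simp only [mul_zero, add_zero]
  rfl

theorem HP.lin_siegel {y : ι → F} {s : Grp Q} (hs : IsSiegel P.v y s) {x : ι → F} (hx : x ∈ P.W) :
    P.lin s x = x := by
  rw [HP.lin, hs.2.2, P.pW_sub, P.pW_sub, P.pW_add, P.pW_smul, P.pW_smul, P.pW_smul, P.pW_v,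
    P.pW_of_mem hx, b_comm x P.v, (P.mem_W.1 hx).1]
  module

theorem HP.fix_siegel {y : ι → F} {s : Grp Q} (hs : IsSiegel P.v y s) : ap s P.v = P.v :=
  siegel_fix hs (b_self_zero P.hv) hs.2.1

theorem HP.lin_mem_A (hB : Nondeg Q) {h : Grp Q} (hh : h ∈ M) (hv : ap h P.v = P.v) {x : ι → F}
    (hx : x ∈ P.A M hB) : P.lin h x ∈ P.A M hB := by
  have h1 := inM_conj M hB hh hx.2
  rw [hv] at h1
  exact P.pW_mem_A M hB h1

/-- The image of the parameters. -/
def HP.img (hB : Nondeg Q) (g : Grp Q) : Set (ι → F) := P.lin g '' (P.A M hB : Set (ι → F))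

theorem HP.A_le_W (hB : Nondeg Q) {x : ι → F} (hx : x ∈ P.A M hB) : x ∈ P.W := hx.1

theorem HP.img_eq_of_mem (hB : Nondeg Q) {m : Grp Q} (hm : m ∈ M) (hv : ap m P.v = P.v) :
    P.img M hB m = (P.A M hB : Set (ι → F)) := by
  refine Set.Subset.antisymm (Set.image_subset_iff.2 fun x hx => P.lin_mem_A M hB hm hv hx)
    fun x hx => ⟨P.lin m⁻¹ x, P.lin_mem_A M hB (inv_mem hm) (P.fix_inv hv) hx,
      P.lin_inv' hv hx.1⟩

theorem HP.img_mul (hB : Nondeg Q) {g h : Grp Q} (hg : ap g P.v = P.v) (hh : ap h P.v = P.v) :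
    P.img M hB (g * h) = P.lin g '' P.img M hB h := by
  rw [HP.img, HP.img, Set.image_image]
  exact Set.image_congr fun x hx => P.lin_mul hg hh hx.1

/-- The sets of parameters moved by elements fixing the point. -/
def HP.orbitA (hB : Nondeg Q) : Set (Set (ι → F)) :=
  {S | ∃ g ∈ El Q, ap g P.v = P.v ∧ P.img M hB g = S}

theorem HP.card_img (hB : Nondeg Q) {g : Grp Q} (hg : ap g P.v = P.v) :
    Nat.card (P.img M hB g) = Nat.card (P.A M hB) :=
  Nat.card_image_of_injOn fun x hx y hy e => by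
    rw [← P.lin_inv hg hx.1, e, P.lin_inv hg hy.1]

/-- The cosets with a representative fixing the point. -/
def HP.near : Set (El Q ⧸ M.subgroupOf (El Q)) :=
  {C | ∃ g : El Q, ap (g : Grp Q) P.v = P.v ∧ QuotientGroup.mk g = C}

theorem HP.card_near_le : Nat.card (P.near M) ≤ M.relIndex (El Q) := by
  rw [Subgroup.relIndex, Subgroup.index_eq_card]
  exact Finite.card_subtype_le _

/-- The index against the orbit of the parameters; an element stabilising them outside the radical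
times the subgroup doubles the bound. -/
theorem HP.near_orbit (hB : Nondeg Q) {E : Type*} [Finite E] (h : E → Grp Q)
    (hEl : ∀ e, h e ∈ El Q) (hfix : ∀ e, ap (h e) P.v = P.v)
    (himg : ∀ e, P.img M hB (h e) = (P.A M hB : Set (ι → F)))
    (hne : ∀ e e', e ≠ e' → ∀ y s, IsSiegel P.v y s → (h e)⁻¹ * s * h e' ∉ M) :
    Nat.card E * Nat.card P.W * Nat.card (P.orbitA M hB) ≤
      Nat.card (P.near M) * Nat.card (P.A M hB) := by
  classical
  choose g hgEl hgv hgimg using fun S : P.orbitA M hB => S.2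
  choose s hs using fun x : P.W => exists_siegel hB P.hv (P.mem_W.1 x.2).1
  let Φ : E × P.W × P.orbitA M hB → El Q ⧸ M.subgroupOf (El Q) := fun p =>
    QuotientGroup.mk ⟨s p.2.1 * g p.2.2 * h p.1,
      mul_mem (mul_mem (siegel_mem_El (hs p.2.1)) (hgEl p.2.2)) (hEl p.1)⟩
  have key : ∀ p p', Φ p = Φ p' → p.2.2 = p'.2.2 ∧ p.1 = p'.1 ∧
      ((p'.2.1 : ι → F) - p.2.1) ∈ P.img M hB (g p.2.2) := by
    rintro ⟨e, x, S⟩ ⟨e', x', S'⟩ hpp
    have hm : (s x * g S * h e)⁻¹ * (s x' * g S' * h e') ∈ M := by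
      simpa [Subgroup.mem_subgroupOf] using QuotientGroup.eq.1 hpp
    set m := (s x * g S * h e)⁻¹ * (s x' * g S' * h e') with hmdef
    have hfix' : ∀ x S e, ap (s x * g S * h e) P.v = P.v := fun x S e => by
      rw [ap_mul, ap_mul, hfix, hgv, P.fix_siegel (hs x)]
    have hmv : ap m P.v = P.v := by rw [hmdef, ap_mul, hfix', P.fix_inv (hfix' x S e)]
    have himg' : ∀ x S e, P.img M hB (s x * g S * h e) = S.1 := fun x S e => by
      have h1 : ap (s x * g S) P.v = P.v := by rw [ap_mul, hgv, P.fix_siegel (hs x)]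
      rw [P.img_mul M hB h1 (hfix e), himg e]
      show P.img M hB (s x * g S) = S.1
      rw [P.img_mul M hB (P.fix_siegel (hs x)) (hgv S), ← hgimg S]
      refine (Set.image_congr fun z hz => P.lin_siegel (hs x) ?_).trans (Set.image_id _)
      obtain ⟨a, -, rfl⟩ := hz
      exact P.lin_mem _ _
    have hSS : S = S' := Subtype.ext (by
      rw [← himg' x S e, ← himg' x' S' e', show s x' * g S' * h e' = s x * g S * h e * m by
        rw [hmdef, mul_inv_cancel_left], P.img_mul M hB (hfix' x S e) hmv, P.img_eq_of_mem M hB hm hmv]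
      rfl)
    subst hSS
    -- the radical parameter between the two
    obtain ⟨sd, hsd⟩ : ∃ sd, IsSiegel P.v ((x' : ι → F) - x) sd := exists_siegel hB P.hv (by
      rw [b_sub_right, (P.mem_W.1 x'.2).1, (P.mem_W.1 x.2).1, sub_zero])
    have hsd' : s x' = s x * sd := siegel_unique (hs x') (by
      have := siegel_mul (hs x) hsd; rwa [add_sub_cancel] at this)
    have hc := siegel_conj hsd (g S)⁻¹
    rw [P.fix_inv (hgv S), inv_inv] at hc
    have hm' : (h e)⁻¹ * ((g S)⁻¹ * sd * g S) * h e' ∈ M := by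
      have : m = (h e)⁻¹ * ((g S)⁻¹ * sd * g S) * h e' := by rw [hmdef, hsd']; group
      rwa [← this]
    have hee : e = e' := by
      by_contra hne'
      exact hne e e' hne' _ _ hc hm'
    subst hee
    refine ⟨rfl, rfl, ?_⟩
    have hc2 := siegel_conj hc (h e)⁻¹
    rw [P.fix_inv (hfix e), inv_inv] at hc2
    have hin : InM M P.v (ap (h e)⁻¹ (ap (g S)⁻¹ ((x' : ι → F) - x))) :=
      ⟨hc2.2.1, fun k hk => by rw [siegel_unique hk hc2]; exact hm'⟩
    have hd : (x' : ι → F) - x ∈ P.W := P.W.sub_mem x'.2 x.2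
    have hA : P.lin (h e)⁻¹ (P.lin (g S)⁻¹ ((x' : ι → F) - x)) ∈ P.A M hB := by
      have := P.pW_mem_A M hB hin
      rwa [← ap_mul, show P.pW (ap ((h e)⁻¹ * (g S)⁻¹) ((x' : ι → F) - x)) =
        P.lin ((h e)⁻¹ * (g S)⁻¹) _ from rfl,
        P.lin_mul (P.fix_inv (hfix e)) (P.fix_inv (hgv S)) hd] at this
    have hA' : P.lin (g S)⁻¹ ((x' : ι → F) - x) ∈ P.A M hB := by
      rw [← SetLike.mem_coe, ← himg e]
      exact ⟨_, hA, P.lin_inv' (hfix e) (P.lin_mem _ _)⟩
    exact ⟨_, hA', P.lin_inv' (hgv S) hd⟩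
  rw [mul_assoc, ← Nat.card_prod, ← Nat.card_prod, ← Nat.card_prod]
  have hnear : ∀ p, Φ p ∈ P.near M := fun p => ⟨⟨_, _⟩, by
    show ap (s p.2.1 * g p.2.2 * h p.1) P.v = P.v
    rw [ap_mul, ap_mul, hfix, hgv, P.fix_siegel (hs p.2.1)], rfl⟩
  choose p₀ hp₀ using fun c : Set.range Φ => c.2
  refine Nat.card_le_card_of_injective (β := P.near M × P.A M hB) (fun p =>
    (⟨Φ p, hnear p⟩, ⟨P.lin (g p.2.2)⁻¹ ((p.2.1 : ι → F) - (p₀ ⟨Φ p, p, rfl⟩).2.1), ?_⟩)) ?_
  · obtain ⟨h1, -, h3⟩ := key _ p (hp₀ ⟨Φ p, p, rfl⟩)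
    obtain ⟨a, ha, e⟩ := h3
    rw [← h1, ← e, P.lin_inv (hgv _) ha.1]
    exact ha
  · intro p p' e
    obtain ⟨e1, e2⟩ := Prod.ext_iff.1 e
    replace e1 : Φ p = Φ p' := congrArg Subtype.val e1
    obtain ⟨k1, k2, -⟩ := key p p' e1
    have e0 : p₀ ⟨Φ p, p, rfl⟩ = p₀ ⟨Φ p', p', rfl⟩ := congrArg p₀ (Subtype.ext e1)
    have e3 := congrArg (fun z : P.A M hB => P.lin (g p.2.2) (z : ι → F)) e2
    simp only at e3
    rw [← k1, e0, P.lin_inv' (hgv _) (P.W.sub_mem p.2.1.2 (p₀ _).2.1.2),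
      P.lin_inv' (hgv _) (P.W.sub_mem p'.2.1.2 (p₀ _).2.1.2)] at e3
    exact Prod.ext k2 (Prod.ext (Subtype.ext (sub_left_injective e3)) k1)

/-- The index against the orbit of the parameters, doubled by such elements. -/
theorem HP.index_orbit (hB : Nondeg Q) {E : Type*} [Finite E] (h : E → Grp Q)
    (hEl : ∀ e, h e ∈ El Q) (hfix : ∀ e, ap (h e) P.v = P.v)
    (himg : ∀ e, P.img M hB (h e) = (P.A M hB : Set (ι → F)))
    (hne : ∀ e e', e ≠ e' → ∀ y s, IsSiegel P.v y s → (h e)⁻¹ * s * h e' ∉ M) :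
    Nat.card E * Nat.card P.W * Nat.card (P.orbitA M hB) ≤
      M.relIndex (El Q) * Nat.card (P.A M hB) :=
  (P.near_orbit M hB h hEl hfix himg hne).trans (Nat.mul_le_mul_right _ (P.card_near_le M))

/-- The plain bound. -/
theorem HP.index_orbit_one (hB : Nondeg Q) :
    Nat.card P.W * Nat.card (P.orbitA M hB) ≤ M.relIndex (El Q) * Nat.card (P.A M hB) := by
  have h := P.index_orbit M hB (E := Unit) (fun _ => 1) (fun _ => one_mem _) (fun _ => ap_one _)
    (fun _ => (Set.image_congr fun x hx => P.lin_one hx.1).trans (Set.image_id _))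
    (fun e e' hee => absurd (Subsingleton.elim e e') hee)
  rwa [Nat.card_unique, one_mul] at h

/-- The sets moved by elements fixing the point, from a given one. -/
def HP.orbitSet (D : Set (ι → F)) : Set (Set (ι → F)) :=
  {S | ∃ g ∈ El Q, ap g P.v = P.v ∧ P.lin g '' D = S}

/-- Tuples spread over the orbit of a set. -/
theorem HP.set_orbit {D : Set (ι → F)} (hD : ∀ x ∈ D, x ∈ P.W) {κ : Type*} [Finite κ]
    (T : Set (κ → ι → F))
    (hTW : ∀ t ∈ T, ∀ i, t i ∈ P.W)
    (hT : ∀ g ∈ El Q, ap g P.v = P.v → P.lin g '' D = D →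
      ∀ t ∈ T, (fun i => P.lin g (t i)) ∈ T)
    (O : Set (κ → ι → F))
    (hO : ∀ o ∈ O, ∃ g ∈ El Q, ap g P.v = P.v ∧ ∃ t ∈ T, o = fun i => P.lin g (t i)) :
    Nat.card O ≤ Nat.card (P.orbitSet D) * Nat.card T := by
  classical
  choose g hgEl hgv t ht hot using fun o : O => hO o o.2
  choose r hrEl hrv hrimg using fun S : P.orbitSet D => S.2
  let S : O → P.orbitSet D := fun o => ⟨_, g o, hgEl o, hgv o, rfl⟩
  rw [← Nat.card_prod]
  refine Nat.card_le_card_of_injective
    (fun o => (S o, (⟨fun i => P.lin (r (S o))⁻¹ ((o : κ → ι → F) i), ?_⟩ : T))) ?_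
  · have hfix : ap ((r (S o))⁻¹ * g o) P.v = P.v := by rw [ap_mul, hgv, P.fix_inv (hrv _)]
    have himg : P.lin ((r (S o))⁻¹ * g o) '' D = D := by
      rw [Set.image_congr fun x hx => P.lin_mul (P.fix_inv (hrv _)) (hgv o) (hD x hx),
        ← Set.image_image (P.lin (r (S o))⁻¹) (P.lin (g o)), show P.lin (g o) '' D = (S o).1 from rfl,
        ← hrimg (S o), Set.image_image]
      refine (Set.image_congr fun x hx => P.lin_inv (hrv _) (hD x hx)).trans (Set.image_id _)
    have := hT _ (mul_mem (inv_mem (hrEl _)) (hgEl o)) hfix himg _ (ht o)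
    convert this using 1
    funext i
    rw [P.lin_mul (P.fix_inv (hrv _)) (hgv o) (hTW _ (ht o) i), congrFun (hot o) i]
  · intro o o' e
    obtain ⟨e1, e2⟩ := Prod.ext_iff.1 e
    refine Subtype.ext (funext fun i => ?_)
    have e3 := congrArg (P.lin (r (S o))) (congrFun (congrArg Subtype.val e2) i)
    simp only at e1 e3
    have hW : ∀ o : O, (o : κ → ι → F) i ∈ P.W := fun o => by rw [congrFun (hot o) i]; exact P.lin_mem _ _
    rw [P.lin_inv' (hrv _) (hW o), ← e1, P.lin_inv' (hrv _) (hW o')] at e3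
    exact e3

/-- Tuples spread over the orbit of the parameters. -/
theorem HP.tuple_orbit (hB : Nondeg Q) {κ : Type*} [Finite κ] (T : Set (κ → ι → F))
    (hTW : ∀ t ∈ T, ∀ i, t i ∈ P.W)
    (hT : ∀ g ∈ El Q, ap g P.v = P.v → P.img M hB g = (P.A M hB : Set (ι → F)) →
      ∀ t ∈ T, (fun i => P.lin g (t i)) ∈ T)
    (O : Set (κ → ι → F))
    (hO : ∀ o ∈ O, ∃ g ∈ El Q, ap g P.v = P.v ∧ ∃ t ∈ T, o = fun i => P.lin g (t i)) :
    Nat.card O ≤ Nat.card (P.orbitA M hB) * Nat.card T :=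
  P.set_orbit (D := (P.A M hB : Set (ι → F))) (fun _ h => h.1) T hTW hT O hO

/-- The index against tuples attached to the parameters. -/
theorem HP.index_tuple (hB : Nondeg Q) {κ : Type*} [Finite κ] (T : Set (κ → ι → F))
    (hTW : ∀ t ∈ T, ∀ i, t i ∈ P.W)
    (hT : ∀ g ∈ El Q, ap g P.v = P.v → P.img M hB g = (P.A M hB : Set (ι → F)) →
      ∀ t ∈ T, (fun i => P.lin g (t i)) ∈ T)
    (O : Set (κ → ι → F))
    (hO : ∀ o ∈ O, ∃ g ∈ El Q, ap g P.v = P.v ∧ ∃ t ∈ T, o = fun i => P.lin g (t i)) :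
    Nat.card P.W * Nat.card O ≤ M.relIndex (El Q) * (Nat.card (P.A M hB) * Nat.card T) := by
  refine (Nat.mul_le_mul_left _ (P.tuple_orbit M hB T hTW hT O hO)).trans ?_
  rw [← mul_assoc, ← mul_assoc]
  exact Nat.mul_le_mul_right _ (P.index_orbit_one M hB)

end CfsgLib.MinIndexOrth
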