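import Cfsg.Agent.Lib.MinIndexOrth.Minus
import Cfsg.Agent.Lib.MinIndexOrth.ArithTwo

/-!
The least index over two elements, from ten dimensions on.
-/

set_option autoImplicit false
set_option linter.unusedSectionVars false

namespace CfsgLib.MinIndexOrth

open CfsgLib.Orth

variable {F : Type*} [Field F] [Finite F]

local notation "q" => Nat.card F

section

variable {ι : Type} [Fintype ι] [DecidableEq ι] {Q : QuadraticForm F (ι → F)}

theorem scalars_two (h2 : q = 2) (c : F) : Nat.card {t : F // t ≠ 0 ∧ t * t * c = c} = 1 := by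
  have : Subsingleton {t : F // t ≠ 0 ∧ t * t * c = c} := ⟨fun a b =>
    Subtype.ext ((two_values h2 a.2.1).trans (two_values h2 b.2.1).symm)⟩
  have : Nonempty {t : F // t ≠ 0 ∧ t * t * c = c} := ⟨⟨1, one_ne_zero, by ring⟩⟩
  exact Nat.card_unique

/-- The totals from the two level sets. -/
theorem totals_two (h2 : q = 2) {T : ℕ} (h0 : T ≤ Nat.card {y : ι → F // y ≠ 0 ∧ Q y = 0})
    (h1 : T ≤ lev Q ⊤ 1) : Totals Q T := by
  refine ⟨by rw [h2]; omega, fun c hc => ?_⟩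
  rw [scalars_two h2, mul_one, card_nonzero_eq hc, two_values h2 hc]
  exact h1

theorem bound_two_large (hB : Nondeg Q) (h2 : q = 2) {k T : ℕ}
    (hk : Module.finrank F (ι → F) = k + 2) (hk8 : k = 8 ∧ T ≤ 496 ∨ 10 ≤ k ∧ T ≤ 2 ^ (k + 1))
    (htot : Totals Q T) (H : Subgroup (Cfsg.POmega F ⇑Q)) (hH : H ≠ ⊤) : T ≤ H.index := by
  obtain ⟨hnum, hplane⟩ := num_two hk8
  have hp : Nat.Prime q := by rw [h2]; norm_num
  have hN : Nums Q k T := ⟨h2.symm ▸ hnum, htot, by rw [h2]; exact hplane, fun h => absurd h (by omega)⟩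
  exact pomega_lower hB (by omega) (fun M hM => index_bound_prime hB hk (by omega) hp
    (fun _ => Or.inl (by omega)) (fun h5 => absurd h5 (by omega)) hM hN) H hH

theorem lev_sum (h2 : q = 2) (U : Submodule F (ι → F)) :
    lev Q U 0 + lev Q U 1 = q ^ Module.finrank F U := by
  classical
  cases nonempty_fintype F
  rw [← card_subspace, lev, lev, ← Nat.card_sum]
  refine Nat.card_eq_of_bijective (Sum.elim Subtype.val Subtype.val) ⟨?_, fun x => ?_⟩
  · rintro (a | a) (b | b) e <;> simp only [Sum.elim_inl, Sum.elim_inr] at e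
    · exact congrArg Sum.inl (Subtype.ext e)
    · exact absurd (a.2.symm.trans (e ▸ b.2)) zero_ne_one
    · exact absurd (b.2.symm.trans (e ▸ a.2)) zero_ne_one
    · exact congrArg Sum.inr (Subtype.ext e)
  · by_cases h : Q (x : ι → F) = 0
    · exact ⟨Sum.inl ⟨x, h⟩, rfl⟩
    · exact ⟨Sum.inr ⟨x, two_values h2 h⟩, rfl⟩

end

/-- The plus form: the stabiliser of a line off the quadric. -/
theorem plus_two_data {m : ℕ} (hm : 3 ≤ m) (h2 : q = 2)
    {Q : QuadraticForm F (Fin m ⊕ Fin m → F)} (hQ : ⇑Q = Cfsg.quadFormPlus m F) (hB : Nondeg Q) :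
    Totals Q (2 ^ (m - 1) * (2 ^ m - 1)) ∧
      ∃ H : Subgroup (Cfsg.POmega F ⇑Q), H.index = 2 ^ (m - 1) * (2 ^ m - 1) := by
  classical
  cases nonempty_fintype F
  have hpts := plus_points (show 1 ≤ m by omega) hQ hB
  have e := lev_sum (Q := Q) h2 ⊤
  have hd : Module.finrank F (⊤ : Submodule F (Fin m ⊕ Fin m → F)) = 2 * m := by
    rw [finrank_top, Module.finrank_pi, Fintype.card_sum, Fintype.card_fin]; ring
  rw [← card_nonzero_zero, hd, hpts, h2] at e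
  rw [h2] at hpts
  obtain ⟨j, rfl⟩ : ∃ j, m = j + 1 := ⟨m - 1, by omega⟩
  simp only [Nat.add_sub_cancel, show (2 : ℕ) - 1 = 1 from rfl, Nat.div_one, mul_one] at e hpts ⊢
  have hP : 2 ^ (2 * (j + 1)) = 2 * 2 ^ j * (2 * 2 ^ j) := by rw [← pow_succ', ← pow_add]; ring_nf
  rw [hP, pow_succ'] at e
  rw [pow_succ'] at hpts ⊢
  have h1 : 1 ≤ 2 ^ j := Nat.one_le_two_pow
  obtain ⟨a, ha⟩ : ∃ a, 2 ^ j = a + 1 := ⟨2 ^ j - 1, by omega⟩
  rw [ha] at e hpts ⊢
  rw [show 2 * (a + 1) - 1 = 2 * a + 1 by omega] at e hpts ⊢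
  have hlev : lev Q ⊤ 1 = (a + 1) * (2 * a + 1) := by nlinarith
  have hz : 0 < lev Q ⊤ 1 := by rw [hlev]; positivity
  obtain ⟨⟨⟨z, _⟩, hzc⟩⟩ := (Nat.card_pos_iff.1 hz).1
  refine ⟨totals_two h2 ?_ hlev.ge, exists_line_index hB (by rw [← finrank_top, hd]; omega)
    (z := z) (fun e0 => ?_) ?_⟩
  · rw [hpts]; nlinarith
  · rw [show z = 0 from e0] at hzc
    exact one_ne_zero (α := F) (hzc.symm.trans (QuadraticMap.map_zero Q))
  · rw [show Q z = 1 from hzc, scalars_two h2, mul_one, card_nonzero_eq one_ne_zero, hlev]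

theorem minus_two_data {j : ℕ} (hj : 3 ≤ j) (h2 : q = 2) {a b : F}
    (hab : ∀ z₁ z₂ : F, z₁ ^ 2 + a * z₁ * z₂ + b * z₂ ^ 2 = 0 → z₁ = 0 ∧ z₂ = 0)
    {Q : QuadraticForm F ((Fin j ⊕ Fin j) ⊕ Fin 2 → F)}
    (hQ : ⇑Q = Cfsg.quadFormMinus j F a b) (hB : Nondeg Q) :
    Totals Q ((2 ^ (j + 1) + 1) * (2 ^ j - 1)) ∧
      ∃ H : Subgroup (Cfsg.POmega F ⇑Q), H.index = (2 ^ (j + 1) + 1) * (2 ^ j - 1) := by
  have hpts := minus_points hab hQ hB
  rw [h2, show (2 : ℕ) - 1 = 1 from rfl, Nat.div_one, mul_one] at hpts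
  have h := lev_minus_ge hB (Or.inl h2) (j + 1) ⊤ (nondegOn_top hB)
    (by rw [finrank_top, minus_dim]; ring) (minus_no_half hab hQ) 1 one_ne_zero
  refine ⟨totals_two h2 hpts.ge ?_, exists_point_index hB (by rw [minus_dim]; omega)
    (hpts.trans (by rw [h2]; omega))⟩
  rw [h2, show 2 * (j + 1) = j + 1 + j + 1 by ring, pow_succ' 2 (j + 1 + j), pow_succ' 2 j, pow_add,
    pow_succ' 2 j] at h
  rw [pow_succ']
  have h1 : 1 ≤ 2 ^ j := Nat.one_le_two_pow
  obtain ⟨x, hx⟩ : ∃ x, 2 ^ j = x + 1 := ⟨2 ^ j - 1, by omega⟩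
  rw [hx] at h ⊢
  rw [Nat.add_sub_cancel]
  nlinarith

end CfsgLib.MinIndexOrth
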