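import Cfsg.Agent.Lib.MinIndexOrth.Two

/-!
Eight dimensions over two elements.
-/

set_option autoImplicit false
set_option linter.unusedSectionVars false

namespace CfsgLib.MinIndexOrth

open CfsgLib.Orth

variable {F : Type*} [Field F] [Finite F] {ι : Type} [Fintype ι] [DecidableEq ι]
variable {Q : QuadraticForm F (ι → F)}

local notation "B" => QuadraticMap.polar (DFunLike.coe Q)
local notation "q" => Nat.card F

variable {P : HP Q} {M : Subgroup (Grp Q)} {hB : Nondeg Q} {S : AddSubgroup (ι → F)} {k T : ℕ}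

/-- The index against the pairs inside a stable set, by the whole orbit of a pair. -/
theorem Stable.pair_exact (h : Stable P M hB S) (hk : Module.finrank F (ι → F) = k + 2) (hk6 : 6 ≤ k)
    {x y : ι → F} (hx : x ∈ S) (hy : y ∈ S) (hx0 : x ≠ 0) (hyx : y ∉ Submodule.span F {x}) :
    q ^ k * Nat.card (gram P.W Q x y) ≤ M.relIndex (El Q) *
      (Nat.card (P.A M hB) * Nat.card ↥(gram P.W Q x y ∩ {t | t 0 ∈ S ∧ t 1 ∈ S})) := by
  rw [← P.card_W hB hk]
  refine P.index_tuple M hB _ (fun t ht i => ?_) (fun g hg hgv himg t ht => ?_) _ fun o ho => ?_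
  · fin_cases i
    exacts [ht.1.1.1, ht.1.2.1]
  · obtain ⟨⟨⟨a1, a2, a3⟩, b1, b2, b3, b4⟩, c1, c2⟩ := ht
    refine ⟨⟨⟨P.lin_mem _ _, fun e => a2 ?_, (P.lin_q hgv a1).trans a3⟩, P.lin_mem _ _, fun hsp => b2 ?_,
      (P.lin_b hgv a1 b1).trans b3, (P.lin_q hgv b1).trans b4⟩, h.inv g hg hgv himg _ c1,
      h.inv g hg hgv himg _ c2⟩
    · rw [← P.lin_inv hgv a1]
      show P.lin g⁻¹ (P.lin g (t 0)) = 0
      rw [show P.lin g (t 0) = 0 from e, HP.lin, ap_zero, HP.pW, b_zero_right, b_zero_right,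
        zero_smul, zero_smul, sub_zero, sub_zero]
    · obtain ⟨c, hc⟩ := Submodule.mem_span_singleton.1 hsp
      refine Submodule.mem_span_singleton.2 ⟨c, ?_⟩
      have hc' : c • P.lin g (t 0) = P.lin g (t 1) := hc
      rw [← P.lin_inv hgv b1, ← hc',
        show P.lin g⁻¹ (c • P.lin g (t 0)) = c • P.lin g⁻¹ (P.lin g (t 0)) by
          rw [HP.lin, ap_smul, P.pW_smul]; rfl]
      exact congrArg (c • ·) (P.lin_inv hgv a1).symm
  · obtain ⟨g, hg, a1, -, a3, a4⟩ := P.exists_move_two hB hk (by omega) (h.le _ hx) (h.le _ hy) ho.1.1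
      ho.2.1 hx0 ho.1.2.1 hyx ho.2.2.1 ho.1.2.2.symm ho.2.2.2.2.symm ho.2.2.2.1.symm (Or.inl hk6)
    refine ⟨g, hg, a1, ![x, y], ⟨⟨⟨h.le _ hx, hx0, rfl⟩, h.le _ hy, hyx, rfl, rfl⟩, hx, hy⟩,
      funext fun i => ?_⟩
    fin_cases i
    · show o 0 = P.lin g x
      rw [HP.lin, a3, P.pW_of_mem ho.1.1]
    · show o 1 = P.lin g y
      rw [HP.lin, a4, P.pW_of_mem ho.2.1]

/-- The non-zero vectors of a set with a given value. -/
noncomputable def cls (Q : QuadraticForm F (ι → F)) (S : AddSubgroup (ι → F)) (c : F) : ℕ :=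
  Nat.card {a : ι → F // a ∈ S ∧ a ≠ 0 ∧ Q a = c}

theorem cls_sum (h2 : q = 2) (S : AddSubgroup (ι → F)) : cls Q S 0 + cls Q S 1 + 1 = Nat.card S := by
  classical
  rw [cls, cls, ← Nat.card_sum, ← Finite.card_option]
  refine Nat.card_eq_of_bijective (fun o => o.elim (0 : S)
    (Sum.elim (fun a => ⟨a.1, a.2.1⟩) fun a => ⟨a.1, a.2.1⟩)) ⟨?_, fun s => ?_⟩
  · rintro (_ | a | a) (_ | b | b) e
    all_goals first | rfl | skip
    all_goals have e' := congrArg Subtype.val e
    all_goals simp only [Option.elim_none, Option.elim_some, Sum.elim_inl, Sum.elim_inr,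
      AddSubgroup.coe_zero] at e'
    · exact absurd e'.symm b.2.2.1
    · exact absurd e'.symm b.2.2.1
    · exact absurd e' a.2.2.1
    · exact congrArg (fun z => some (Sum.inl z)) (Subtype.ext e')
    · exact absurd (a.2.2.2.symm.trans (e' ▸ b.2.2.2)) zero_ne_one
    · exact absurd e' a.2.2.1
    · exact absurd (b.2.2.2.symm.trans (e' ▸ a.2.2.2)) zero_ne_one
    · exact congrArg (fun z => some (Sum.inr z)) (Subtype.ext e')
  · by_cases hs : (s : ι → F) = 0
    · exact ⟨none, Subtype.ext hs.symm⟩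
    by_cases hq : Q (s : ι → F) = 0
    · exact ⟨some (Sum.inl ⟨s, s.2, hs, hq⟩), rfl⟩
    · exact ⟨some (Sum.inr ⟨s, s.2, hs, two_values h2 hq⟩), rfl⟩

theorem cls_pos {x : ι → F} (hx : x ∈ S) (hx0 : x ≠ 0) : 0 < cls Q S (Q x) :=
  Nat.card_pos_iff.2 ⟨⟨⟨x, hx, hx0, rfl⟩⟩, inferInstance⟩

theorem exists_of_cls {c : F} (h : 0 < cls Q S c) : ∃ x ∈ S, x ≠ 0 ∧ Q x = c := by
  obtain ⟨⟨x, hx, hx0, hxc⟩⟩ := (Nat.card_pos_iff.1 h).1
  exact ⟨x, hx, hx0, hxc⟩

theorem exists_second_of_cls {c : F} (h : 2 ≤ cls Q S c) {x : ι → F} :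
    ∃ y ∈ S, y ≠ 0 ∧ Q y = c ∧ y ≠ x := by
  by_contra hcon
  push Not at hcon
  have h1 : Nat.card {a : ι → F // a ∈ S ∧ a ≠ 0 ∧ Q a = c} ≤ 1 := by
    have : Subsingleton {a : ι → F // a ∈ S ∧ a ≠ 0 ∧ Q a = c} := ⟨fun a b => Subtype.ext
      ((hcon a a.2.1 a.2.2.1 a.2.2.2).trans (hcon b b.2.1 b.2.2.1 b.2.2.2).symm)⟩
    exact Finite.card_le_one_iff_subsingleton.2 this
  exact absurd (h.trans h1) (by norm_num)

theorem not_mem_span_two (h2 : q = 2) {x y : ι → F} (hy0 : y ≠ 0) (hyx : y ≠ x) :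
    y ∉ Submodule.span F {x} := fun h => by
  obtain ⟨c, rfl⟩ := Submodule.mem_span_singleton.1 h
  by_cases hc : c = 0
  · exact hy0 (by rw [hc, zero_smul])
  · exact hyx (by rw [two_values h2 hc, one_smul])

/-- Pairs inside a set, by the two classes. -/
theorem gram_inter_le {x y : ι → F} {n m : ℕ} (hn : cls Q S (Q x) ≤ n)
    (hm : (Q y = Q x → cls Q S (Q y) ≤ m + 1) ∧ (Q y ≠ Q x → cls Q S (Q y) ≤ m)) :
    Nat.card ↥(gram P.W Q x y ∩ {t | t 0 ∈ S ∧ t 1 ∈ S}) ≤ n * m := by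
  classical
  refine card_pairs_le (p := fun a => a ∈ S ∧ a ≠ 0 ∧ Q a = Q x)
    (r := fun a b => b ∈ S ∧ b ≠ 0 ∧ Q b = Q y ∧ b ≠ a)
    (fun t ht => ⟨⟨ht.2.1, ht.1.1.2.1, ht.1.1.2.2⟩, ht.2.2,
      fun e => ht.1.2.2.1 (e ▸ Submodule.zero_mem _), ht.1.2.2.2.2,
      fun e => ht.1.2.2.1 (e ▸ Submodule.mem_span_singleton_self _)⟩) hn fun a ha => ?_
  by_cases he : Q y = Q x
  · replace hm := hm.1 he
    have h1 : Nat.card {b : ι → F // b ∈ S ∧ b ≠ 0 ∧ Q b = Q y ∧ b ≠ a} + 1 ≤ cls Q S (Q y) := by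
      rw [← Finite.card_option, cls]
      refine Nat.card_le_card_of_injective (fun o => o.elim
        (⟨a, ha.1, ha.2.1, ha.2.2.trans he.symm⟩ : {b : ι → F // b ∈ S ∧ b ≠ 0 ∧ Q b = Q y})
        fun b => ⟨b.1, b.2.1, b.2.2.1, b.2.2.2.1⟩) ?_
      rintro (_ | b) (_ | b') e
      · rfl
      · exact absurd (congrArg Subtype.val e).symm b'.2.2.2.2
      · exact absurd (congrArg Subtype.val e) b.2.2.2.2
      · exact congrArg some (Subtype.ext
          (congrArg (fun z : {b : ι → F // b ∈ S ∧ b ≠ 0 ∧ Q b = Q y} => (z : ι → F)) e))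
    omega
  · replace hm := hm.2 he
    refine le_trans (Nat.card_le_card_of_injective (fun b => (⟨b.1, b.2.1, b.2.2.1, b.2.2.2.1⟩ :
      {b : ι → F // b ∈ S ∧ b ≠ 0 ∧ Q b = Q y})) fun u w e => ?_) hm
    exact Subtype.ext (congrArg (fun z : {b : ι → F // b ∈ S ∧ b ≠ 0 ∧ Q b = Q y} => (z : ι → F)) e)

theorem two_eq_zero (h2 : q = 2) : (2 : F) = 0 := by
  cases nonempty_fintype F
  have h := FiniteField.cast_card_eq_zero F
  rw [← Nat.card_eq_fintype_card, h2] at h
  exact_mod_cast h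

/-- Not all vectors of an eight-element set have the value one. -/
theorem cls_zero_pos (h2 : q = 2) (h8 : Nat.card S = 8) : 0 < cls Q S 0 := by
  classical
  by_contra h0
  have hq1 : ∀ a ∈ S, a ≠ 0 → Q a = 1 := fun a ha ha0 => by
    refine two_values h2 fun e => ?_
    have := cls_pos (Q := Q) ha ha0
    rw [e] at this
    omega
  have hb1 : ∀ a ∈ S, ∀ b ∈ S, a ≠ 0 → b ≠ 0 → a + b ≠ 0 → B a b = -1 := by
    intro a ha b hb ha0 hb0 hab
    have h := hq1 _ (S.add_mem ha hb) hab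
    rw [q_add, hq1 a ha ha0, hq1 b hb hb0] at h
    linear_combination h
  have hneg : ∀ v : ι → F, -v = v := fun v => by
    have h : v + v = 0 := by rw [← two_smul F v, two_eq_zero h2, zero_smul]
    exact neg_eq_of_add_eq_zero_left h
  have hne : ∀ {v w : ι → F}, v ≠ w → v + w ≠ 0 := fun {v w} h e => h (by
    rw [eq_neg_of_add_eq_zero_left e, hneg])
  have h1 : 7 = cls Q S 1 := by have := cls_sum (Q := Q) h2 S; omega
  obtain ⟨x, hx, hx0, -⟩ := exists_of_cls (show 0 < cls Q S 1 by omega)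
  obtain ⟨y, hy, hy0, -, hyx⟩ := exists_second_of_cls (show 2 ≤ cls Q S 1 by omega) (x := x)
  obtain ⟨z, hz, hz'⟩ : ∃ z ∈ S, z ∉ ({0, x, y, x + y} : Finset (ι → F)) := by
    by_contra hc
    push Not at hc
    have h := Nat.card_le_card_of_injective
      (fun a : S => (⟨(a : ι → F), hc a a.2⟩ : ({0, x, y, x + y} : Finset (ι → F))))
      fun a b e => Subtype.ext (congrArg (fun w : ({0, x, y, x + y} : Finset (ι → F)) => (w : ι → F)) e)
    rw [h8, Nat.card_eq_fintype_card, Fintype.card_coe] at h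
    have := h.trans Finset.card_le_four
    omega
  simp only [Finset.mem_insert, Finset.mem_singleton, not_or] at hz'
  obtain ⟨hz0, hzx, hzy, hzxy⟩ := hz'
  have e1 := hb1 x hx y hy hx0 hy0 (hne hyx.symm)
  have e2 := hb1 x hx z hz hx0 hz0 (hne (Ne.symm hzx))
  have e3 := hb1 x hx _ (S.add_mem hy hz) hx0 (hne (Ne.symm hzy)) (hne fun e => hzxy (by
    rw [e, add_comm y z, add_assoc, ← two_smul F y, two_eq_zero h2, zero_smul, add_zero]))
  rw [b_add_right, e1, e2] at e3
  exact one_ne_zero (α := F) (by linear_combination -e3)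

/-- Second vectors of two kinds in six dimensions over two elements. -/
theorem second_two (hB : Nondeg Q) (h2 : q = 2) {U : Submodule F (ι → F)} (hU : NondegOn Q U)
    (hd : Module.finrank F U = 6) {x : ι → F} (hx : x ∈ U) (hx0 : x ≠ 0) :
    (Q x = 0 → 10 ≤ Nat.card {y : ι → F // y ∈ U ∧ y ∉ Submodule.span F {x} ∧ B x y = 0 ∧ Q y = 0}) ∧
      8 ≤ Nat.card {y : ι → F // y ∈ U ∧ y ∉ Submodule.span F {x} ∧ B x y = 1 ∧ Q y = 1} := by
  classical
  refine ⟨fun hxq => ?_, ?_⟩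
  · obtain ⟨U', hle, hU', hd', hperp, -⟩ := exists_split hB hU hx hx0 hxq
    have hl : 5 ≤ Nat.card {y : ι → F // y ∈ U' ∧ y ≠ 0 ∧ Q y = 0} := by
      have h1 := lev_le_nonzero (Q := Q) U'
      rcases lev_zero_even hB 2 U' hU' (by omega) with ⟨-, h⟩ | ⟨-, h⟩ <;> rw [h2] at h <;>
        norm_num at h <;> omega
    have hxU' : x ∉ U' := fun h' => hx0 (hU' x h' hperp)
    have h4 : q * Nat.card {y : ι → F // y ∈ U' ∧ y ≠ 0 ∧ Q y = 0} ≤
        Nat.card {y : ι → F // y ∈ U ∧ y ∉ Submodule.span F {x} ∧ B x y = 0 ∧ Q y = 0} := by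
      rw [← Nat.card_prod]
      refine Nat.card_le_card_of_injective
        (fun p : F × {y : ι → F // y ∈ U' ∧ y ≠ 0 ∧ Q y = 0} => ⟨(p.2 : ι → F) + p.1 • x,
          U.add_mem (hle p.2.2.1) (U.smul_mem _ hx), fun hsp => ?_, ?_, ?_⟩) fun a b e => ?_
      · refine p.2.2.2.1 (hU' _ p.2.2.1 fun z hz => ?_)
        obtain ⟨c, hc⟩ := Submodule.mem_span_singleton.1
          ((Submodule.add_mem_iff_left _ (Submodule.smul_mem _ p.1 (Submodule.mem_span_singleton_self x))).1 hsp)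
        rw [← hc, b_smul_left, hperp z hz, mul_zero]
      · rw [b_add_right, hperp _ p.2.2.1, b_smul_right, b_self_zero hxq, mul_zero, add_zero]
      · rw [q_add, p.2.2.2.2, q_smul, hxq, b_smul_right, b_comm, hperp _ p.2.2.1]; ring
      · have e' : (a.2 : ι → F) + a.1 • x = (b.2 : ι → F) + b.1 • x := congrArg Subtype.val e
        have h5 : (a.1 - b.1) • x ∈ U' := by
          rw [show (a.1 - b.1) • x = (b.2 : ι → F) - a.2 by linear_combination (norm := module) e']
          exact U'.sub_mem b.2.2.1 a.2.2.1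
        have h6 : a.1 = b.1 := by
          by_contra hne
          exact hxU' ((Submodule.smul_mem_iff _ (sub_ne_zero.2 hne)).1 h5)
        rw [h6] at e'
        exact Prod.ext h6 (Subtype.ext (add_right_cancel e'))
    rw [h2] at h4
    omega
  · obtain ⟨x', hx', hxx', hdet⟩ := exists_plane_at hB hU (by omega) hx hx0
    obtain ⟨h1, -⟩ := card_plane hB hU (show Module.finrank F U = 4 + 2 by omega) hx hx' hxx' hdet 1 1
    rw [h2] at h1
    norm_num at h1
    have h3 : Nat.card {y : ι → F // y ∈ U ∧ B x y = 1 ∧ Q y = 1} ≤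
        Nat.card {y : ι → F // y ∈ U ∧ y ∉ Submodule.span F {x} ∧ B x y = 1 ∧ Q y = 1} := by
      refine Nat.card_le_card_of_injective (fun y => ⟨y.1, y.2.1, fun hsp => ?_, y.2.2⟩) fun a b e => ?_
      · obtain ⟨c, hc⟩ := Submodule.mem_span_singleton.1 hsp
        have h := y.2.2.1
        rw [← hc, b_smul_right, b_self, two_eq_zero h2, zero_mul, mul_zero] at h
        exact zero_ne_one h
      · exact Subtype.ext (congrArg (fun z : {y : ι → F // y ∈ U ∧ y ∉ Submodule.span F {x} ∧ B x y = 1 ∧ Q y = 1} =>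
          (z : ι → F)) e)
    omega

/-- The numbers over two elements. -/
theorem two_consts : L1 2 6 = 23 ∧ L2 2 6 = 6 ∧ C2 2 6 = 138 ∧ o3 2 = 15 := by
  norm_num [L1, L2, C2, o3]

/-- A point with at most eight parameters. -/
theorem six_two_few (hk : Module.finrank F (ι → F) = 6 + 2) (h2 : q = 2) (hT : T ≤ 120)
    (hα : Nat.card (P.A M hB) ≤ 8) : T ≤ M.relIndex (El Q) ∨ Compl P M hB := by
  classical
  obtain ⟨hL1, hL2, hC2, ho3⟩ := two_consts
  have hW : Module.finrank F P.W = 6 := by have := P.finrank_W hB; omega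
  by_cases h0 : ∀ x ∈ P.A M hB, x = 0
  · rcases P.compl_or M hB hk h0 with h | h
    · exact Or.inr h
    · rw [h2] at h
      norm_num at h
      exact Or.inl (by omega)
  push Not at h0
  obtain ⟨x, hx, hx0⟩ := h0
  left
  have hS := P.stable_A M hB
  obtain ⟨i, -, hi⟩ : ∃ i ≤ Module.finrank F (ι → F), Nat.card (P.A M hB) = 2 ^ i := by
    refine (Nat.dvd_prime_pow Nat.prime_two).1 ?_
    have h := (P.A M hB).card_addSubgroup_dvd_card
    rwa [Module.natCard_eq_pow_finrank (K := F) (V := ι → F), h2] at h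
  have hα2 : 2 ≤ Nat.card (P.A M hB) := by
    by_contra h
    have hpos : 0 < Nat.card (P.A M hB) := Nat.card_pos
    exact hx0 (card_eq_one_iff.1 (show Nat.card (P.A M hB) = 1 by omega) x hx)
  by_cases h2' : Nat.card (P.A M hB) = 2
  · have h := hS.single hk (by norm_num) hx hx0
    rw [h2', h2, hL1] at h
    norm_num at h
    omega
  obtain ⟨y, hy, hyx⟩ : ∃ y ∈ P.A M hB, y ∉ Submodule.span F {x} := by
    by_contra hc
    push Not at hc
    have h1 := Nat.card_le_card_of_injective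
      (fun y : P.A M hB => (⟨(y : ι → F), hc y y.2⟩ : Submodule.span F {x}))
      fun a b e => Subtype.ext (congrArg (fun z : Submodule.span F {x} => (z : ι → F)) e)
    rw [card_subspace, finrank_span_singleton hx0, h2] at h1
    omega
  have h8 : Nat.card (P.A M hB) = 4 ∨ Nat.card (P.A M hB) = 8 := by
    have h3 : 2 ^ i ≤ 2 ^ 3 := by omega
    have := (Nat.pow_le_pow_iff_right (by norm_num)).1 h3
    interval_cases i <;> simp_all
  rcases h8 with h4 | h8
  · have h := hS.pair hk (by norm_num) hx hy hx0 hyx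
    rw [h4, h2, hC2] at h
    norm_num at h
    omega
  have key : ∀ {x y : ι → F} (n m : ℕ), x ∈ P.A M hB → y ∈ P.A M hB → x ≠ 0 → y ≠ 0 → y ≠ x →
      cls Q (P.A M hB) (Q x) ≤ n → ((Q y = Q x → cls Q (P.A M hB) (Q y) ≤ m + 1) ∧ (Q y ≠ Q x → cls Q (P.A M hB) (Q y) ≤ m)) →
      n * m ≤ 6 → T ≤ M.relIndex (El Q) := by
    intro x y n m hx hy hx0 hy0 hyx hn hm hnm
    have h := hS.pair_exact hk le_rfl hx hy hx0 (not_mem_span_two h2 hy0 hyx)
    have h' := (gram_count hB (P.nondeg hB) hW (by norm_num) x y).1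
    have h'' := gram_inter_le (P := P) hn hm
    rw [h8, h2] at h
    rw [h2, hL1, hL2] at h'
    have h3 : 2 ^ 6 * 138 ≤ M.relIndex (El Q) * (8 * 6) :=
      (Nat.mul_le_mul_left _ h').trans (h.trans (Nat.mul_le_mul_left _
        (Nat.mul_le_mul_left _ (h''.trans hnm))))
    omega
  have hsum := cls_sum (Q := Q) h2 (P.A M hB)
  have hpos := cls_zero_pos (Q := Q) h2 h8
  by_cases h1 : cls Q (P.A M hB) 1 = 0
  · -- totally singular
    have hsing : ∀ a ∈ P.A M hB, Q a = 0 := fun a ha => by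
      by_cases ha0 : a = 0
      · rw [ha0, QuadraticMap.map_zero]
      · by_contra hne
        have := cls_pos (Q := Q) ha ha0
        rw [two_values h2 hne] at this
        omega
    let X : Submodule F (ι → F) :=
      { carrier := {a | a ∈ P.A M hB}
        add_mem' := fun ha hb => (P.A M hB).add_mem ha hb
        zero_mem' := (P.A M hB).zero_mem
        smul_mem' := fun c a ha => by
          by_cases hc : c = 0
          · rw [hc, zero_smul]; exact (P.A M hB).zero_mem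
          · rw [two_values h2 hc, one_smul]; exact ha }
    have hX3 : Module.finrank F X = 3 := by
      have h := card_subspace X
      rw [show Nat.card X = Nat.card (P.A M hB) from rfl, h8, h2] at h
      exact (Nat.pow_right_injective (le_refl 2) (h.symm.trans (by norm_num : (8 : ℕ) = 2 ^ 3)))
    have hcoe : (P.A M hB : Set (ι → F)) = (X : Set (ι → F)) := rfl
    have ho : o3 q ≤ Nat.card (P.orbitA M hB) := by
      have hXW : X ≤ P.W := fun a ha => ha.1
      have hXq : ∀ a ∈ X, Q a = 0 := fun a ha => hsing a ha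
      have hX0 : X ≠ ⊥ := fun e => by rw [e, finrank_bot] at hX3; omega
      have h := P.o3_le_orbit hB hk ⟨X, hXW, hXq, hX3.ge⟩ hXW hXq hX0
      rw [← hcoe] at h
      exact h
    have h := P.index_orbit_one M hB
    rw [P.card_W hB hk, h8, h2] at h
    rw [h2, ho3] at ho
    have h3 : 2 ^ 6 * 15 ≤ M.relIndex (El Q) * 8 := (Nat.mul_le_mul_left _ ho).trans h
    omega
  rcases le_total (cls Q (P.A M hB) 0) (cls Q (P.A M hB) 1) with hle | hle
  · obtain ⟨a, ha, ha0, haq⟩ := exists_of_cls hpos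
    by_cases hn : cls Q (P.A M hB) 0 = 1
    · obtain ⟨b, hb, hb0, hbq⟩ := exists_of_cls (Nat.pos_of_ne_zero h1)
      refine key 1 6 ha hb ha0 hb0 (fun e => zero_ne_one (α := F) (by rw [← haq, ← hbq, e]))
        (by rw [haq, hn]) ?_ le_rfl
      refine ⟨fun e => absurd (hbq.symm.trans (e.trans haq)) one_ne_zero, fun _ => ?_⟩
      rw [hbq]
      omega
    · obtain ⟨b, hb, hb0, hbq, hba⟩ := exists_second_of_cls (S := P.A M hB) (Q := Q) (c := 0)
        (by omega) (x := a)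
      refine key 3 2 ha hb ha0 hb0 hba (by rw [haq]; omega) ?_ le_rfl
      refine ⟨fun _ => ?_, fun e => absurd (hbq.trans haq.symm) e⟩
      rw [hbq]
      omega
  · obtain ⟨a, ha, ha0, haq⟩ := exists_of_cls (Nat.pos_of_ne_zero h1)
    by_cases hn : cls Q (P.A M hB) 1 = 1
    · obtain ⟨b, hb, hb0, hbq⟩ := exists_of_cls hpos
      refine key 1 6 ha hb ha0 hb0 (fun e => zero_ne_one (α := F) (by rw [← haq, ← hbq, e]))
        (by rw [haq, hn]) ?_ le_rfl
      refine ⟨fun e => absurd (hbq.symm.trans (e.trans haq)) zero_ne_one, fun _ => ?_⟩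
      rw [hbq]
      omega
    · obtain ⟨b, hb, hb0, hbq, hba⟩ := exists_second_of_cls (S := P.A M hB) (Q := Q) (c := 1)
        (by omega) (x := a)
      refine key 3 2 ha hb ha0 hb0 hba (by rw [haq]; omega) ?_ le_rfl
      refine ⟨fun _ => ?_, fun e => absurd (hbq.trans haq.symm) e⟩
      rw [hbq]
      omega

/-- From a point whose radical is outside the subgroup. -/
theorem six_two_point (hk : Module.finrank F (ι → F) = 6 + 2) (h2 : q = 2) (hT : T ≤ 120)
    (hne : ∃ x ∈ P.W, x ∉ P.A M hB) :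
    T ≤ M.relIndex (El Q) ∨ ∃ P' : HP Q, Nat.card (P'.A M hB) ≤ 8 := by
  classical
  obtain ⟨hL1, hL2, hC2, ho3⟩ := two_consts
  have hW : Module.finrank F P.W = 6 := by have := P.finrank_W hB; omega
  by_cases h0 : Nat.card (P.A M hB) ≤ 8
  · exact Or.inr ⟨P, h0⟩
  set D := perp (Q := Q) P.W (P.A M hB) with hD
  have hDle := card_perp_le (P.nondeg hB) (A := P.A M hB) fun a ha => ha.1
  rw [← hD, card_subspace, hW, h2] at hDle
  obtain ⟨x₁, hx₁, hx₁A⟩ := hne
  obtain ⟨w, hw, hwne⟩ := exists_perp_ne (P.nondeg hB) (A := P.A M hB) (fun a ha => ha.1) hx₁ hx₁A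
  have hw0 : w ≠ 0 := fun e => hwne (by rw [e, b_zero_left, AddChar.map_zero_eq_one])
  by_cases hD1 : ∀ y ∈ D, y ∈ Submodule.span F {w}
  · -- a hyperplane of parameters
    obtain ⟨h1, -⟩ := le_card_second hB (P.nondeg hB) hW (by norm_num) hw.1 hw0 1 0
    obtain ⟨⟨z, hzW, hzsp, hwz, hzq⟩⟩ : Nonempty {y : ι → F //
        y ∈ P.W ∧ y ∉ Submodule.span F {w} ∧ B w y = 1 ∧ Q y = 0} :=
      (Nat.card_pos_iff.1 (lt_of_lt_of_le (by rw [h2, hL2]; norm_num) h1)).1
    obtain ⟨P', hP'v, hP'f⟩ := P.exists_at hB hzW hzq (fun e => hzsp (e ▸ Submodule.zero_mem _))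
    refine Or.inr ⟨P', (P.card_at_of_hyp M hB hw.1 (fun x hx hwx =>
      mem_of_perp_le (P.nondeg hB) (A := P.A M hB) (fun a ha => ha.1) hD1 hx hwx) ⟨x₁, hx₁, hx₁A⟩
      (by rw [hP'v]; exact hzW) hP'f (by rw [hP'v, hwz]; exact one_ne_zero)).trans (by rw [h2]; norm_num)⟩
  push Not at hD1
  obtain ⟨w', hw', hww'⟩ := hD1
  left
  have hw'0 : w' ≠ 0 := fun e => hww' (e ▸ Submodule.zero_mem _)
  have hw'w : w' ≠ w := fun e => hww' (e ▸ Submodule.mem_span_singleton_self _)
  have hD3 : 3 ≤ Nat.card D := by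
    let f : Fin 3 → D := ![0, ⟨w, hw⟩, ⟨w', hw'⟩]
    have hf : Function.Injective f := by
      intro i j e
      have e' : ((f i : D) : ι → F) = f j := congrArg Subtype.val e
      fin_cases i <;> fin_cases j
      all_goals first
        | rfl
        | exact absurd e' hw0
        | exact absurd e'.symm hw0
        | exact absurd e' hw'0
        | exact absurd e'.symm hw'0
        | exact absurd e' hw'w
        | exact absurd e'.symm hw'w
    have := Nat.card_le_card_of_injective f hf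
    rwa [Nat.card_eq_fintype_card, Fintype.card_fin] at this
  obtain ⟨i, -, hi⟩ : ∃ i ≤ Module.finrank F (ι → F), Nat.card D = 2 ^ i := by
    refine (Nat.dvd_prime_pow Nat.prime_two).1 ?_
    have h := D.card_addSubgroup_dvd_card
    rwa [Module.natCard_eq_pow_finrank (K := F) (V := ι → F), h2] at h
  have hprod : Nat.card D * 9 ≤ 2 ^ 6 :=
    le_trans (Nat.mul_le_mul_left _ (show 9 ≤ Nat.card (P.A M hB) by omega)) hDle
  have hD4 : Nat.card D = 4 := by
    have h3 : 2 ^ i < 2 ^ 3 := by omega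
    have := (Nat.pow_lt_pow_iff_right (by norm_num)).1 h3
    interval_cases i <;> omega
  have hα : Nat.card (P.A M hB) ≤ 16 := by rw [hD4] at hDle; omega
  have hS : Stable P M hB D :=
    ⟨fun _ h => h.1, fun g _ hgv himg x hx => P.lin_perp M hB hgv himg hx⟩
  have key : ∀ {x y : ι → F} (n m c : ℕ), x ∈ D → y ∈ D → x ≠ 0 → y ≠ 0 → y ≠ x →
      cls Q D (Q x) ≤ n → ((Q y = Q x → cls Q D (Q y) ≤ m + 1) ∧ (Q y ≠ Q x → cls Q D (Q y) ≤ m)) →
      c ≤ Nat.card (gram P.W Q x y) → 120 * (16 * (n * m)) ≤ 64 * c → T ≤ M.relIndex (El Q) := by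
    intro x y n m c hx hy hx0 hy0 hyx hn hm hc hle
    have h := hS.pair_exact hk le_rfl hx hy hx0 (not_mem_span_two h2 hy0 hyx)
    have h'' := gram_inter_le (P := P) hn hm
    rw [h2] at h
    rcases Nat.eq_zero_or_pos (n * m) with hz | hz
    · exfalso
      have h' := (gram_count hB (P.nondeg hB) hW (by norm_num) x y).1
      rw [h2, hL1, hL2] at h'
      rw [hz, Nat.le_zero] at h''
      rw [h'', mul_zero, mul_zero] at h
      omega
    refine hT.trans (Nat.le_of_mul_le_mul_right (hle.trans ?_) (show 0 < 16 * (n * m) by omega))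
    calc 64 * c ≤ 2 ^ 6 * Nat.card (gram P.W Q x y) := Nat.mul_le_mul_left _ hc
      _ ≤ _ := h.trans (Nat.mul_le_mul_left _ (Nat.mul_le_mul hα h''))
  have hgram : ∀ (x y : ι → F), 138 ≤ Nat.card (gram P.W Q x y) := fun x y => by
    have h' := (gram_count hB (P.nondeg hB) hW (by norm_num) x y).1
    rwa [h2, hL1, hL2] at h'
  have hsum := cls_sum (Q := Q) h2 D
  rw [hD4] at hsum
  have hsame : ∀ c : F, cls Q D c = 3 → ∃ x ∈ D, x ≠ 0 ∧ Q x = c ∧ ∃ y ∈ D, y ≠ 0 ∧ Q y = c ∧ y ≠ x ∧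
      B x y = -c := by
    intro c hc
    obtain ⟨x, hx, hx0, hxq⟩ := exists_of_cls (show 0 < cls Q D c by omega)
    obtain ⟨y, hy, hy0, hyq, hyx⟩ := exists_second_of_cls (show 2 ≤ cls Q D c by omega) (x := x)
    refine ⟨x, hx, hx0, hxq, y, hy, hy0, hyq, hyx, ?_⟩
    have hxy : x + y ≠ 0 := fun e => hyx (by
      rw [eq_neg_of_add_eq_zero_left (show y + x = 0 by rw [add_comm]; exact e)]
      have h : x + x = 0 := by rw [← two_smul F x, two_eq_zero h2, zero_smul]
      exact neg_eq_of_add_eq_zero_left h)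
    have hq' : Q (x + y) = c := by
      by_contra hne
      have h4 := cls_pos (Q := Q) (D.add_mem hx hy) hxy
      rcases small_values (Or.inl h2) c with rfl | rfl | rfl
      · rw [two_values h2 hne] at h4
        omega
      all_goals by_cases h5 : Q (x + y) = 0
      · rw [h5] at h4; omega
      · exact hne (two_values h2 h5)
      · rw [h5] at h4
        rw [show (-1 : F) = 1 by linear_combination -(two_eq_zero (F := F) h2)] at hc
        omega
      · exact hne ((two_values h2 h5).trans (by linear_combination two_eq_zero (F := F) h2))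
    rw [q_add, hxq, hyq] at hq'
    linear_combination hq'
  have hfirst : ∀ c : F, 23 ≤ Nat.card {a : ι → F // a ∈ P.W ∧ a ≠ 0 ∧ Q a = c} := fun c => by
    have h := (le_card_first hB (P.nondeg hB) (k := 6) hW (by norm_num) c).1
    rwa [h2, hL1] at h
  by_cases h3 : cls Q D 0 = 3
  · obtain ⟨x, hx, hx0, hxq, y, hy, hy0, hyq, hyx, hxy⟩ := hsame 0 h3
    refine key 3 2 (23 * 10) hx hy hx0 hy0 hyx (by rw [hxq, h3]) ?_
      (card_pairs (fun a => a ∈ P.W ∧ a ≠ 0 ∧ Q a = Q x)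
        (fun a b => b ∈ P.W ∧ b ∉ Submodule.span F {a} ∧ B a b = B x y ∧ Q b = Q y) 23 10
        (by rw [hxq]; exact hfirst 0) fun a ha => by
          rw [hxy, hyq, neg_zero]
          exact (second_two hB h2 (P.nondeg hB) hW ha.1 ha.2.1).1 (ha.2.2.trans hxq)) (by norm_num)
    refine ⟨fun _ => ?_, fun e => absurd (hyq.trans hxq.symm) e⟩
    rw [hyq, h3]
  by_cases h4 : cls Q D 1 = 3
  · obtain ⟨x, hx, hx0, hxq, y, hy, hy0, hyq, hyx, hxy⟩ := hsame 1 h4
    refine key 3 2 (23 * 8) hx hy hx0 hy0 hyx (by rw [hxq, h4]) ?_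
      (card_pairs (fun a => a ∈ P.W ∧ a ≠ 0 ∧ Q a = Q x)
        (fun a b => b ∈ P.W ∧ b ∉ Submodule.span F {a} ∧ B a b = B x y ∧ Q b = Q y) 23 8
        (by rw [hxq]; exact hfirst 1) fun a ha => by
          rw [hxy, hyq, show (-1 : F) = 1 by linear_combination -(two_eq_zero (F := F) h2)]
          exact (second_two hB h2 (P.nondeg hB) hW ha.1 ha.2.1).2) (by norm_num)
    refine ⟨fun _ => ?_, fun e => absurd (hyq.trans hxq.symm) e⟩
    rw [hyq, h4]
  obtain ⟨c, c', hcc, hc1, hc2⟩ : ∃ c c' : F, c' ≠ c ∧ cls Q D c = 1 ∧ cls Q D c' = 2 := by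
    rcases (show cls Q D 0 = 1 ∨ cls Q D 1 = 1 by omega) with h | h
    · exact ⟨0, 1, one_ne_zero, h, by omega⟩
    · exact ⟨1, 0, zero_ne_one, h, by omega⟩
  obtain ⟨x, hx, hx0, hxq⟩ := exists_of_cls (show 0 < cls Q D c by omega)
  obtain ⟨y, hy, hy0, hyq⟩ := exists_of_cls (show 0 < cls Q D c' by omega)
  refine key 1 2 138 hx hy hx0 hy0 (fun e => hcc (by rw [← hyq, ← hxq, e])) (by rw [hxq, hc1]) ?_
    (hgram x y) (by norm_num)
  refine ⟨fun e => absurd (hyq.symm.trans (e.trans hxq)) hcc, fun _ => ?_⟩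
  rw [hyq, hc2]

/-- Parameters all along the lines to the neighbours, in the split case. -/
theorem six_two_bad (hC : Compl P M hB) (hk : Module.finrank F (ι → F) = 6 + 2) (h2 : q = 2)
    (hT : T ≤ 120) (hH : HasHalf Q P.W 3) {P₁ : HP Q} (hc : P₁.v ∈ P.W)
    (hbad : ∀ t : F, ∃ x, InM M (P₁.v + t • P.v) x ∧ x ∉ Submodule.span F {P₁.v + t • P.v}) :
    T ≤ M.relIndex (El Q) := by
  classical
  have hW : Module.finrank F P.W = 6 := by have := P.finrank_W hB; omega
  obtain ⟨hR, -⟩ := plus_six hB (P.nondeg hB) hW hH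
  have hH4 : HasHalf Q ⊤ 4 := by
    obtain ⟨X, hXW, hX, hXd⟩ := hH
    refine ⟨X ⊔ Submodule.span F {P.v}, le_top, fun x hx => ?_, ?_⟩
    · obtain ⟨u, hu, w, hw, rfl⟩ := Submodule.mem_sup.1 hx
      obtain ⟨c, rfl⟩ := Submodule.mem_span_singleton.1 hw
      rw [q_add, q_smul, hX u hu, P.hv, b_smul_right, b_comm u P.v, (P.mem_W.1 (hXW hu)).1]
      ring
    · have h1 : X ⊓ Submodule.span F {P.v} = ⊥ := (Submodule.eq_bot_iff _).2 fun x hx => by
        obtain ⟨c, rfl⟩ := Submodule.mem_span_singleton.1 hx.2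
        have h := (P.mem_W.1 (hXW hx.1)).2
        rw [b_smul_right, P.hfv, mul_one] at h
        rw [h, zero_smul]
      have h3 := Submodule.finrank_sup_add_finrank_inf_eq X (Submodule.span F {P.v})
      rw [h1, finrank_bot, finrank_span_singleton P.v_ne] at h3
      omega
  have h4 := lev_plus hB (nondegOn_top hB) (h := 4) (by rw [finrank_top, hk]) hH4
  rw [← card_nonzero_zero, h2] at h4
  have h5 := hC.orbit_avoid hk (by norm_num) hc hbad
  rw [h2] at h5 hR
  rw [show (2 : ℕ) ^ (2 * 4) = 256 by norm_num, show (2 : ℕ) ^ 4 = 16 by norm_num,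
    show (2 : ℕ) ^ (4 + 1) = 32 by norm_num] at h4
  rw [show ((2 : ℕ) ^ 3 - 1) * (2 ^ 2 + 1) = 35 by norm_num] at hR
  have h := hC.orbit_count hk (by norm_num)
  rw [h2, show Nat.card {y : ι → F // y ≠ 0 ∧ Q y = 0} = 135 by omega] at h
  have h8 : M.relIndex (El Q) * Nat.card (pointOrbit P M) ≤ M.relIndex (El Q) * 65 :=
    Nat.mul_le_mul_left _ (by omega)
  have := h.trans h8
  omega

/-- The bound in eight dimensions over two elements. -/
theorem bound_two_six (hB : Nondeg Q) (hk : Module.finrank F (ι → F) = 6 + 2) (h2 : q = 2)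
    (hT : T ≤ 120) (htot : Totals Q T) (H : Subgroup (Cfsg.POmega F ⇑Q)) (hH : H ≠ ⊤) : T ≤ H.index := by
  refine pomega_lower hB (by omega) (fun M hM => ?_) H hH
  by_contra hlt
  have hp : Nat.Prime q := by rw [h2]; norm_num
  obtain ⟨P, hP⟩ := exists_open_point hB (by omega) hM
  obtain ⟨P₁, h₁⟩ := (six_two_point hk h2 hT hP).resolve_left hlt
  have h₂ := (six_two_few hk h2 hT h₁).resolve_left hlt
  obtain ⟨r, hr, hpure⟩ := exists_pure_prime h₂ hk (by norm_num) fun R hRv hRf => by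
    rcases h₂.local_cases hp hk (by norm_num) (Or.inr (Or.inr (Or.inr ⟨rfl, h2⟩))) (P₁ := R) hRv hRf with
      h | ⟨h | ⟨-, -, hH⟩, hbad⟩
    · exact h
    · exact absurd h (by norm_num)
    · exact absurd (six_two_bad h₂ hk h2 hT hH hRv hbad) hlt
  obtain ⟨e1, e2⟩ := conjM_index (M := M) hr
  refine hlt (e1 ▸ hpure.bound hk (by norm_num) (fun h => hM (e2.1 h)) (Or.inl h2) htot ?_)
  rw [h2, two_consts.1, two_consts.2.1]
  omega

end CfsgLib.MinIndexOrth
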